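import Groth.Agent.H60.OverH1

set_option autoImplicit false
open CategoryTheory CategoryTheory.Limits Opposite
universe u

namespace Groth.Agent.H60.OverH

open Groth.Agent.H30.OverShriek Groth.Agent.H31.SieveExt Groth.Agent.H31.LeraySS

variable {C : Type u} [SmallCategory C] (J : GrothendieckTopology C) (U : C)

section const

variable {D : Type u} [SmallCategory D] (K : GrothendieckTopology D) {T : D} (hT : IsTerminal T)

/-- the representable presheaf of a terminal object is the terminal presheaf -/
def yonedaTerminalIso : yoneda.obj T ≅ (Functor.const Dᵒᵖ).obj PUnit.{u + 1} :=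
  NatIso.ofComponents (fun W =>
    { hom := ↾fun _ => PUnit.unit
      inv := ↾fun _ => hT.from W.unop
      hom_inv_id := by
        refine ConcreteCategory.hom_ext _ _ (fun x => ?_)
        exact hT.hom_ext _ _
      inv_hom_id := by
        refine ConcreteCategory.hom_ext _ _ (fun x => ?_)
        rfl })
    (by
      intro W W' g
      refine ConcreteCategory.hom_ext _ _ (fun x => ?_)
      rfl)

/-- the free abelian group on a point -/
noncomputable def freePUnitIso :
    AddCommGrpCat.free.{u}.obj PUnit.{u + 1} ≅ AddCommGrpCat.of (ULift.{u} ℤ) :=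
  ((FreeAbelianGroup.uniqueEquiv PUnit.{u + 1}).trans AddEquiv.ulift.symm).toAddCommGrpIso

/-- the constant sheaf `ℤ` is the free abelian sheaf on a terminal object -/
noncomputable def constIso :
    (constantSheaf K AddCommGrpCat.{u}).obj (AddCommGrpCat.of (ULift.{u} ℤ)) ≅ ZX K T :=
  (presheafToSheaf K AddCommGrpCat.{u}).mapIso
    ((Functor.const Dᵒᵖ).mapIso freePUnitIso.symm ≪≫
      (Functor.constComp Dᵒᵖ PUnit.{u + 1} AddCommGrpCat.free.{u}).symm ≪≫
      Functor.isoWhiskerRight (yonedaTerminalIso hT).symm AddCommGrpCat.free.{u})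

end const

/-- the comparison of `Hom` groups -/
noncomputable def phi (M : Sheaf J AddCommGrpCat.{u}) :
    (ZX J U ⟶ M) ≃+
      ((constantSheaf (J.over U) AddCommGrpCat.{u}).obj (AddCommGrpCat.of (ULift.{u} ℤ)) ⟶
        (restr J U).obj M) :=
  (sigmaAdd J (J.over U) (Over.forget U) (Over.mk (𝟙 U)) M).trans
    { toFun := fun y => (constIso (J.over U) Over.mkIdTerminal).hom ≫ y
      invFun := fun y => (constIso (J.over U) Over.mkIdTerminal).inv ≫ y
      left_inv := fun y => by simp
      right_inv := fun y => by simp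
      map_add' := fun y y' => Preadditive.comp_add _ _ _ _ _ _ }

lemma phi_naturality {M M' : Sheaf J AddCommGrpCat.{u}} (g : M ⟶ M') (x : ZX J U ⟶ M) :
    phi J U M' (x ≫ g) = phi J U M x ≫ (restr J U).map g := by
  show (constIso (J.over U) Over.mkIdTerminal).hom ≫ sigmaAdd J (J.over U) (Over.forget U)
      (Over.mk (𝟙 U)) M' (x ≫ g) =
    ((constIso (J.over U) Over.mkIdTerminal).hom ≫ sigmaAdd J (J.over U) (Over.forget U)
      (Over.mk (𝟙 U)) M x) ≫ (restr J U).map g
  rw [sigmaAdd_apply, sigmaAdd_apply, Functor.map_comp, Category.assoc, Category.assoc]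

/-- cohomology of an object is the cohomology of the localized site -/
theorem nonempty_HU_addEquiv (F : Sheaf J AddCommGrpCat.{u}) (n : ℕ) :
    Nonempty (CohSite.HU F n U ≃+ Sheaf.H.{u} (F.over U) n) := by
  refine Groth.Agent.H31.DeltaComp.nonempty_addEquiv (restr J U) (ZX J U)
    ((constantSheaf (J.over U) AddCommGrpCat.{u}).obj (AddCommGrpCat.of (ULift.{u} ℤ)))
    (phi J U) (fun g x => phi_naturality J U g x) ?_ n F
  intro I hI m
  have := injective_restr J U I
  exact subsingleton_of_forall_eq 0 fun x => Abelian.Ext.eq_zero_of_injective x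

end Groth.Agent.H60.OverH
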