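import Mathlib

namespace Groth.Agent.H60.WidePB

open CategoryTheory Limits WithTerminal

universe w w' v₁ v₂ u₁ u₂
variable {C : Type u₁} [Category.{v₁} C]
variable {D : Type u₂} [Category.{v₂} D]
variable {J : Type w} [Category.{w'} J]

/-- converse of `PreservesLimitsOfShape.overPost` for one diagram -/
lemma preservesLimit_liftFromOver {X : C} (K : J ⥤ Over X) (F : C ⥤ D) [HasLimit K]
    [PreservesLimit K (Over.post F (X := X))] : PreservesLimit (liftFromOver.obj K) F := by
  apply preservesLimit_of_preserves_limit_cone (isLimitEquiv.symm (limit.isLimit K))
  have h1 := isLimitOfPreserves (Over.post F) (limit.isLimit K)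
  have h2 := isLimitEquiv.symm h1
  refine (IsLimit.postcomposeHomEquiv liftFromOverComp.symm _) (h2.ofIsoLimit ?_)
  refine (Cone.ext (.refl _) fun j => ?_)
  cases j with
  | star =>
    refine ((Category.id_comp _).trans (Category.comp_id _)).symm
  | of a =>
    refine ((Category.id_comp _).trans (Category.comp_id _)).symm

/-- every diagram of shape `WithTerminal J` is a lift from the over category -/
noncomputable def overOf (K' : WithTerminal J ⥤ C) : J ⥤ Over (K'.obj star) where
  obj a := Over.mk (K'.map (homFrom a))
  map {a b} f := Over.homMk (K'.map (incl.map f)) (by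
    dsimp
    rw [← K'.map_comp]
    congr 1)
  map_id a := by
    ext
    exact K'.map_id _
  map_comp f g := by
    ext
    exact (congrArg K'.map (incl.map_comp f g)).trans (K'.map_comp _ _)

noncomputable def overOfIso (K' : WithTerminal J ⥤ C) : liftFromOver.obj (overOf K') ≅ K' :=
  NatIso.ofComponents (fun j => match j with
    | .star => Iso.refl _
    | .of a => Iso.refl _) (by
    intro a b f
    cases a with
    | star =>
      cases b with
      | star => 
        refine (Category.comp_id _).trans (Eq.trans ?_ (Category.id_comp _).symm)
        exact (K'.map_id _).symm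
      | of b => exact f.elim
    | of a =>
      cases b with
      | star => 
        refine (Category.comp_id _).trans (Eq.trans ?_ (Category.id_comp _).symm)
        rfl
      | of b => 
        refine (Category.comp_id _).trans (Eq.trans ?_ (Category.id_comp _).symm)
        rfl)


lemma preservesLimitsOfShape_withTerminal (F : C ⥤ D)
    [∀ X : C, HasLimitsOfShape J (Over X)]
    [∀ X : C, PreservesLimitsOfShape J (Over.post F (X := X))] :
    PreservesLimitsOfShape (WithTerminal J) F where
  preservesLimit {K'} := by
    have := preservesLimit_liftFromOver (overOf K') F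
    exact preservesLimit_of_iso_diagram F (overOfIso K')

lemma preservesTerminal_overPost (F : C ⥤ D) (X : C) :
    PreservesLimitsOfShape (Discrete PEmpty.{1}) (Over.post F (X := X)) := by
  have : PreservesLimit (Functor.empty.{0} (Over X)) (Over.post F (X := X)) := by
    apply preservesLimit_of_preserves_limit_cone (Over.mkIdTerminal (X := X))
    apply (isLimitMapConeEmptyConeEquiv _ _).symm _
    refine IsTerminal.ofIso (Over.mkIdTerminal (X := F.obj X)) (Over.isoMk (Iso.refl _) ?_)
    exact (Category.id_comp _).trans (F.map_id X)
  exact preservesLimitsOfShape_pempty_of_preservesTerminal _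

instance hasFiniteProducts_over [HasFiniteLimits C] (X : C) : HasFiniteProducts (Over X) :=
  ⟨fun _ => inferInstance⟩

lemma preservesFiniteProducts_overPost [HasFiniteLimits C] (F : C ⥤ D)
    [PreservesLimitsOfShape WalkingCospan F] (X : C) :
    PreservesFiniteProducts (Over.post F (X := X)) := by
  have h0 : PreservesLimitsOfShape (WidePullbackShape WalkingPair) F :=
    inferInstanceAs (PreservesLimitsOfShape WalkingCospan F)
  have h1 : PreservesLimitsOfShape (Discrete WalkingPair) (Over.post F (X := X)) := inferInstance
  have h2 := preservesTerminal_overPost F X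
  exact PreservesFiniteProducts.of_preserves_binary_and_terminal _

theorem preservesWidePullbacks_of_preservesPullbacks [HasFiniteLimits C] (F : C ⥤ D)
    [PreservesLimitsOfShape WalkingCospan F] (n : ℕ) :
    PreservesLimitsOfShape (WidePullbackShape (Fin n)) F := by
  have h1 : ∀ X : C, PreservesLimitsOfShape (Discrete (Fin n)) (Over.post F (X := X)) := by
    intro X
    have := preservesFiniteProducts_overPost F X
    infer_instance
  have h2 : PreservesLimitsOfShape (WithTerminal (Discrete (Fin n))) F :=
    preservesLimitsOfShape_withTerminal F
  exact preservesLimitsOfShape_of_equiv WithTerminal.widePullbackShapeEquiv.symm F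

end Groth.Agent.H60.WidePB
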