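import Groth.Agent.H60.OverH2
import Groth.Agent.H60.WidePB

set_option autoImplicit false
open CategoryTheory CategoryTheory.Limits Opposite
universe u

namespace Groth.Agent.H60.CocontH

open Groth.Agent.H30.OverShriek Groth.Agent.H31.SieveExt Groth.Agent.H31.LeraySS

variable {C D : Type u} [SmallCategory C] [SmallCategory D]
  (J : GrothendieckTopology C) (K : GrothendieckTopology D) (u : C ⥤ D)

section exact

variable [u.IsContinuous J K] [u.IsCocontinuous J K]

instance preservesFiniteColimits_push : PreservesFiniteColimits (CohSite.push K J u) := by
  have := (u.sheafAdjunctionCocontinuous AddCommGrpCat.{u} J K).leftAdjoint_preservesColimits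
  infer_instance

instance preservesFiniteLimits_push : PreservesFiniteLimits (CohSite.push K J u) := by
  have := (u.sheafAdjunctionContinuous AddCommGrpCat.{u} J K).rightAdjoint_preservesLimits
  infer_instance

end exact


section overSite

variable [HasPullbacks C] [PreservesLimitsOfShape WalkingCospan u] (U : C)

instance hasFiniteLimits_over : HasFiniteLimits (Over U) :=
  hasFiniteLimits_of_hasTerminal_and_pullbacks

instance preservesPullbacks_overPost :
    PreservesLimitsOfShape WalkingCospan (Over.post u (X := U)) := by
  have h1 : PreservesLimitsOfShape WalkingCospan (Over.post u (X := U) ⋙ Over.forget (u.obj U)) := by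
    show PreservesLimitsOfShape WalkingCospan (Over.forget U ⋙ u)
    infer_instance
  exact preservesLimitsOfShape_of_reflects_of_preserves (Over.post u (X := U))
    (Over.forget (u.obj U))

instance preservesFiniteLimits_overPost : PreservesFiniteLimits (Over.post u (X := U)) := by
  have := Groth.Agent.H60.WidePB.preservesTerminal_overPost u U
  exact preservesFiniteLimits_of_preservesTerminal_and_pullbacks _

instance representablyFlat_overPost : RepresentablyFlat (Over.post u (X := U)) :=
  flat_of_preservesFiniteLimits _


variable {J K u} in
lemma isContinuous_overPost (hu : CoverPreserving J K u) :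
    (Over.post u (X := U)).IsContinuous (J.over U) (K.over (u.obj U)) :=
  Functor.isContinuous_of_coverPreserving (compatiblePreservingOfFlat _ _) (hu.overPost U)

variable [u.IsContinuous J K]

/-- `(g⁻¹ F)|_U = g_U⁻¹ (F|_{uU})` -/
noncomputable def overPushIso [(Over.post u (X := U)).IsContinuous (J.over U) (K.over (u.obj U))]
    (F : Sheaf K AddCommGrpCat.{u}) :
    ((CohSite.push K J u).obj F).over U ≅
      ((Over.post u (X := U)).sheafPushforwardContinuous AddCommGrpCat.{u}
        (J.over U) (K.over (u.obj U))).obj (F.over (u.obj U)) :=
  (fullyFaithfulSheafToPresheaf _ _).preimageIso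
    (NatIso.ofComponents (fun _ => Iso.refl _) (by
      intro X Y f
      refine (Category.comp_id _).trans (Eq.trans ?_ (Category.id_comp _).symm)
      rfl))

lemma injective_over_push (hu : CoverPreserving J K u)
    (I : Sheaf K AddCommGrpCat.{u}) [Injective I] :
    Injective (((CohSite.push K J u).obj I).over U) := by
  have hc := isContinuous_overPost U hu
  have h1 : Injective (I.over (u.obj U)) := injective_restr K (u.obj U) I
  have h2' : PreservesFiniteLimits ((Over.post u (X := U)).sheafPullback AddCommGrpCat.{u}
      (J.over U) (K.over (u.obj U))) := by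
    apply Functor.SmallCategories.instPreservesFiniteLimitsSheafSheafPullbackOfRepresentablyFlat
  have h2 : ((Over.post u (X := U)).sheafPullback AddCommGrpCat.{u}
      (J.over U) (K.over (u.obj U))).PreservesMonomorphisms :=
    preservesMonomorphisms_of_preservesLimitsOfShape _
  have h3 := Injective.injective_of_adjoint
    ((Over.post u (X := U)).sheafAdjunctionContinuous AddCommGrpCat.{u} (J.over U)
      (K.over (u.obj U))) (I.over (u.obj U))
  exact Injective.of_iso (overPushIso J K u U I).symm h3

theorem subsingleton_HU_push_injective (hu : CoverPreserving J K u)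
    (I : Sheaf K AddCommGrpCat.{u}) [Injective I] (p : ℕ) :
    Subsingleton (CohSite.HU ((CohSite.push K J u).obj I) (p + 1) U) := by
  obtain ⟨e⟩ := Groth.Agent.H60.OverH.nonempty_HU_addEquiv J U ((CohSite.push K J u).obj I) (p + 1)
  have := injective_over_push J K u U hu I
  have : Subsingleton (Sheaf.H.{u} (((CohSite.push K J u).obj I).over U) (p + 1)) :=
    subsingleton_of_forall_eq 0 fun x => Abelian.Ext.eq_zero_of_injective x
  exact e.toEquiv.subsingleton

end overSite

end Groth.Agent.H60.CocontH
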