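import Groth.Prelude.Def_EtAcyc
import Groth.Agent.H43.EtPullRetract
import Groth.Agent.H4.StalkPull
import Groth.Agent.H4.HpullEt
import Groth.Agent.H4.HpullAPI

/-!
# Composition lemmas for acyclic morphisms (helper60)
-/

set_option autoImplicit false
universe u
open CategoryTheory CategoryTheory.Limits AlgebraicGeometry Opposite Abelian

namespace Groth.Agent.H60.AcycComp

open EtAcyc EtCoh EtCore Groth.Agent.H4.Stalks Groth.Agent.H4.StalkPull Groth.Agent.H4.HpullAPI
open Groth.Agent.H43.EtPullRetract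

/-- inverse image preserves `L`-torsion sheaves -/
theorem isLTorsion_pull {A B : Scheme.{u}} (k : A ⟶ B) (L : Set ℕ) (F : EtCoh.Ab B)
    (hF : IsLTorsion L F) : IsLTorsion L ((EtCoh.pull k).obj F) := by
  intro U s x
  obtain ⟨ux, hux⟩ := Fib.exists_of_point (ξ := geomPt (U.hom x)) U x (geomPt_default _).symm
  let t := (stalkPullIso k (geomPt (U.hom x))).inv.app F (germ ((EtCoh.pull k).obj F) ux s)
  obtain ⟨W, w, σ, hσ⟩ := germ_surjective F t
  obtain ⟨W', g, m, ⟨w', hw'⟩, hm, hmσ⟩ := hF W σ w.pt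
  obtain ⟨y', hy', -⟩ := Fib.exists_lift g w w' hw'
  have h0 : m • t = 0 := by
    rw [← hσ, ← hy', ← germ_res, ← map_nsmul]
    have : m • (F.obj.map g.op) σ = 0 := hmσ
    rw [this, map_zero]
  have h1 : germ ((EtCoh.pull k).obj F) ux (m • s) = 0 := by
    have e1 : (stalkPullIso k (geomPt (U.hom x))).hom.app F t =
        germ ((EtCoh.pull k).obj F) ux s := by
      change ((stalkPullIso k (geomPt (U.hom x))).inv.app F ≫
        (stalkPullIso k (geomPt (U.hom x))).hom.app F) _ = _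
      rw [Iso.inv_hom_id_app]
      rfl
    rw [map_nsmul, ← e1, ← map_nsmul, h0, map_zero]
  obtain ⟨V, g', v, hv, hs⟩ := (germ_eq_zero_iff' _ ux (m • s)).1 h1
  refine ⟨V, g', m, ⟨v, hv.trans hux⟩, hm, ?_⟩
  rw [map_nsmul] at hs
  exact hs

section Iso

variable {A B : Scheme.{u}} (e : A ≅ B)

/-- inverse image along an isomorphism is an equivalence -/
noncomputable def pullEquiv : EtCoh.Ab B ≌ EtCoh.Ab A :=
  CategoryTheory.Equivalence.mk (EtCoh.pull e.hom) (EtCoh.pull e.inv)
    (pullSection e.hom e.inv e.inv_hom_id).symm (pullSection e.inv e.hom e.hom_inv_id)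

instance : (EtCoh.pull e.hom).IsEquivalence :=
  inferInstanceAs (pullEquiv e).functor.IsEquivalence

instance : Etale e.hom := inferInstance

theorem Hpull_bijective_of_iso (G : EtCoh.Ab B) (q : ℕ) :
    Function.Bijective (EtCore.Hpull e.hom G q) := by
  have h1 : Function.Bijective ((EtCoh.pull e.hom).mapExtAddHom
      ((constantSheaf B.smallEtaleTopology AddCommGrpCat.{u+1}).obj (AddCommGrpCat.of (ULift.{u+1} ℤ)))
      G q) :=
    Functor.mapExt_bijective_of_preservesInjectiveObjects (EtCoh.pull e.hom) _ G q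
  have h2 : Function.Bijective (fun x : Ext ((EtCoh.pull e.hom).obj (EtCoh.const B ℤ))
      ((EtCoh.pull e.hom).obj G) q => (Ext.mk₀ (pullConst e.hom ℤ).inv).comp x (zero_add q)) := by
    refine ⟨fun a b hab => ?_, fun y => ⟨(Ext.mk₀ (pullConst e.hom ℤ).hom).comp y (zero_add q), ?_⟩⟩
    · have := congrArg (fun z => (Ext.mk₀ (pullConst e.hom ℤ).hom).comp z (zero_add q)) hab
      simpa [← Ext.comp_assoc_of_second_deg_zero, Ext.mk₀_comp_mk₀] using this
    · simp [← Ext.comp_assoc_of_second_deg_zero, Ext.mk₀_comp_mk₀]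
  exact h2.comp h1

end Iso

section Via

lemma postcomp_iso_bijective {C : Type*} [Category C] [Abelian C] [HasExt.{u+1} C] {X Y Y' : C}
    (e : Y ≅ Y') (n : ℕ) :
    Function.Bijective (fun y : Ext.{u+1} X Y n => y.comp (Ext.mk₀ e.hom) (add_zero n)) := by
  refine ⟨fun a b hab => ?_, fun y => ⟨y.comp (Ext.mk₀ e.inv) (add_zero n), ?_⟩⟩
  · have := congrArg (fun z => z.comp (Ext.mk₀ e.inv) (add_zero n)) hab
    simpa [Ext.comp_assoc_of_third_deg_zero, Ext.mk₀_comp_mk₀] using this
  · simp [Ext.mk₀_comp_mk₀]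

variable {X Y Z : Scheme.{u}} (f : X ⟶ Y) (t : Y ⟶ Z) (f₀ : X ⟶ Z) (w : f ≫ t = f₀)
  (G : EtCoh.Ab Z) (p : ℕ)

lemma HpullVia_eq_comp :
    ⇑(HpullVia f t f₀ w G p) =
      (fun y : EtCoh.H X ((EtCoh.pull f).obj ((EtCoh.pull t).obj G)) p =>
        y.comp (Ext.mk₀ (((pullComp f t).symm ≪≫ pullCongr w).app G).hom) (add_zero p)) ∘
      ⇑(Hpull f ((EtCoh.pull t).obj G) p) := rfl

theorem HpullVia_bijective_iff :
    Function.Bijective (HpullVia f t f₀ w G p) ↔
      Function.Bijective (Hpull f ((EtCoh.pull t).obj G) p) := by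
  rw [HpullVia_eq_comp]
  exact Function.Bijective.of_comp_iff' (postcomp_iso_bijective _ p) _

theorem HpullVia_injective_iff :
    Function.Injective (HpullVia f t f₀ w G p) ↔
      Function.Injective (Hpull f ((EtCoh.pull t).obj G) p) := by
  rw [HpullVia_eq_comp]
  exact Function.Injective.of_comp_iff (postcomp_iso_bijective _ p).1 _

lemma Hpull_comp_eq :
    ⇑(Hpull f₀ G p) = ⇑(HpullVia f t f₀ w G p) ∘ ⇑(Hpull t G p) :=
  funext fun e => (HpullVia_Hpull f t f₀ w G p e).symm

include w in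
theorem Hpull_comp_bijective_iff (h : Function.Bijective (Hpull f ((EtCoh.pull t).obj G) p)) :
    Function.Bijective (Hpull f₀ G p) ↔ Function.Bijective (Hpull t G p) := by
  rw [Hpull_comp_eq f t f₀ w G p]
  exact Function.Bijective.of_comp_iff' ((HpullVia_bijective_iff f t f₀ w G p).2 h) _

include w in
theorem Hpull_comp_injective_iff (h : Function.Injective (Hpull f ((EtCoh.pull t).obj G) p)) :
    Function.Injective (Hpull f₀ G p) ↔ Function.Injective (Hpull t G p) := by
  rw [Hpull_comp_eq f t f₀ w G p]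
  exact Function.Injective.of_comp_iff ((HpullVia_injective_iff f t f₀ w G p).2 h) _

end Via

section CompN

variable {A B C : Scheme.{u}}

theorem compN_of_iso (E : A ≅ B) (L : Set ℕ) (n : ℕ) : CompN E.hom L n :=
  fun F _ _ => ⟨fun q _ => Hpull_bijective_of_iso E F q, (Hpull_bijective_of_iso E F (n + 1)).1⟩

theorem compN_comp_iff (a : A ⟶ B) (b : B ⟶ C) (c : A ⟶ C) (w : a ≫ b = c) (L : Set ℕ) (n : ℕ)
    (ha : CompN a L n) : CompN b L n ↔ CompN c L n := by
  constructor
  · intro hb F hF _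
    obtain ⟨hbB, hbI⟩ := hb F hF
    obtain ⟨haB, haI⟩ := ha ((EtCoh.pull b).obj F) (isLTorsion_pull b L F hF)
    exact ⟨fun q hq => (Hpull_comp_bijective_iff a b c w F q (haB q hq)).2 (hbB q hq),
      (Hpull_comp_injective_iff a b c w F (n + 1) haI).2 hbI⟩
  · intro hc F hF _
    obtain ⟨hcB, hcI⟩ := hc F hF
    obtain ⟨haB, haI⟩ := ha ((EtCoh.pull b).obj F) (isLTorsion_pull b L F hF)
    exact ⟨fun q hq => (Hpull_comp_bijective_iff a b c w F q (haB q hq)).1 (hcB q hq),
      (Hpull_comp_injective_iff a b c w F (n + 1) haI).1 hcI⟩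

end CompN

section Geom

variable {X Y Z : Scheme.{u}} (g : X ⟶ Y) (h : Y ⟶ Z) (V : Z.Etale)

instance : Etale (pullback.snd V.hom h) :=
  haveI : Etale V.hom := V.prop
  inferInstance

/-- the étale `Y`-scheme `Y ×_Z V` -/
noncomputable def VY : Y.Etale := Scheme.Etale.mk (pullback.snd V.hom h)

/-- `X ×_Z V ≅ X ×_Y (Y ×_Z V)` -/
noncomputable def EV : pullback V.hom (g ≫ h) ≅ pullback (VY h V).hom g :=
  (pullbackLeftPullbackSndIso V.hom h g).symm

lemma EV_fac : (EV g h V).hom ≫ (prj g (VY h V) ≫ prj h V) = prj (g ≫ h) V := by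
  rw [← cancel_epi (EV g h V).inv, Iso.inv_hom_id_assoc]
  exact (pullbackLeftPullbackSndIso_hom_fst V.hom h g).symm

theorem isAcyclicN_comp_iff (L : Set ℕ) (n : ℕ) (hg : IsAcyclicN g L n) :
    IsAcyclicN h L n ↔ IsAcyclicN (g ≫ h) L n := by
  have key : ∀ V : Z.Etale, CompN (prj h V) L n ↔ CompN (prj (g ≫ h) V) L n := fun V =>
    (compN_comp_iff (prj g (VY h V)) (prj h V) _ rfl L n (hg (VY h V))).trans
      (compN_comp_iff (EV g h V).hom _ _ (EV_fac g h V) L n (compN_of_iso _ L n))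
  exact ⟨fun hh V => (key V).1 (hh V), fun hh V => (key V).2 (hh V)⟩

end Geom

section Sets

open EtDesc

variable {A B C : Scheme.{u}}

lemma unit_ofNatIsoRight {C D : Type*} [Category C] [Category D] {F : C ⥤ D} {G H : D ⥤ C}
    (adj : F ⊣ G) (iso : G ≅ H) (X : C) :
    (adj.ofNatIsoRight iso).unit.app X = adj.unit.app X ≫ iso.hom.app (F.obj X) := by
  have h1 := (adj.ofNatIsoRight iso).homEquiv_unit (X := X) (Y := F.obj X) (f := 𝟙 _)
  rw [Adjunction.homEquiv_ofNatIsoRight_apply, Adjunction.homEquiv_unit] at h1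
  simp

/-- the unit for a composite in terms of the units of the factors -/
theorem unit_comp_eq (a : A ⟶ B) (b : B ⟶ C) (F : EtDesc.Sh C) :
    (adjSh (a ≫ b)).unit.app F ≫ (pushSh (a ≫ b)).map ((pullCompSh a b).hom.app F) =
      ((adjSh b).unit.app F ≫ (pushSh b).map ((adjSh a).unit.app ((pullSh b).obj F))) ≫
        (pushCompSh b a).hom.app _ := by
  have h := Adjunction.unit_leftAdjointUniq_hom_app (adjSh (a ≫ b))
    (((adjSh b).comp (adjSh a)).ofNatIsoRight (pushCompSh b a)) F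
  rw [unit_ofNatIsoRight, Adjunction.comp_unit_app] at h
  exact h

theorem isIso_unit_comp_iff (a : A ⟶ B) (b : B ⟶ C) (c : A ⟶ C) (w : a ≫ b = c) (F : EtDesc.Sh C)
    (ha : IsIso ((adjSh a).unit.app ((pullSh b).obj F))) :
    IsIso ((adjSh c).unit.app F) ↔ IsIso ((adjSh b).unit.app F) := by
  subst w
  have h := unit_comp_eq a b F
  constructor
  · intro hc
    have h1 : IsIso ((adjSh (a ≫ b)).unit.app F ≫
        (pushSh (a ≫ b)).map ((pullCompSh a b).hom.app F)) := inferInstance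
    rw [h] at h1
    have h2 : IsIso ((adjSh b).unit.app F ≫
        (pushSh b).map ((adjSh a).unit.app ((pullSh b).obj F))) :=
      IsIso.of_isIso_comp_right _ ((pushCompSh b a).hom.app _)
    exact IsIso.of_isIso_comp_right _ ((pushSh b).map ((adjSh a).unit.app ((pullSh b).obj F)))
  · intro hb
    have h1 : IsIso (((adjSh b).unit.app F ≫
        (pushSh b).map ((adjSh a).unit.app ((pullSh b).obj F))) ≫
        (pushCompSh b a).hom.app _) := inferInstance
    rw [← h] at h1
    exact IsIso.of_isIso_comp_right _ ((pushSh (a ≫ b)).map ((pullCompSh a b).hom.app F))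

/-- direct image of sheaves of sets along the identity -/
noncomputable def pushIdSh (Y : Scheme.{u}) : pushSh (𝟙 Y) ≅ 𝟭 (EtDesc.Sh Y) :=
  Functor.sheafPushforwardContinuousId' (bcId Y) (Type (u + 1)) Y.smallEtaleTopology

/-- transport of direct image along an equality -/
noncomputable def pushCongrSh' {f f' : A ⟶ B} (h : f = f') : pushSh f ≅ pushSh f' :=
  eqToIso (by rw [h])

/-- direct image of sheaves of sets along an isomorphism is an equivalence -/
noncomputable def pushEquivSh (E : A ≅ B) : EtDesc.Sh A ≌ EtDesc.Sh B :=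
  CategoryTheory.Equivalence.mk (pushSh E.hom) (pushSh E.inv)
    ((pushIdSh A).symm ≪≫ (pushCongrSh' E.hom_inv_id.symm) ≪≫ (pushCompSh E.inv E.hom).symm)
    (pushCompSh E.hom E.inv ≪≫ pushCongrSh' E.inv_hom_id ≪≫ pushIdSh B)

instance (E : A ≅ B) : (pushSh E.hom).IsEquivalence :=
  inferInstanceAs (pushEquivSh E).functor.IsEquivalence

theorem isIso_unit_of_iso (E : A ≅ B) (F : EtDesc.Sh B) : IsIso ((adjSh E.hom).unit.app F) := by
  have := (adjSh E.hom).isEquivalence_left_of_isEquivalence_right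
  infer_instance

theorem isZeroAcyclic_comp_iff {X Y Z : Scheme.{u}} (g : X ⟶ Y) (h : Y ⟶ Z)
    (hg : IsZeroAcyclic g) : IsZeroAcyclic h ↔ IsZeroAcyclic (g ≫ h) := by
  have key : ∀ (V : Z.Etale) (F : EtDesc.Sh V.left),
      IsIso ((adjSh (prj (g ≫ h) V)).unit.app F) ↔ IsIso ((adjSh (prj h V)).unit.app F) :=
    fun V F =>
      (isIso_unit_comp_iff (EV g h V).hom (prj g (VY h V) ≫ prj h V) _ (EV_fac g h V) F
        (isIso_unit_of_iso (EV g h V) _)).trans
      (isIso_unit_comp_iff (prj g (VY h V)) (prj h V) _ rfl F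
        (hg (VY h V) ((pullSh (prj h V)).obj F)))
  exact ⟨fun hh V F => (key V F).2 (hh V F), fun hh V F => (key V F).1 (hh V F)⟩

end Sets

end Groth.Agent.H60.AcycComp
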