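import Mathlib
import Groth.Prelude.Def_AlgSpOX

open CategoryTheory Limits AlgebraicGeometry

universe u

namespace Groth.Agent.H60.EtSubcan

instance etaleTopology_subcanonical : Scheme.etaleTopology.{u}.Subcanonical :=
  .of_le Scheme.etaleTopology_le_proetaleTopology

set_option backward.isDefEq.respectTransparency.types false in
instance smallEtale_subcanonical (X : Scheme.{u}) : X.smallEtaleTopology.Subcanonical := by
  have h1 : (Scheme.etalePrecoverage.{u}.toGrothendieck).Subcanonical :=
    etaleTopology_subcanonical
  have : (QuotSh.J Scheme.etalePrecoverage X).Subcanonical := by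
    unfold QuotSh.J
    infer_instance
  exact GrothendieckTopology.subcanonical_of_full_of_faithful
    (Scheme.Etale.forget X) _ (QuotSh.J Scheme.etalePrecoverage X)

end Groth.Agent.H60.EtSubcan
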