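import Groth.Agent.H60.LargeSite
import Groth.Prelude.Def_AlgSpOX
import Groth.Agent.H60.EtSubcan

set_option autoImplicit false
set_option backward.isDefEq.respectTransparency false
universe u
open CategoryTheory CategoryTheory.Limits AlgebraicGeometry Opposite
open AlgSp

namespace Groth.Agent.H60.AlgSpQC

variable {S : Scheme.{u}} {X : Sp S}

/-- (g1) covering sieves of the small etale site are the jointly surjective ones. -/
theorem mem_etTop_iff {E : EtOver X} (R : Sieve E) :
    R ∈ etTop X E ↔ ∀ x : ↥E.obj.left.left, ∃ (Y : EtOver X) (f : Y ⟶ E),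
      R f ∧ x ∈ Set.range f.hom.left.left := by
  constructor
  · intro hR
    unfold etTop at hR
    rw [Precoverage.mem_toGrothendieck_iff_of_isStableUnderComposition] at hR
    obtain ⟨P, hP, hle⟩ := hR
    obtain ⟨ι, Y, g, rfl⟩ := P.exists_eq_ofArrows
    rw [ofArrows_mem_etPre_iff] at hP
    intro x
    obtain ⟨i, hi⟩ := hP x
    exact ⟨Y i, g i, hle _ _ (Presieve.ofArrows.mk i), hi⟩
  · intro h
    choose Y f hf hx using h
    refine (etTop X).superset_covering ?_ (ofArrows_mem_etTop Y f (fun x => ⟨x, hx x⟩))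
    rw [Sieve.ofArrows, Sieve.generate_le_iff]
    rintro _ _ ⟨x⟩
    exact hf x


/-! ### (g2) the small etale site of a sheaf is subcanonical -/

lemma etalePrecoverage_le_fppfPrecoverage :
    Scheme.etalePrecoverage.{u} ≤ Scheme.fppfPrecoverage.{u} := by
  unfold Scheme.etalePrecoverage Scheme.fppfPrecoverage
  exact Scheme.precoverage_mono fun _ _ f hf => ⟨inferInstance, inferInstance⟩

lemma etaleJ_le_J (S : Scheme.{u}) : QuotSh.J Scheme.etalePrecoverage S ≤ AlgSp.J S := by
  intro Y R hR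
  rw [GrothendieckTopology.mem_over_iff] at hR ⊢
  exact Precoverage.toGrothendieck_mono etalePrecoverage_le_fppfPrecoverage _ hR

instance etaleJ_subcanonical (S : Scheme.{u}) :
    (QuotSh.J Scheme.etalePrecoverage S).Subcanonical := by
  have h1 : (Scheme.etalePrecoverage.{u}.toGrothendieck).Subcanonical :=
    EtSubcan.etaleTopology_subcanonical
  unfold QuotSh.J
  infer_instance

/-- the restriction of the fppf sheaf `X` to the small etale site is a sheaf. -/
lemma isSheaf_forget_comp (X : Sp S) :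
    Presieve.IsSheaf (etTop X) ((EtOver.forget X).op ⋙ X.obj) := by
  refine Functor.op_comp_isSheaf_of_isSheaf_type (EtOver.forget X) (etTop X)
    (K := QuotSh.J Scheme.etalePrecoverage S) ?_
  refine Presieve.isSheaf_of_le _ (etaleJ_le_J S) ?_
  rw [← isSheaf_iff_isSheaf_of_type]
  exact X.property

lemma isSheaf_forget_comp_yoneda (X : Sp S) (U : Over S) :
    Presieve.IsSheaf (etTop X) ((EtOver.forget X).op ⋙ yoneda.obj U) := by
  refine Functor.op_comp_isSheaf_of_isSheaf_type (EtOver.forget X) (etTop X)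
    (K := QuotSh.J Scheme.etalePrecoverage S) ?_
  exact GrothendieckTopology.Subcanonical.isSheaf_of_isRepresentable (yoneda.obj U)


instance etTop_subcanonical (X : Sp S) : (etTop X).Subcanonical := by
  refine GrothendieckTopology.Subcanonical.of_isSheaf_yoneda_obj _ fun E' => ?_
  intro E R hR x hx
  let x' : Presieve.FamilyOfElements ((EtOver.forget X).op ⋙ yoneda.obj E'.obj.left) R.arrows :=
    fun Y f hf => (x f hf).hom.left
  have hx' : x'.Compatible := by
    intro Y₁ Y₂ Z g₁ g₂ f₁ f₂ h₁ h₂ h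
    have := hx g₁ g₂ h₁ h₂ h
    exact congrArg (fun k => k.hom.left) this
  obtain ⟨t', ht', huniq⟩ := isSheaf_forget_comp_yoneda X E'.obj.left R hR x' hx'
  have hw : (yon S).map t' ≫ E'.obj.hom = E.obj.hom := by
    apply (J S).uliftYonedaEquiv.injective
    refine ((isSheaf_forget_comp X) R hR).isSeparatedFor.ext fun Y f hf => ?_
    have e1 := GrothendieckTopology.uliftYonedaEquiv_naturality (J S)
      ((yon S).map t' ≫ E'.obj.hom) f.hom.left
    have e2 := GrothendieckTopology.uliftYonedaEquiv_naturality (J S) E.obj.hom f.hom.left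
    refine e1.trans (Eq.trans ?_ e2.symm)
    congr 1
    have h1 : f.hom.left ≫ t' = (x f hf).hom.left := ht' f hf
    have h2 : (yon S).map f.hom.left ≫ (yon S).map t' = (yon S).map (x f hf).hom.left := by
      rw [← Functor.map_comp, h1]
    rw [← Category.assoc]
    refine (congrArg (· ≫ E'.obj.hom) h2).trans ?_
    exact (EtOver.w (x f hf)).trans (EtOver.w f).symm
  refine ⟨EtOver.homMk t' hw, ?_, ?_⟩
  · intro Y f hf
    apply EtOver.hom_ext
    exact ht' f hf
  · intro t ht
    apply EtOver.hom_ext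
    exact huniq t.hom.left (fun Y f hf => congrArg (fun k => k.hom.left) (ht f hf))


/-! ### quasi-compact quasi-separated objects -/

/-- objects of the small etale site whose underlying scheme is quasi-compact and quasi-separated -/
def QC (E : EtOver X) : Prop :=
  CompactSpace ↥E.obj.left.left ∧ QuasiSeparatedSpace ↥E.obj.left.left

lemma qc_of_iso {U V : EtOver X} (e : U ≅ V) (h : QC U) : QC V := by
  obtain ⟨h1, h2⟩ := h
  let e' : U.obj.left.left ≅ V.obj.left.left := (EtOver.toScheme X).mapIso e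
  exact ⟨QuasiCompact.compactSpace_of_compactSpace e'.inv,
    quasiSeparatedSpace_of_quasiSeparated e'.inv⟩

lemma qc_of_isAffine (W : EtOver X) (hW : IsAffine W.obj.left.left) : QC W :=
  ⟨inferInstance, inferInstance⟩

lemma qc_of_isPullback {P A B U : EtOver X} {p : P ⟶ A} {q : P ⟶ B} {f : A ⟶ U} {g : B ⟶ U}
    (sq : IsPullback p q f g) (hA : QC A) (hB : QC B) (hU : QC U) : QC P := by
  obtain ⟨hA1, hA2⟩ := hA
  obtain ⟨hB1, hB2⟩ := hB
  obtain ⟨hU1, hU2⟩ := hU
  have sq' := sq.map (EtOver.toScheme X)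
  let f' : A.obj.left.left ⟶ U.obj.left.left := (EtOver.toScheme X).map f
  let g' : B.obj.left.left ⟶ U.obj.left.left := (EtOver.toScheme X).map g
  have : QuasiCompact g' := quasiCompact_of_compactSpace g'
  have : QuasiSeparated g' := inferInstance
  have : CompactSpace ↑(pullback f' g') := inferInstance
  have : QuasiSeparatedSpace ↑(pullback f' g') :=
    quasiSeparatedSpace_of_quasiSeparated (pullback.fst f' g')
  exact ⟨QuasiCompact.compactSpace_of_compactSpace sq'.isoPullback.hom,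
    quasiSeparatedSpace_of_quasiSeparated sq'.isoPullback.hom⟩

/-- a scheme etale over the underlying scheme of `E`, as an object of the small etale site. -/
noncomputable abbrev sub (E : EtOver X) (V : E.obj.left.left.Etale) : EtOver X :=
  (EtOver.ofChart E.obj.hom E.property).obj V

noncomputable def subι (E : EtOver X) (V : E.obj.left.left.Etale) : sub E V ⟶ E :=
  EtOver.homMk (EtOver.homOfEtale V) rfl

lemma subι_left (E : EtOver X) (V : E.obj.left.left.Etale) :
    (subι E V).hom.left.left = V.hom := rfl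

lemma exists_affine_arrow (E : EtOver X) (R : Sieve E) (hR : R ∈ etTop X E)
    (x : ↥E.obj.left.left) :
    ∃ (W : EtOver X) (g : W ⟶ E), IsAffine W.obj.left.left ∧ R g ∧
      x ∈ Set.range g.hom.left.left := by
  obtain ⟨Y, f, hf, y, hy⟩ := (mem_etTop_iff R).1 hR x
  let 𝒰 := Y.obj.left.left.affineCover
  let j := 𝒰.idx y
  obtain ⟨w, hw⟩ := 𝒰.covers y
  let V : Y.obj.left.left.Etale := Scheme.Etale.mk (𝒰.f j)
  refine ⟨sub Y V, subι Y V ≫ f, ?_, R.downward_closed hf _, ⟨w, ?_⟩⟩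
  · show IsAffine (𝒰.X j)
    infer_instance
  · exact (congrArg (fun t => f.hom.left.left t) hw).trans hy


lemma covfin (U : EtOver X) (hU : QC U) (R : Sieve U) (hR : R ∈ etTop X U) :
    ∃ (n : ℕ) (V : Fin n → EtOver X) (f : ∀ k, V k ⟶ U),
      (∀ k, QC (V k)) ∧ (∀ k, R.arrows (f k)) ∧ Sieve.ofArrows V f ∈ etTop X U := by
  classical
  obtain ⟨hU1, hU2⟩ := hU
  choose W g hW hg hx using exists_affine_arrow U R hR
  have hopen : ∀ x, IsOpen (Set.range (g x).hom.left.left) := fun x =>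
    haveI := EtOver.etale_left (g x)
    (g x).hom.left.left.isOpenMap.isOpen_range
  obtain ⟨t, ht⟩ := CompactSpace.elim_nhds_subcover (fun x => Set.range (g x).hom.left.left)
    (fun x => (hopen x).mem_nhds (hx x))
  let e := t.equivFin
  refine ⟨t.card, fun k => W (e.symm k).1, fun k => g (e.symm k).1,
    fun k => qc_of_isAffine _ (hW _), fun k => hg _, ?_⟩
  refine ofArrows_mem_etTop _ _ fun x => ?_
  have hx' : x ∈ ⋃ x0 ∈ t, Set.range (g x0).hom.left.left := by rw [ht]; trivial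
  simp only [Set.mem_iUnion] at hx'
  obtain ⟨x0, hx0, hw⟩ := hx'
  refine ⟨e ⟨x0, hx0⟩, ?_⟩
  rw [Equiv.symm_apply_apply]
  exact hw

lemma cov (E : EtOver X) : ∃ (ι : Type (u + 1)) (V : ι → EtOver X) (g : ∀ i, V i ⟶ E),
    (∀ i, QC (V i)) ∧ Sieve.ofArrows V g ∈ etTop X E := by
  let 𝒰 := E.obj.left.left.affineCover
  refine ⟨ULift.{u + 1} 𝒰.I₀, fun i => sub E (Scheme.Etale.mk (𝒰.f i.down)),
    fun i => subι E _, fun i => qc_of_isAffine _ ?_, ?_⟩
  · show IsAffine (𝒰.X i.down)
    infer_instance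
  · refine ofArrows_mem_etTop _ _ fun x => ?_
    obtain ⟨w, hw⟩ := 𝒰.covers x
    exact ⟨⟨𝒰.idx x⟩, w, hw⟩


/-- the magic square -/
lemma isPullback_diag {D : Type*} [Category D] [HasBinaryProducts D] {X A₁ A₂ P Q : D}
    {a₁ : A₁ ⟶ X} {a₂ : A₂ ⟶ X} {p₁ : P ⟶ A₁} {p₂ : P ⟶ A₂} (hP : IsPullback p₁ p₂ a₁ a₂)
    {q₁ : Q ⟶ A₁} {q₂ : Q ⟶ A₂} (hQ : IsLimit (BinaryFan.mk q₁ q₂))
    (l : P ⟶ Q) (hl₁ : l ≫ q₁ = p₁) (hl₂ : l ≫ q₂ = p₂) :
    IsPullback (p₁ ≫ a₁) l (Limits.diag X) (prod.lift (q₁ ≫ a₁) (q₂ ≫ a₂)) := by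
  have w : (p₁ ≫ a₁) ≫ Limits.diag X = l ≫ prod.lift (q₁ ≫ a₁) (q₂ ≫ a₂) := by
    ext
    · simp only [Category.assoc, prod.lift_fst, Category.comp_id]
      rw [← hl₁, Category.assoc]
    · simp only [Category.assoc, prod.lift_snd, Category.comp_id]
      rw [hP.w, ← hl₂, Category.assoc]
  have key : ∀ (s : PullbackCone (Limits.diag X) (prod.lift (q₁ ≫ a₁) (q₂ ≫ a₂))),
      (s.snd ≫ q₁) ≫ a₁ = (s.snd ≫ q₂) ≫ a₂ ∧ s.fst = (s.snd ≫ q₁) ≫ a₁ := by
    intro s
    have h1 := congrArg (· ≫ prod.fst) s.condition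
    have h2 := congrArg (· ≫ prod.snd) s.condition
    simp only [Category.assoc, Category.comp_id, prod.lift_fst,
      prod.lift_snd] at h1 h2
    exact ⟨by rw [Category.assoc, Category.assoc, ← h1, ← h2], by rw [Category.assoc, ← h1]⟩
  refine ⟨⟨w⟩, ⟨PullbackCone.IsLimit.mk _
    (fun s => hP.lift (s.snd ≫ q₁) (s.snd ≫ q₂) (key s).1) ?_ ?_ ?_⟩⟩
  · intro s
    rw [← Category.assoc, hP.lift_fst]
    exact (key s).2.symm
  · intro s
    refine BinaryFan.IsLimit.hom_ext hQ ?_ ?_
    · change (_ ≫ l) ≫ q₁ = s.snd ≫ q₁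
      rw [Category.assoc, hl₁, hP.lift_fst]
    · change (_ ≫ l) ≫ q₂ = s.snd ≫ q₂
      rw [Category.assoc, hl₂, hP.lift_snd]
  · intro s m h1 h2
    apply hP.hom_ext
    · rw [hP.lift_fst, ← h2, Category.assoc, hl₁]
    · rw [hP.lift_snd, ← h2, Category.assoc, hl₂]

/-- (g3) the product of two qcqs objects over a quasi-separated algebraic space is qcqs. -/
lemma qc_prodObj [QuasiSeparatedSpace ↥S] (hqs : IsQuasiSeparatedSp X) (E₁ E₂ : EtOver X)
    (h₁ : QC E₁) (h₂ : QC E₂) : QC (EtOver.prodObj E₁ E₂) := by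
  obtain ⟨h11, h12⟩ := h₁
  obtain ⟨h21, h22⟩ := h₂
  let U₁ : Over S := E₁.obj.left
  let U₂ : Over S := E₂.obj.left
  let W : Over S := E₂.property.1.pullback E₁.obj.hom
  let a : W ⟶ U₁ := E₂.property.1.snd E₁.obj.hom
  let b : W ⟶ U₂ := E₂.property.1.fst' E₁.obj.hom
  have sq0 : IsPullback ((yon S).map b) ((yon S).map a) E₂.obj.hom E₁.obj.hom :=
    E₂.property.1.isPullback' E₁.obj.hom
  have sq1 := sq0.flip
  have hQ : IsLimit (BinaryFan.mk ((yon S).map (prod.fst : U₁ ⨯ U₂ ⟶ U₁))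
      ((yon S).map (prod.snd : U₁ ⨯ U₂ ⟶ U₂))) :=
    isLimitOfHasBinaryProductOfPreservesLimit (yon S) U₁ U₂
  have sq := isPullback_diag sq1 hQ ((yon S).map (prod.lift a b))
    (by rw [← Functor.map_comp, prod.lift_fst]) (by rw [← Functor.map_comp, prod.lift_snd])
  have hqc : QuasiCompact (prod.lift a b).left := hqs.2 _ _ _ sq
  -- the product of the underlying schemes over `S` is qcqs
  have : QuasiCompact U₂.hom := quasiCompact_of_compactSpace U₂.hom
  have : QuasiSeparated U₂.hom := inferInstance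
  have : CompactSpace ↑(pullback U₁.hom U₂.hom) := inferInstance
  have : QuasiSeparatedSpace ↑(pullback U₁.hom U₂.hom) :=
    quasiSeparatedSpace_of_quasiSeparated (pullback.fst U₁.hom U₂.hom)
  have hc : CompactSpace ↑(U₁ ⨯ U₂).left :=
    QuasiCompact.compactSpace_of_compactSpace (Over.prodLeftIsoPullback U₁ U₂).hom
  have hs : QuasiSeparatedSpace ↑(U₁ ⨯ U₂).left :=
    quasiSeparatedSpace_of_quasiSeparated (Over.prodLeftIsoPullback U₁ U₂).hom
  have hmono : Mono (prod.lift a b) := by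
    refine ⟨fun {Z} g h hgh => ?_⟩
    refine Functor.relativelyRepresentable.hom_ext' E₂.property.1 ?_ ?_
    · have := congrArg (· ≫ prod.snd) hgh
      simpa only [Category.assoc, prod.lift_snd] using this
    · have := congrArg (· ≫ prod.fst) hgh
      simpa only [Category.assoc, prod.lift_fst] using this
  have hmono' : Mono (prod.lift a b).left := inferInstance
  exact ⟨QuasiCompact.compactSpace_of_compactSpace (prod.lift a b).left,
    quasiSeparatedSpace_of_quasiSeparated (prod.lift a b).left⟩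


lemma qc_of_isLimit [QuasiSeparatedSpace ↥S] (hqs : IsQuasiSeparatedSp X) {P A B : EtOver X}
    {p : P ⟶ A} {q : P ⟶ B} (hl : IsLimit (BinaryFan.mk p q)) (hA : QC A) (hB : QC B) : QC P :=
  qc_of_iso ((EtOver.prodIsLimit A B).conePointUniqueUpToIso hl) (qc_prodObj hqs A B hA hB)

/-- (g4) a quasi-compact sheaf is covered by finitely many affine objects of its small etale site. -/
lemma top (hqc : IsQuasiCompactSp X) : ∃ (n : ℕ) (E : Fin n → EtOver X), (∀ k, QC (E k)) ∧
    ∀ Y : EtOver X, ∃ R ∈ etTop X Y, ∀ ⦃Z : EtOver X⦄ (f : Z ⟶ Y), R f →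
      ∃ k, Nonempty (Z ⟶ E k) := by
  obtain ⟨U, p, hp, hsurj, hU⟩ := hqc
  have : CompactSpace ↥U.left := hU
  let U' : EtOver X := EtOver.mk p hp
  let 𝒰 := U.left.affineCover.finiteSubcover
  let e : 𝒰.I₀ ≃ Fin (Fintype.card 𝒰.I₀) := Fintype.equivFin 𝒰.I₀
  let V : 𝒰.I₀ → U'.obj.left.left.Etale := fun i => Scheme.Etale.mk (𝒰.f i)
  refine ⟨Fintype.card 𝒰.I₀, fun k => sub U' (V (e.symm k)),
    fun k => qc_of_isAffine _ ?_, fun Y => ?_⟩
  · show IsAffine (𝒰.X (e.symm k))
    infer_instance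
  · let R : Sieve Y :=
      { arrows := fun Z _ => ∃ k, Nonempty (Z ⟶ sub U' (V (e.symm k)))
        downward_closed := by
          rintro Z Z' f ⟨k, ⟨g⟩⟩ h
          exact ⟨k, ⟨h ≫ g⟩⟩ }
    refine ⟨R, ?_, fun Z f hf => hf⟩
    rw [mem_etTop_iff]
    intro x
    -- the fibre product with the chart
    have hs : Surjective (EtOver.prodFst Y U').hom.left.left :=
      hsurj.2 Y.obj.hom _ _ (U'.property.1.isPullback Y.obj.hom)
    obtain ⟨w, hw⟩ := hs.surj x
    obtain ⟨i, v, hv⟩ := 𝒰.exists_eq ((EtOver.prodSnd Y U').hom.left.left w)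
    obtain ⟨k, rfl⟩ := e.symm.surjective i
    have sq := (EtOver.isPullback (EtOver.prodSnd Y U') (subι U' (V (e.symm k)))).map
      (EtOver.toScheme X)
    obtain ⟨z, hz1, hz2⟩ := Scheme.exists_preimage_of_isPullback sq w v hv.symm
    refine ⟨_, EtOver.pullbackFst _ _ ≫ EtOver.prodFst Y U', ⟨k, ⟨EtOver.pullbackSnd _ _⟩⟩, z, ?_⟩
    exact (congrArg (fun t => (EtOver.prodFst Y U').hom.left.left t) hz1).trans hw


theorem largeQC [QuasiSeparatedSpace ↥S] (hqc : IsQuasiCompactSp X) (hqs : IsQuasiSeparatedSp X) :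
    LargeSite.LargeQC (etTop X) (QC (X := X)) where
  iso e h := qc_of_iso e h
  pb sq hA hB hU := qc_of_isPullback sq hA hB hU
  prod hl hA hB := qc_of_isLimit hqs hl hA hB
  covfin U hU R hR := covfin U hU R hR
  cov E := cov E
  top := top hqc

/-- Etale cohomology of a quasi-compact quasi-separated algebraic space commutes with filtered
colimits. -/
theorem preservesColimitsOfShape_HEtF [QuasiSeparatedSpace ↥S] (X : Sp S)
    (hqc : IsQuasiCompactSp X) (hqs : IsQuasiSeparatedSp X)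
    (Λ : Type (u + 1)) [SmallCategory Λ] [IsFiltered Λ] (q : ℕ) :
    PreservesColimitsOfShape Λ (HEtF X q) := by
  unfold HEtF
  exact LargeSite.preservesColimitsOfShape_functorH (etTop X) (largeQC hqc hqs) Λ q

end Groth.Agent.H60.AlgSpQC
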