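import Mathlib
import Groth.Prelude.Def_W4c5etcohweilstudentAS

set_option autoImplicit false
universe u
open Polynomial

namespace Groth.Agent.H60.ArtinSchreier

section Alg

variable (B : Type u) [CommRing B] (p : ℕ) (hp : p.Prime) (h0 : (p : B) = 0) (a : B)

include hp h0 in
lemma derivative_as : derivative (X ^ p - X - C a : B[X]) = -1 := by
  rw [derivative_sub, derivative_sub, derivative_X_pow, derivative_X, derivative_C, h0]
  simp

include hp in
lemma monic_as : (X ^ p - X - C a : B[X]).Monic := by
  rw [sub_sub]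
  apply monic_X_pow_sub
  refine lt_of_le_of_lt (degree_add_le _ _) ?_
  refine lt_of_le_of_lt (max_le degree_X_le (degree_C_le.trans (by norm_num))) ?_
  exact_mod_cast hp.one_lt

/-- the Artin–Schreier standard étale pair -/
noncomputable def asPair : StandardEtalePair B where
  f := X ^ p - X - C a
  monic_f := monic_as B p hp a
  g := 1
  cond := ⟨-1, 0, 0, by rw [derivative_as B p hp h0 a]; simp⟩

lemma asPair_root : (asPair B p hp h0 a).X ^ p - (asPair B p hp h0 a).X =
    algebraMap B (asPair B p hp h0 a).Ring a := by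
  have h := (StandardEtalePair.hasMap_X (P := asPair B p hp h0 a)).1
  change aeval _ (X ^ p - X - C a : B[X]) = 0 at h
  simpa [sub_eq_zero] using h

lemma comap_surjective_as :
    Function.Surjective (PrimeSpectrum.comap (algebraMap B (asPair B p hp h0 a).Ring)) := by
  intro q
  let K := AlgebraicClosure q.asIdeal.ResidueField
  let ψ : B →+* K := (algebraMap q.asIdeal.ResidueField K).comp (algebraMap B q.asIdeal.ResidueField)
  letI : Algebra B K := ψ.toAlgebra
  have hB : Nontrivial B :=
    ⟨⟨0, 1, fun h => q.2.ne_top ((Ideal.eq_top_iff_one _).2 (h ▸ q.asIdeal.zero_mem))⟩⟩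
  have hnat : (X ^ p - X - C a : B[X]).natDegree = p := by
    rw [sub_sub, natDegree_sub_eq_left_of_natDegree_lt, natDegree_X_pow]
    rw [natDegree_X_pow]
    exact lt_of_le_of_lt (natDegree_add_le _ _)
      (lt_of_le_of_lt (max_le natDegree_X_le ((natDegree_C a).le.trans (Nat.zero_le _))) hp.one_lt)
  have hdeg : ((X ^ p - X - C a : B[X]).map ψ).degree ≠ 0 := by
    rw [(monic_as B p hp a).degree_map, degree_eq_natDegree (monic_as B p hp a).ne_zero, hnat]
    exact_mod_cast hp.ne_zero
  obtain ⟨b, hb⟩ := IsAlgClosed.exists_root _ hdeg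
  have hmap : (asPair B p hp h0 a).HasMap b := by
    refine ⟨?_, ?_⟩
    · rw [IsRoot.def, eval_map] at hb
      exact hb
    · change IsUnit (aeval b (1 : B[X]))
      simp
  let φ := (asPair B p hp h0 a).lift b hmap
  refine ⟨⟨RingHom.ker φ.toRingHom, RingHom.ker_isPrime _⟩, ?_⟩
  ext r
  simp only [PrimeSpectrum.comap_asIdeal, Ideal.mem_comap, RingHom.mem_ker]
  have : φ.toRingHom (algebraMap B _ r) = ψ r := φ.commutes r
  rw [this]
  change (algebraMap q.asIdeal.ResidueField K) (algebraMap B q.asIdeal.ResidueField r) = 0 ↔ _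
  rw [map_eq_zero_iff _ (algebraMap q.asIdeal.ResidueField K).injective,
    Ideal.algebraMap_residueField_eq_zero]

end Alg

end Groth.Agent.H60.ArtinSchreier
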