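import Mathlib
import Groth.Prelude.Def_W4c5etcohweilstudentAS
import Groth.Agent.H60.AS1

set_option autoImplicit false
set_option backward.isDefEq.respectTransparency.types false
universe u
open CategoryTheory CategoryTheory.Limits AlgebraicGeometry Opposite

namespace Groth.Agent.H60.ArtinSchreier

open W4c5etcohweilstudent

section Cover

variable {S : Scheme.{u}} (p : ℕ) (hp : p.Prime) (h0 : (p : Γ(S, ⊤)) = 0)

/-- `Spec` of an algebra over the global functions of an affine scheme, as a scheme over it -/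
noncomputable def specOver (T : Scheme.{u}) [IsAffine T] (B' : Type u) [CommRing B']
    [Algebra Γ(T, ⊤) B'] : Spec (CommRingCat.of B') ⟶ T :=
  Spec.map (CommRingCat.ofHom (algebraMap Γ(T, ⊤) B')) ≫ T.isoSpec.inv

lemma specOver_appTop_apply (T : Scheme.{u}) [IsAffine T] (B' : Type u) [CommRing B']
    [Algebra Γ(T, ⊤) B'] (a : Γ(T, ⊤)) :
    (specOver T B').appTop.hom a =
      (Scheme.ΓSpecIso (CommRingCat.of B')).inv.hom (algebraMap Γ(T, ⊤) B' a) := by
  have h1 : T.isoSpec.inv.appTop = (Scheme.ΓSpecIso Γ(T, ⊤)).inv := by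
    have e1 : T.isoSpec.inv.appTop ≫ T.isoSpec.hom.appTop = 𝟙 _ := by
      rw [← Scheme.Hom.comp_appTop, Iso.hom_inv_id]; rfl
    rw [Scheme.isoSpec_hom, Scheme.toSpecΓ_appTop] at e1
    exact (Iso.comp_hom_eq_id _).1 e1
  have h2 : (specOver T B').appTop = (Scheme.ΓSpecIso Γ(T, ⊤)).inv ≫
      (Spec.map (CommRingCat.ofHom (algebraMap Γ(T, ⊤) B'))).appTop := by
    rw [specOver, Scheme.Hom.comp_appTop, h1]
  have h3 := Scheme.ΓSpecIso_naturality (CommRingCat.ofHom (algebraMap Γ(T, ⊤) B'))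
  have h4 : ∀ x, (Scheme.ΓSpecIso (CommRingCat.of B')).hom.hom
      ((Spec.map (CommRingCat.ofHom (algebraMap Γ(T, ⊤) B'))).appTop.hom x) =
      algebraMap Γ(T, ⊤) B' ((Scheme.ΓSpecIso Γ(T, ⊤)).hom.hom x) := fun x =>
    congrArg (fun m => m.hom x) h3
  rw [h2]
  change (Spec.map (CommRingCat.ofHom (algebraMap Γ(T, ⊤) B'))).appTop.hom
    ((Scheme.ΓSpecIso Γ(T, ⊤)).inv.hom a) = _
  have h5 := h4 ((Scheme.ΓSpecIso Γ(T, ⊤)).inv.hom a)
  have h6 : (Scheme.ΓSpecIso Γ(T, ⊤)).hom.hom ((Scheme.ΓSpecIso Γ(T, ⊤)).inv.hom a) = a :=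
    congrArg (fun m => m.hom a) (Scheme.ΓSpecIso Γ(T, ⊤)).inv_hom_id
  rw [h6] at h5
  rw [← h5]
  have h7 : ∀ y, (Scheme.ΓSpecIso (CommRingCat.of B')).inv.hom
      ((Scheme.ΓSpecIso (CommRingCat.of B')).hom.hom y) = y := fun y =>
    congrArg (fun m => m.hom y) (Scheme.ΓSpecIso (CommRingCat.of B')).hom_inv_id
  exact (h7 _).symm

instance etale_specOver (T : Scheme.{u}) [IsAffine T] (B' : Type u) [CommRing B']
    [Algebra Γ(T, ⊤) B'] [Algebra.Etale Γ(T, ⊤) B'] : Etale (specOver T B') := by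
  have : Etale (Spec.map (CommRingCat.ofHom (algebraMap Γ(T, ⊤) B'))) := by
    rw [HasRingHomProperty.Spec_iff (P := @Etale)]
    exact RingHom.etale_algebraMap.2 inferInstance
  unfold specOver
  infer_instance

lemma exists_specOver_eq (T : Scheme.{u}) [IsAffine T] (B' : Type u) [CommRing B']
    [Algebra Γ(T, ⊤) B']
    (hsurj : Function.Surjective (PrimeSpectrum.comap (algebraMap Γ(T, ⊤) B'))) (t : T) :
    ∃ v : Spec (CommRingCat.of B'), specOver T B' v = t := by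
  obtain ⟨q', hq'⟩ := hsurj (T.isoSpec.hom t)
  refine ⟨q', ?_⟩
  rw [specOver, Scheme.Hom.comp_apply]
  have : Spec.map (CommRingCat.ofHom (algebraMap Γ(T, ⊤) B')) q' = T.isoSpec.hom t := hq'
  rw [this, ← Scheme.Hom.comp_apply, Iso.hom_inv_id]
  rfl

include hp h0 in
lemma exists_as_cover_affine (U : S.Etale) [IsAffine U.left] (a : Γ(U.left, ⊤)) (u : U.left) :
    ∃ (V : S.Etale) (g : V ⟶ U) (v : V.left) (b : Γ(V.left, ⊤)),
      g.left v = u ∧ b ^ p - b = g.left.appTop.hom a := by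
  have h0B : (p : Γ(U.left, ⊤)) = 0 := natCast_eq_zero_etale p h0 U
  let P := asPair Γ(U.left, ⊤) p hp h0B a
  let π : Spec (CommRingCat.of P.Ring) ⟶ U.left := specOver U.left P.Ring
  let V : S.Etale := Scheme.Etale.mk (π ≫ U.hom)
  let g : V ⟶ U := MorphismProperty.Over.homMk π rfl trivial
  obtain ⟨v, hv⟩ := exists_specOver_eq U.left P.Ring (comap_surjective_as _ p hp h0B a) u
  refine ⟨V, g, v, (Scheme.ΓSpecIso (CommRingCat.of P.Ring)).inv.hom P.X, hv, ?_⟩
  change _ = π.appTop.hom a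
  rw [specOver_appTop_apply, ← asPair_root, map_sub, map_pow]
  rfl

end Cover

end Groth.Agent.H60.ArtinSchreier
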