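import Groth.Agent.H60.QCColim

/-!
# Quasi-compact quasi-separated objects of the small étale site
-/

set_option autoImplicit false

namespace Groth.Agent.H60.QCEtale

open CategoryTheory Limits Opposite AlgebraicGeometry

universe u

variable {X : Scheme.{u}}

/-- An object of the small étale site whose underlying scheme is quasi-compact and quasi-separated. -/
def QC (V : X.Etale) : Prop := CompactSpace V.left ∧ QuasiSeparatedSpace V.left

set_option backward.isDefEq.respectTransparency.types false in
lemma mem_top_iff (U : X.Etale) (R : Sieve U) :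
    R ∈ X.smallEtaleTopology U ↔
      ∀ x : U.left, ∃ (Y : X.Etale) (f : Y ⟶ U) (y : Y.left), R f ∧ f.left y = x := by
  have h0 : X.smallEtaleTopology =
      (X.smallPretopology (P := @Etale) (Q := @Etale)).toGrothendieck :=
    Scheme.smallGrothendieckTopology_eq_toGrothendieck_smallPretopology _ le_rfl
  have h1 : R ∈ X.smallEtaleTopology U ↔
      R ∈ (X.smallPretopology (P := @Etale) (Q := @Etale)).toGrothendieck U := by
    rw [h0]; exact Iff.rfl
  refine h1.trans ((Scheme.mem_toGrothendieck_smallPretopology (P := @Etale) (Q := @Etale) U R).trans ?_)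
  constructor
  · intro h x
    obtain ⟨Y, f, y, h1, -, h3⟩ := h x
    exact ⟨Y, f, y, h1, h3⟩
  · intro h x
    obtain ⟨Y, f, y, h1, h3⟩ := h x
    exact ⟨Y, f, y, h1, inferInstance, h3⟩

/-- Every covering sieve of an object contains, around each point, an arrow from an affine scheme. -/
lemma exists_affine_arrow (U : X.Etale) (S : Sieve U) (hS : S ∈ X.smallEtaleTopology U) (x : U.left) :
    ∃ (W : X.Etale) (g : W ⟶ U), IsAffine W.left ∧ S g ∧ x ∈ Set.range g.left := by
  obtain ⟨Y, f, y, hf, hy⟩ := (mem_top_iff U S).1 hS x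
  let 𝒰 := Y.left.affineCover
  let j := 𝒰.idx y
  obtain ⟨w, hw⟩ := 𝒰.covers y
  let W : X.Etale := Scheme.Etale.mk (𝒰.f j ≫ Y.hom)
  let a : W ⟶ Y := MorphismProperty.Over.homMk (𝒰.f j) rfl trivial
  refine ⟨W, a ≫ f, ?_, S.downward_closed hf a, ⟨w, ?_⟩⟩
  · show IsAffine (𝒰.X j)
    infer_instance
  · exact (congrArg (fun t => f.left t) hw).trans hy

lemma qc_of_isAffine (W : X.Etale) (hW : IsAffine W.left) : QC W :=
  ⟨inferInstance, inferInstance⟩

/-- The underlying scheme of a fibre product in the small étale site. -/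
noncomputable def pullbackLeftIso {A B U : X.Etale} (f : A ⟶ U) (g : B ⟶ U) :
    (pullback f g).left ≅ pullback f.left g.left :=
  PreservesPullback.iso (Scheme.Etale.forget X ⋙ Over.forget X) f g

lemma qc_pullback {A B U : X.Etale} (f : A ⟶ U) (g : B ⟶ U) (hA : QC A) (hB : QC B) (hU : QC U) :
    QC (pullback f g) := by
  obtain ⟨hA1, hA2⟩ := hA
  obtain ⟨hB1, hB2⟩ := hB
  obtain ⟨hU1, hU2⟩ := hU
  have : QuasiCompact g.left := quasiCompact_of_compactSpace g.left
  have : QuasiSeparated g.left := inferInstance
  have : CompactSpace ↑(pullback f.left g.left) := inferInstance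
  have : QuasiSeparatedSpace ↑(pullback f.left g.left) :=
    quasiSeparatedSpace_of_quasiSeparated (pullback.fst f.left g.left)
  exact ⟨QuasiCompact.compactSpace_of_compactSpace (pullbackLeftIso f g).hom,
    quasiSeparatedSpace_of_quasiSeparated (pullbackLeftIso f g).hom⟩

theorem qcClass (X : Scheme.{u}) : QCColim.QCClass X.smallEtaleTopology (QC (X := X)) where
  pb f g hA hB hU := qc_pullback f g hA hB hU
  cov U hU S hS := by
    classical
    obtain ⟨hU1, hU2⟩ := hU
    choose W g hW hg hx using exists_affine_arrow U S hS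
    have hopen : ∀ x, IsOpen (Set.range (g x).left) := fun x => (g x).left.isOpenMap.isOpen_range
    obtain ⟨t, ht⟩ := CompactSpace.elim_nhds_subcover (fun x => Set.range (g x).left)
      (fun x => (hopen x).mem_nhds (hx x))
    let e := t.equivFin
    refine ⟨t.card, fun k => W (e.symm k).1, fun k => g (e.symm k).1,
      fun k => qc_of_isAffine _ (hW _), fun k => hg _, ?_⟩
    rw [mem_top_iff]
    intro x
    have hx' : x ∈ ⋃ x0 ∈ t, Set.range (g x0).left := by rw [ht]; trivial
    simp only [Set.mem_iUnion] at hx'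
    obtain ⟨x0, hx0, w, hw⟩ := hx'
    refine ⟨W x0, g x0, w, ?_, hw⟩
    have h1 := Sieve.ofArrows_mk (fun k => W (e.symm k).1) (fun k => g (e.symm k).1) (e ⟨x0, hx0⟩)
    rw [Equiv.symm_apply_apply] at h1
    exact h1

end Groth.Agent.H60.QCEtale
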