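import Mathlib
import Groth.Prelude.Def_W4c5etcohweilstudentAS
import Groth.Agent.H60.AS2
import Groth.Agent.H60.QCEtale

set_option autoImplicit false
set_option backward.isDefEq.respectTransparency.types false
universe u
open CategoryTheory CategoryTheory.Limits AlgebraicGeometry Opposite

namespace Groth.Agent.H60.ArtinSchreier

open W4c5etcohweilstudent

section Epi

variable {S : Scheme.{u}} (p : ℕ) (hp : p.Prime) (h0 : (p : Γ(S, ⊤)) = 0)

include hp h0 in
lemma exists_as_cover (U : S.Etale) (a : Γ(U.left, ⊤)) (u : U.left) :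
    ∃ (V : S.Etale) (g : V ⟶ U) (v : V.left) (b : Γ(V.left, ⊤)),
      g.left v = u ∧ b ^ p - b = g.left.appTop.hom a := by
  let 𝒰 := U.left.affineCover
  let j := 𝒰.idx u
  obtain ⟨w, hw⟩ := 𝒰.covers u
  let W : S.Etale := Scheme.Etale.mk (𝒰.f j ≫ U.hom)
  let ι : W ⟶ U := MorphismProperty.Over.homMk (𝒰.f j) rfl trivial
  haveI : IsAffine W.left := (inferInstance : IsAffine (𝒰.X j))
  obtain ⟨V, g, v, b, hv, hb⟩ := exists_as_cover_affine p hp h0 W ((𝒰.f j).appTop.hom a) w
  refine ⟨V, g ≫ ι, v, b, ?_, ?_⟩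
  · change (g.left ≫ 𝒰.f j) v = u
    rw [Scheme.Hom.comp_apply, hv]
    exact hw
  · rw [hb]
    rfl

theorem epi_artinSchreier : Epi (artinSchreierEndo S p hp h0) := by
  rw [← Sheaf.isLocallySurjective_iff_epi']
  constructor
  intro U s
  rw [Groth.Agent.H60.QCEtale.mem_top_iff]
  intro u
  obtain ⟨V, g, v, b, hv, hb⟩ := exists_as_cover p hp h0 U s.down u
  refine ⟨V, g, v, ⟨ULift.up b, ?_⟩, hv⟩
  exact congrArg ULift.up hb

end Epi

end Groth.Agent.H60.ArtinSchreier
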