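import Mathlib

set_option autoImplicit false
universe u
open Polynomial

namespace Groth.Agent.H60.ArtinSchreier

section Roots

variable (p : ℕ) [Fact p.Prime]

lemma prod_X_sub_C_zmod : ∏ j : ZMod p, (X - C j : (ZMod p)[X]) = X ^ p - X := by
  have hcard : Fintype.card (ZMod p) = p := ZMod.card p
  have hp1 : 1 < p := (Fact.out : p.Prime).one_lt
  have hmonic : (X ^ p - X : (ZMod p)[X]).Monic := by
    apply monic_X_pow_sub
    rw [degree_X]
    exact_mod_cast hp1
  have hroots : (X ^ p - X : (ZMod p)[X]).roots = Finset.univ.val := by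
    have := FiniteField.roots_X_pow_card_sub_X (ZMod p)
    rwa [hcard] at this
  have hnat : (X ^ p - X : (ZMod p)[X]).natDegree = p :=
    FiniteField.X_pow_card_sub_X_natDegree_eq (ZMod p) hp1
  have h := prod_multiset_X_sub_C_of_monic_of_roots_card_eq hmonic (by
    rw [hroots, hnat]
    simp [hcard])
  rw [hroots] at h
  rw [← h]
  rfl

variable {B : Type*} [CommRing B] (c : ZMod p →+* B) (x : B)

/-- the elements `e_i = ∏_{j ≠ i} (x - j)` -/
noncomputable def eI (i : ZMod p) : B := ∏ j ∈ Finset.univ.erase i, (x - c j)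

lemma sub_mul_eI (hx : x ^ p = x) (i : ZMod p) : (x - c i) * eI p c x i = 0 := by
  rw [eI, Finset.mul_prod_erase Finset.univ (fun j => x - c j) (Finset.mem_univ i)]
  have h := congrArg (eval₂ c x) (prod_X_sub_C_zmod p)
  rw [eval₂_finsetProd] at h
  simp only [eval₂_sub, eval₂_X, eval₂_C, eval₂_pow] at h
  rw [h, hx, sub_self]

lemma exists_sum_eI : ∃ μ : ZMod p → B, ∑ i, μ i * eI p c x i = 1 := by
  classical
  have h := Lagrange.sum_basis (s := (Finset.univ : Finset (ZMod p))) (v := id)
    (Set.injOn_id _) Finset.univ_nonempty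
  have h2 := congrArg (eval₂ c x) h
  rw [eval₂_finsetSum, eval₂_one] at h2
  refine ⟨fun i => ∏ j ∈ Finset.univ.erase i, c ((i - j)⁻¹), ?_⟩
  rw [← h2]
  refine Finset.sum_congr rfl fun i _ => ?_
  rw [Lagrange.basis, eval₂_finsetProd, eI, ← Finset.prod_mul_distrib]
  refine Finset.prod_congr rfl fun j _ => ?_
  simp [Lagrange.basisDivisor]

end Roots

end Groth.Agent.H60.ArtinSchreier
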