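import Mathlib
import Groth.Prelude.Def_W4c5etcohweilstudentAS
import Groth.Agent.H60.AS4

set_option autoImplicit false
set_option backward.isDefEq.respectTransparency.types false
universe u
open CategoryTheory CategoryTheory.Limits AlgebraicGeometry Opposite

namespace Groth.Agent.H60.ArtinSchreier

open W4c5etcohweilstudent

section LocConst

/-- a function which does not vanish on the image of a morphism pulls back to a unit -/
lemma isUnit_appTop_of_range_subset {X Y : Scheme.{u}} (h : Y ⟶ X) (r : Γ(X, ⊤))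
    (hr : Set.range h ⊆ X.basicOpen r) : IsUnit (h.appTop.hom r) := by
  have h1 : Y.basicOpen (h.appTop.hom r) = ⊤ := by
    rw [← Scheme.preimage_basicOpen_top]
    ext y
    simp only [TopologicalSpace.Opens.map_coe, Set.mem_preimage, SetLike.mem_coe,
      TopologicalSpace.Opens.coe_top, Set.mem_univ, iff_true]
    exact hr ⟨y, rfl⟩
  refine RingedSpace.isUnit_of_isUnit_germ (X := Y.toLocallyRingedSpace.toRingedSpace) ⊤
    (h.appTop.hom r) (fun y hy => ?_)
  have : y ∈ Y.basicOpen (h.appTop.hom r) := by rw [h1]; trivial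
  exact (Scheme.mem_basicOpen_top Y _ y).1 this

variable {S : Scheme.{u}} (p : ℕ) [Fact p.Prime] (h0 : (p : Γ(S, ⊤)) = 0)

/-- the ring homomorphism from `ZMod p` to the functions on an étale `S`-scheme -/
noncomputable def cst (U : S.Etale) : ZMod p →+* Γ(U.left, ⊤) :=
  ZMod.castHom (ringChar.dvd (natCast_eq_zero_etale p h0 U)) Γ(U.left, ⊤)

lemma cst_map {U V : S.Etale} (f : V ⟶ U) (i : ZMod p) :
    f.left.appTop.hom (cst p h0 U i) = cst p h0 V i := by
  have : f.left.appTop.hom.comp (cst p h0 U) = cst p h0 V := Subsingleton.elim _ _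
  exact DFunLike.congr_fun this i

lemma exists_mem_basicOpen_of_sum_eq_one {X : Scheme.{u}} {ι : Type*} [Fintype ι]
    (μ e : ι → Γ(X, ⊤)) (h : ∑ i, μ i * e i = 1) (x : X) : ∃ i, x ∈ X.basicOpen (e i) := by
  by_contra hcon
  push_neg at hcon
  have h1 : ∀ i, X.presheaf.germ ⊤ x trivial (e i) ∈
      IsLocalRing.maximalIdeal (X.presheaf.stalk x) := by
    intro i
    rw [IsLocalRing.mem_maximalIdeal, mem_nonunits_iff, ← Scheme.mem_basicOpen_top]
    exact hcon i
  have h2 : X.presheaf.germ ⊤ x trivial (∑ i, μ i * e i) ∈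
      IsLocalRing.maximalIdeal (X.presheaf.stalk x) := by
    rw [map_sum]
    refine Ideal.sum_mem _ fun i _ => ?_
    rw [map_mul]
    exact Ideal.mul_mem_left _ _ (h1 i)
  rw [h, map_one] at h2
  exact (IsLocalRing.maximalIdeal (X.presheaf.stalk x)).ne_top_iff_one.1
    (IsLocalRing.maximalIdeal.isMaximal _).ne_top h2

lemma exists_local_const (U : S.Etale) (x : Γ(U.left, ⊤)) (hx : x ^ p = x) (u : U.left) :
    ∃ (V : S.Etale) (f : V ⟶ U) (v : V.left) (i : ZMod p),
      f.left v = u ∧ f.left.appTop.hom x = cst p h0 V i := by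
  obtain ⟨μ, hμ⟩ := exists_sum_eI p (cst p h0 U) x
  obtain ⟨i, hi⟩ := exists_mem_basicOpen_of_sum_eq_one μ (eI p (cst p h0 U) x) hμ u
  let W := U.left.basicOpen (eI p (cst p h0 U) x i)
  let V : S.Etale := Scheme.Etale.mk (W.ι ≫ U.hom)
  let f : V ⟶ U := MorphismProperty.Over.homMk W.ι rfl trivial
  refine ⟨V, f, ⟨u, hi⟩, i, rfl, ?_⟩
  have hunit : IsUnit (W.ι.appTop.hom (eI p (cst p h0 U) x i)) := by
    apply isUnit_appTop_of_range_subset
    rw [Scheme.Opens.range_ι]
  have h1 := congrArg W.ι.appTop.hom (sub_mul_eI p (cst p h0 U) x hx i)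
  rw [map_mul, map_zero, map_sub] at h1
  have h2 := (hunit.mul_left_eq_zero).1 h1
  rw [sub_eq_zero] at h2
  change W.ι.appTop.hom x = _
  rw [h2]
  exact cst_map p h0 f i

end LocConst

end Groth.Agent.H60.ArtinSchreier
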