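import Groth.Agent.H60.ConstrDense
import Groth.Agent.H21.ConstrSupp
import Mathlib.CategoryTheory.Sites.Point.Skyscraper
import Mathlib.AlgebraicGeometry.Fiber

/-!
# Torsion sheaves vanishing at the generic point are filtered colimits of constructible sheaves
supported away from the generic point (helper60)
-/

set_option autoImplicit false
open CategoryTheory CategoryTheory.Limits AlgebraicGeometry Opposite
universe u

namespace Groth.Agent.H60.ConstrGeneric

open Groth.Agent.H60.ConstrCompact Groth.Agent.H60.ConstrDense Groth.Agent.H4.Stalks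
  Groth.Agent.H21.ConstrSupp

variable {X : Scheme.{u}}

section ZeroAt

/-- the stalks of `C` at the geometric points over `x₀` vanish -/
def ZeroAt (x₀ : X) : ObjectProperty (EtCoh.Ab X) := fun C => x₀ ∉ EtPBC.supp C

lemma zeroAt_iff (x₀ : X) (C : EtCoh.Ab X) :
    ZeroAt x₀ C ↔ ∀ (Ω : Type u) [Field Ω] [IsSepClosed Ω] (ξ : Spec (CommRingCat.of Ω) ⟶ X),
      Set.range ξ = {x₀} → IsZero ((EtCoh.stalk ξ).obj C) := by
  unfold ZeroAt EtPBC.supp
  simp only [Set.mem_setOf_eq, not_exists, not_and, not_not]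

lemma zeroAt_of_epi (x₀ : X) {N Q : EtCoh.Ab X} (π : N ⟶ Q) [Epi π] (hN : ZeroAt x₀ N) :
    ZeroAt x₀ Q := by
  rw [zeroAt_iff] at hN ⊢
  intro Ω _ _ ξ hξ
  have h1 := hN Ω ξ hξ
  have : Epi ((EtCoh.stalk ξ).map π) := inferInstance
  rw [IsZero.iff_id_eq_zero]
  rw [← cancel_epi ((EtCoh.stalk ξ).map π)]
  exact h1.eq_of_src _ _

theorem zeroAt_hyp (x₀ : X) : FinColimClosed.Hyp (ZeroAt x₀) where
  iso := by
    intro M N e hM
    have : Epi e.hom := inferInstance
    exact zeroAt_of_epi x₀ e.hom hM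
  zero := by
    intro Z hZ
    rw [zeroAt_iff]
    intro Ω _ _ ξ _
    exact (EtCoh.stalk ξ).map_isZero hZ
  biprod := by
    intro M N hM hN
    rw [zeroAt_iff] at hM hN ⊢
    intro Ω _ _ ξ hξ
    rw [IsZero.iff_id_eq_zero]
    have h1 : 𝟙 (M ⊞ N) = biprod.fst ≫ biprod.inl + biprod.snd ≫ biprod.inr :=
      biprod.total.symm
    rw [← (EtCoh.stalk ξ).map_id, h1, Functor.map_add, Functor.map_comp, Functor.map_comp]
    rw [(hM Ω ξ hξ).eq_of_src ((EtCoh.stalk ξ).map biprod.inl) 0,
      (hN Ω ξ hξ).eq_of_src ((EtCoh.stalk ξ).map biprod.inr) 0]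
    simp
  coker := by
    intro M N f _ hN
    exact zeroAt_of_epi x₀ (cokernel.π f) hN

end ZeroAt

section Closure

/-- in an irreducible space, the closure of a constructible set not containing the generic point
does not contain the generic point -/
theorem generic_not_mem_closure {α : Type*} [TopologicalSpace α] (η : α)
    (hη : closure ({η} : Set α) = Set.univ) {s : Set α} (hs : Topology.IsConstructible s) :
    η ∈ closure s → η ∈ s := by
  induction s, hs using BooleanSubalgebra.closure_sdiff_sup_induction with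
  | isSublattice =>
    exact ⟨fun s hs t ht ↦ ⟨hs.1.union ht.1, hs.2.union ht.2⟩,
      fun s hs t ht ↦ ⟨hs.1.inter ht.1, hs.2.inter_isOpen ht.2 ht.1⟩⟩
  | bot_mem => exact ⟨isOpen_empty, .empty⟩
  | top_mem => exact ⟨isOpen_univ, .univ⟩
  | sdiff U hU V hV =>
    intro h
    have hne : (U \ V).Nonempty := by
      by_contra hcon
      rw [Set.not_nonempty_iff_eq_empty] at hcon
      rw [hcon, closure_empty] at h
      exact h
    obtain ⟨y, hyU, hyV⟩ := hne
    have hηU : η ∈ U := by
      have hy : y ∈ closure ({η} : Set α) := by rw [hη]; trivial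
      have := (mem_closure_iff.1 hy) U hU.1 hyU
      obtain ⟨z, hzU, hz⟩ := this
      rw [Set.mem_singleton_iff] at hz
      rwa [hz] at hzU
    have hηV : η ∉ V := by
      intro hV'
      have := (mem_closure_iff.1 h) V hV.1 hV'
      obtain ⟨z, hzV, hz⟩ := this
      exact hz.2 hzV
    exact ⟨hηU, hηV⟩
  | sup s _ t _ hs' ht' =>
    intro h
    have h' : η ∈ closure (s ∪ t) := h
    rw [closure_union] at h'
    rcases h' with h' | h'
    · exact Or.inl (hs' h')
    · exact Or.inr (ht' h')

end Closure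

section Cover

/-- the étale `X`-scheme given by an open of an étale `X`-scheme -/
noncomputable abbrev opn (V : X.Etale) (O : V.left.Opens) : X.Etale :=
  Scheme.Etale.mk (O.ι ≫ (V.hom : V.left ⟶ X))

/-- its inclusion -/
noncomputable abbrev opnι (V : X.Etale) (O : V.left.Opens) : opn V O ⟶ V :=
  MorphismProperty.Over.homMk O.ι rfl trivial

/-- a section of a sheaf vanishing at the geometric points over `η` dies on finitely many affine
étale `U`-schemes whose images cover the fibre of `U` over `η` -/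
theorem exists_cover_fibre [QuasiSeparatedSpace X] (F : EtCoh.Ab X) (η : X) (hη : ZeroAt η F)
    (U : X.Etale) (hU : IsAffine U.left) (t : EtCoh.sect F U) :
    ∃ (ι : Type u) (_ : Finite ι) (V : ι → X.Etale) (g : ∀ k, V k ⟶ U),
      (∀ k, IsAffine (V k).left) ∧ (∀ k, F.obj.map (g k).op t = 0) ∧
      ∀ u : U.left, U.hom u = η → ∃ (k : ι) (v : (V k).left), (g k).left v = u := by
  rw [zeroAt_iff] at hη
  have key : ∀ u : U.left, U.hom u = η → ∃ (V : X.Etale) (g : V ⟶ U) (v : V.left),
      IsAffine V.left ∧ g.left v = u ∧ F.obj.map g.op t = 0 := by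
    intro u hu
    have hz : IsZero ((EtCoh.stalk (geomPt η)).obj F) := by
      apply hη
      rw [range_geom, geomPt_default]
    obtain ⟨x, hx⟩ := Fib.exists_of_point (ξ := geomPt η) U u (by rw [hu, geomPt_default])
    have h0 : germ F x t = 0 := by
      have : (germ F x : F.obj.obj (op U) ⟶ (EtCoh.stalk (geomPt η)).obj F) = 0 :=
        hz.eq_of_tgt _ _
      rw [this]
      rfl
    obtain ⟨V, g, v, hv, hs⟩ := (germ_eq_zero_iff' F x t).1 h0
    obtain ⟨O, hO, hvO, -⟩ :=
      Groth.Agent.H21.ConstrMain.exists_affine_nbhd (⊤ : V.left.Opens) v trivial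
    refine ⟨opn V O, opnι V O ≫ g, ⟨v, hvO⟩, hO, ?_, ?_⟩
    · show g.left (O.ι ⟨v, hvO⟩) = u
      rw [← hx, ← hv]
      rfl
    · rw [op_comp, Functor.map_comp, ConcreteCategory.comp_apply, hs, map_zero]
  choose V g v hV hgv hgt using key
  have : IsAffine U.left := hU
  have : CompactSpace U.left := inferInstance
  have : QuasiCompact (U.hom : U.left ⟶ X) :=
    quasiCompact_of_compactSpace (X := U.left) (Y := X) U.hom
  have hS : IsCompact ((U.hom : U.left ⟶ X) ⁻¹' {η}) :=
    Scheme.Hom.isCompact_preimage_singleton (U.hom : U.left ⟶ X) η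
  obtain ⟨T, hT⟩ := hS.elim_finite_subcover
    (fun u : ((U.hom : U.left ⟶ X) ⁻¹' {η} : Set U.left) => Set.range ((g u.1 u.2).left))
    (fun u => ((g u.1 u.2).left.isOpenMap.isOpen_range))
    (by
      intro u hu
      rw [Set.mem_iUnion]
      exact ⟨⟨u, hu⟩, v u hu, hgv u hu⟩)
  refine ⟨↥T, inferInstance, fun k => V k.1.1 k.1.2, fun k => g k.1.1 k.1.2,
    fun k => hV _ k.1.2, fun k => hgt _ k.1.2, ?_⟩
  intro u hu
  have := hT (show u ∈ (U.hom : U.left ⟶ X) ⁻¹' {η} from hu)
  rw [Set.mem_iUnion₂] at this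
  obtain ⟨k, hk, w, hw⟩ := this
  exact ⟨⟨k, hk⟩, w, hw⟩

end Cover

section Coker

open Groth.Agent.H21.QFStrata Groth.Agent.H21.ConstrGen

/-- the basic section of `j_!(ℤ/n)_U` over `U` -/
noncomputable def one (U : X.Etale) (n : ℕ) : EtCoh.sect (EtPBC.extZeroConst U (ZMod n)) U :=
  sectionOf U n (𝟙 _)

lemma secMap_one {F : EtCoh.Ab X} (U : X.Etale) (n : ℕ) (t : EtCoh.sect F U) (ht : n • t = 0) :
    (secMap U n F t ht).hom.app (op U) (one U n) = t := by
  have h1 := sectionOf_comp U n (𝟙 (EtPBC.extZeroConst U (ZMod n))) (secMap U n F t ht)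
  rw [Category.id_comp, sectionOf_secMap] at h1
  exact h1.symm

lemma nsmul_map_one {U V : X.Etale} (n : ℕ) (g : V ⟶ U) :
    n • (EtPBC.extZeroConst U (ZMod n)).obj.map g.op (one U n) = 0 := by
  rw [← map_nsmul]
  have : n • one U n = 0 := nsmul_sectionOf U n _
  rw [this, map_zero]

/-- the map `j_!(ℤ/n)_V ⟶ j_!(ℤ/n)_U` attached to `g : V ⟶ U` -/
noncomputable def gmap {U V : X.Etale} (n : ℕ) (g : V ⟶ U) :
    EtPBC.extZeroConst V (ZMod n) ⟶ EtPBC.extZeroConst U (ZMod n) :=
  secMap V n _ ((EtPBC.extZeroConst U (ZMod n)).obj.map g.op (one U n)) (nsmul_map_one n g)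

lemma sectionOf_gmap {U V : X.Etale} (n : ℕ) (g : V ⟶ U) :
    sectionOf V n (gmap n g) = (EtPBC.extZeroConst U (ZMod n)).obj.map g.op (one U n) :=
  sectionOf_secMap V n _ _ _

lemma gmap_comp_secMap {U V : X.Etale} (n : ℕ) (g : V ⟶ U) {F : EtCoh.Ab X}
    (t : EtCoh.sect F U) (ht : n • t = 0) (ht' : n • F.obj.map g.op t = 0) :
    gmap n g ≫ secMap U n F t ht = secMap V n F (F.obj.map g.op t) ht' := by
  apply sectionOf_injective V n
  rw [sectionOf_comp, sectionOf_gmap, sectionOf_secMap]
  have h1 : (secMap U n F t ht).hom.app (op V)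
      ((EtPBC.extZeroConst U (ZMod n)).obj.map g.op (one U n)) =
      F.obj.map g.op ((secMap U n F t ht).hom.app (op U) (one U n)) :=
    congrArg (fun k => k (one U n))
      (congrArg (fun k => k.hom) ((secMap U n F t ht).hom.naturality g.op))
  rw [h1, secMap_one]

variable (U : X.Etale) (n : ℕ) {ι : Type u} [Finite ι] (V : ι → X.Etale) (g : ∀ k, V k ⟶ U)

/-- the map `∐ j_!(ℤ/n)_{V k} ⟶ j_!(ℤ/n)_U` -/
noncomputable def dmap :
    (∐ fun k => EtPBC.extZeroConst (V k) (ZMod n)) ⟶ EtPBC.extZeroConst U (ZMod n) :=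
  Sigma.desc (fun k => gmap n (g k))

lemma ι_dmap (k : ι) :
    Sigma.ι (fun k => EtPBC.extZeroConst (V k) (ZMod n)) k ≫ dmap U n V g = gmap n (g k) := by
  unfold dmap
  simp

/-- the cokernel of `dmap` has vanishing stalks over `η` when the `V k` cover the fibre of `U`
over `η` -/
theorem zeroAt_cokernel_dmap (η : X)
    (hcov : ∀ u : U.left, U.hom u = η → ∃ (k : ι) (v : (V k).left), (g k).left v = u) :
    ZeroAt η (cokernel (dmap U n V g)) := by
  rw [zeroAt_iff]
  intro Ω _ _ ξ hξ
  set C := cokernel (dmap U n V g) with hC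
  let π : EtPBC.extZeroConst U (ZMod n) ⟶ C := cokernel.π (dmap U n V g)
  let A := (EtCoh.stalk ξ).obj C
  let Φ := Scheme.pointSmallEtale ξ
  let ψ' : C.obj ⟶ Φ.skyscraperPresheaf A := Φ.skyscraperPresheafHomEquiv (𝟙 A)
  let ψ : C ⟶ Φ.skyscraperSheaf A := ⟨ψ'⟩
  -- germs of `π one` vanish
  have hgerm : ∀ x : Fib ξ U, germ C x (π.hom.app (op U) (one U n)) = 0 := by
    intro x
    have hpt : U.hom x.pt = η := by
      rw [Fib.hom_pt, default_of_range ξ hξ]
    obtain ⟨k, v, hv⟩ := hcov x.pt hpt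
    obtain ⟨y, hy, -⟩ := Fib.exists_lift (g k) x v hv
    rw [← hy, ← germ_res]
    have h1 : C.obj.map (g k).op (π.hom.app (op U) (one U n)) =
        π.hom.app (op (V k)) ((EtPBC.extZeroConst U (ZMod n)).obj.map (g k).op (one U n)) :=
      (congrArg (fun k' => k' (one U n))
        (congrArg (fun k' => k'.hom) (π.hom.naturality (g k).op))).symm
    rw [h1, ← sectionOf_gmap, ← sectionOf_comp]
    have h2 : gmap n (g k) ≫ π = 0 := by
      rw [← ι_dmap U n V g k, Category.assoc]
      show _ ≫ dmap U n V g ≫ cokernel.π (dmap U n V g) = 0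
      rw [cokernel.condition, comp_zero]
    rw [h2, sectionOf_zero, map_zero]
  -- hence `π ≫ ψ = 0`
  have hπψ : π ≫ ψ = 0 := by
    apply sectionOf_injective U n
    rw [sectionOf_comp, sectionOf_zero]
    have hone : sectionOf U n π = π.hom.app (op U) (one U n) := by
      have := sectionOf_comp U n (𝟙 (EtPBC.extZeroConst U (ZMod n))) π
      rw [Category.id_comp] at this
      exact this
    rw [hone]
    show ψ'.app (op U) (π.hom.app (op U) (one U n)) = 0
    apply Concrete.limit_ext
    rintro ⟨x⟩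
    refine Eq.trans ?_ (map_zero _).symm
    have h3 : ψ'.app (op U) ≫ Pi.π (fun _ : Fib ξ U => A) x =
        Φ.toPresheafFiber U x C.obj ≫ 𝟙 A :=
      Φ.skyscraperPresheafHomEquiv_app_π (𝟙 A) U x
    have h3' : ψ'.app (op U) ≫ Pi.π (fun _ : Fib ξ U => A) x =
        Φ.toPresheafFiber U x C.obj := h3.trans (Category.comp_id _)
    have h4 := ConcreteCategory.congr_hom h3' (π.hom.app (op U) (one U n))
    exact h4.trans (hgerm x)
  have hψ : ψ = 0 := by
    rw [← cancel_epi π, hπψ, comp_zero]
  have hψ' : ψ' = 0 := congrArg (fun k => k.hom) hψ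
  rw [IsZero.iff_id_eq_zero]
  apply Φ.presheafFiber_hom_ext
  intro W x
  have h5 : ψ'.app (op W) ≫ Pi.π (fun _ : Φ.fiber.obj W => A) x =
      Φ.toPresheafFiber W x C.obj ≫ 𝟙 A :=
    Φ.skyscraperPresheafHomEquiv_app_π (𝟙 A) W x
  have h6 : ψ'.app (op W) = 0 := by
    rw [hψ']
    rfl
  refine h5.symm.trans ?_
  rw [h6, zero_comp]
  exact comp_zero.symm

end Coker

section Main

open Groth.Agent.H21.QFStrata Groth.Agent.H21.ConstrGen

attribute [local instance] Cardinal.fact_isRegular_aleph0

variable (X) [CompactSpace X] [QuasiSeparatedSpace X]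

/-- objects of the finite-colimit closure `K X` whose stalks over `η` vanish -/
def P' (η : X) : ObjectProperty (EtCoh.Ab X) := K X ⊓ ZeroAt η

instance (η : X) : ObjectProperty.EssentiallySmall.{u + 1} (P' X η) :=
  ObjectProperty.EssentiallySmall.of_le (Q := K X) inf_le_left

/-- the closure of `P'` under finite colimits -/
abbrev K' (η : X) : ObjectProperty (EtCoh.Ab X) :=
  (P' X η).colimitsCardinalClosure Cardinal.aleph0.{u + 1}

omit [CompactSpace X] [QuasiSeparatedSpace X] in
theorem K'_le_K (η : X) : K' X η ≤ K X :=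
  ObjectProperty.colimitsCardinalClosure_le (P' X η) _
    (fun J _ hJ => ObjectProperty.isClosedUnderColimitsOfShape_colimitsCardinalClosure (P X) _ J hJ)
    inf_le_left

omit [CompactSpace X] [QuasiSeparatedSpace X] in
theorem K'_le_zeroAt (η : X) : K' X η ≤ ZeroAt η := by
  have := (zeroAt_hyp η).isClosedUnderIsomorphisms
  exact ObjectProperty.colimitsCardinalClosure_le (P' X η) _
    (fun J _ hJ => (zeroAt_hyp η).finiteColimits' J hJ) inf_le_right

omit [CompactSpace X] [QuasiSeparatedSpace X] in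
lemma K_coproduct {ι : Type u} [Finite ι] (f : ι → EtCoh.Ab X) (hf : ∀ k, K X (f k)) :
    K X (∐ f) := by
  have : (K X).IsClosedUnderColimitsOfShape (Discrete ι) := by
    apply ObjectProperty.isClosedUnderColimitsOfShape_colimitsCardinalClosure
    simp only [hasCardinalLT_aleph0_iff]
    infer_instance
  apply ObjectProperty.prop_colimit
  rintro ⟨k⟩
  exact hf k

omit [CompactSpace X] [QuasiSeparatedSpace X] in
lemma K_coequalizer {M N : EtCoh.Ab X} (a b : M ⟶ N) (hM : K X M) (hN : K X N) :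
    K X (coequalizer a b) := by
  have : (K X).IsClosedUnderColimitsOfShape WalkingParallelPair := by
    apply ObjectProperty.isClosedUnderColimitsOfShape_colimitsCardinalClosure
    simp only [hasCardinalLT_aleph0_iff]
    infer_instance
  apply ObjectProperty.prop_colimit
  rintro (_ | _)
  · exact hM
  · exact hN

omit [CompactSpace X] [QuasiSeparatedSpace X] in
lemma secMap_zero (U : X.Etale) (n : ℕ) (F : EtCoh.Ab X) (h : n • (0 : EtCoh.sect F U) = 0) :
    secMap U n F 0 h = 0 := by
  apply sectionOf_injective U n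
  rw [sectionOf_secMap, sectionOf_zero]

/-- **Torsion sheaves with vanishing stalks over `η` are filtered colimits of constructible
sheaves with vanishing stalks over `η`.** -/
theorem main_zeroAt (η : X) (F : EtCoh.Ab X) (hF : EtCoh.IsTorsion F) (hη : ZeroAt η F) :
    ∃ (J : Type (u + 1)) (_ : SmallCategory J) (_ : IsFiltered J) (D : J ⥤ EtCoh.Ab X)
      (c : Cocone D) (_ : IsColimit c), Nonempty (c.pt ≅ F) ∧
      ∀ j, EtPBC.IsConstructible (D.obj j) ∧ ZeroAt η (D.obj j) := by
  let I := CostructuredArrow (K' X η).ι F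
  have hfilt : IsFiltered I := inferInstance
  have hsmall : EssentiallySmall.{u + 1} I := inferInstance
  have : HasColimitsOfShape I (EtCoh.Ab X) :=
    hasColimitsOfShape_of_equivalence (equivSmallModel.{u + 1} I).symm
  let Ψ : I ⥤ EtCoh.Ab X := CostructuredArrow.proj (K' X η).ι F ⋙ (K' X η).ι
  let c : Cocone Ψ :=
    { pt := F
      ι :=
        { app := fun i => i.hom
          naturality := fun i j f => by
            simp only [Functor.const_obj_obj, Functor.const_obj_map, Category.comp_id]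
            exact CostructuredArrow.w f } }
  have S1 : ∀ (U : X.Etale), IsAffine U.left → ∀ (n : ℕ), 0 < n → ∀ t : EtCoh.sect c.pt U,
      n • t = 0 → ∃ (i : I) (ti : EtCoh.sect (Ψ.obj i) U),
        (c.ι.app i).hom.app (op U) ti = t := by
    intro U hU n hn t ht
    obtain ⟨ι, _, V, g, hV, hgt, hcov⟩ := exists_cover_fibre F η hη U hU t
    let d := dmap U n V g
    have hCK : K X (cokernel d) :=
      K_coequalizer X d 0
        (K_coproduct X _ (fun k => (P X).le_colimitsCardinalClosure _ _ (P_gen X (V k) n (hV k) hn)))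
        ((P X).le_colimitsCardinalClosure _ _ (P_gen X U n hU hn))
    have hCZ : ZeroAt η (cokernel d) := zeroAt_cokernel_dmap U n V g η hcov
    have hd : d ≫ secMap U n F t ht = 0 := by
      apply Sigma.hom_ext
      intro k
      rw [← Category.assoc, ι_dmap, comp_zero]
      have h0 : n • F.obj.map (g k).op t = 0 := by rw [hgt k, smul_zero]
      rw [gmap_comp_secMap n (g k) t ht h0]
      have : secMap (V k) n F (F.obj.map (g k).op t) h0 = secMap (V k) n F 0 (smul_zero n) := by
        congr 1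
        exact hgt k
      rw [this, secMap_zero]
    let a : cokernel d ⟶ F := cokernel.desc d (secMap U n F t ht) hd
    let Y : (K' X η).FullSubcategory := ⟨cokernel d,
      (P' X η).le_colimitsCardinalClosure _ _ ⟨hCK, hCZ⟩⟩
    let i : I := CostructuredArrow.mk (Y := Y) (by exact a)
    refine ⟨i, (cokernel.π d).hom.app (op U) (one U n), ?_⟩
    show a.hom.app (op U) ((cokernel.π d).hom.app (op U) (one U n)) = t
    have h1 : cokernel.π d ≫ a = secMap U n F t ht := cokernel.π_desc _ _ _
    have h2 : (cokernel.π d ≫ a).hom.app (op U) (one U n) = t := by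
      rw [h1]
      exact secMap_one U n t ht
    exact h2
  have S2 : ∀ (U : X.Etale), IsAffine U.left → ∀ (i : I) (s : EtCoh.sect (Ψ.obj i) U),
      (c.ι.app i).hom.app (op U) s = 0 →
        ∃ (k : I) (a : i ⟶ k), (Ψ.map a).hom.app (op U) s = 0 := by
    intro U hU i s hs
    obtain ⟨N, hN, hkil⟩ := K_le_kil X _ (K'_le_K X η _ i.left.2)
    have hNs : N • s = 0 := kil_sections hkil U s
    let φ₁ : EtPBC.extZeroConst U (ZMod N) ⟶ i.left.1 := secMap U N i.left.1 s hNs
    have hCK : K X (coequalizer φ₁ 0) :=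
      K_coequalizer X φ₁ 0 ((P X).le_colimitsCardinalClosure _ _ (P_gen X U N hU hN))
        (K'_le_K X η _ i.left.2)
    have hCZ : ZeroAt η (coequalizer φ₁ 0) :=
      zeroAt_of_epi η (coequalizer.π φ₁ 0) (K'_le_zeroAt X η _ i.left.2)
    let obj : (K' X η).FullSubcategory :=
      ⟨coequalizer φ₁ 0, (P' X η).le_colimitsCardinalClosure _ _ ⟨hCK, hCZ⟩⟩
    have hcond : φ₁ ≫ i.hom = 0 ≫ i.hom := by
      rw [zero_comp]
      apply sectionOf_injective U N
      have h2 := sectionOf_comp U N φ₁ i.hom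
      rw [sectionOf_secMap] at h2
      exact h2.trans (hs.trans (sectionOf_zero U N F).symm)
    let a' : (K' X η).ι.obj obj ⟶ F := coequalizer.desc i.hom hcond
    let ψ : i ⟶ CostructuredArrow.mk a' :=
      CostructuredArrow.homMk (ObjectProperty.homMk (coequalizer.π φ₁ 0)) (by simp [a'])
    refine ⟨CostructuredArrow.mk a', ψ, ?_⟩
    show (coequalizer.π φ₁ 0).hom.app (op U) s = 0
    have h2 := sectionOf_comp U N φ₁ (coequalizer.π φ₁ 0)
    rw [sectionOf_secMap] at h2
    rw [← h2]
    have h3 : φ₁ ≫ coequalizer.π φ₁ 0 = 0 := by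
      rw [coequalizer.condition, zero_comp]
    rw [h3]
    exact sectionOf_zero U N _
  obtain ⟨hc⟩ := isColimit_of_sections Ψ c hF S1 S2
  let e := equivSmallModel.{u + 1} I
  exact ⟨SmallModel.{u + 1} I, inferInstance, IsFiltered.of_equivalence e, e.inverse ⋙ Ψ,
    c.whisker e.inverse, hc.whiskerEquivalence e.symm, ⟨Iso.refl _⟩,
    fun j => ⟨K_le_constr X _ (K'_le_K X η _ (e.inverse.obj j).left.2),
      K'_le_zeroAt X η _ (e.inverse.obj j).left.2⟩⟩

/-- version for the generic point of an irreducible scheme, with closed supports -/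
theorem main_generic [IrreducibleSpace X] (F : EtCoh.Ab X) (hF : EtCoh.IsTorsion F)
    (hη : genericPoint X ∉ EtPBC.supp F) :
    ∃ (J : Type (u + 1)) (_ : SmallCategory J) (_ : IsFiltered J) (D : J ⥤ EtCoh.Ab X)
      (c : Cocone D) (_ : IsColimit c), Nonempty (c.pt ≅ F) ∧
      ∀ j, EtPBC.IsConstructible (D.obj j) ∧
        ∃ Z : Set X, IsClosed Z ∧ genericPoint X ∉ Z ∧ EtPBC.supp (D.obj j) ⊆ Z := by
  obtain ⟨J, i1, i2, D, c, hc, hiso, hD⟩ := main_zeroAt X (genericPoint X) F hF hη
  refine ⟨J, i1, i2, D, c, hc, hiso, fun j => ⟨(hD j).1, closure (EtPBC.supp (D.obj j)),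
    isClosed_closure, ?_, subset_closure⟩⟩
  intro hmem
  have hcons : Topology.IsConstructible (EtPBC.supp (D.obj j)) :=
    (isLocallyConstructible_supp (D.obj j) (hD j).1).isConstructible
  have hgen : closure ({genericPoint X} : Set X) = Set.univ :=
    (genericPoint_spec X).def
  exact (hD j).2 (generic_not_mem_closure (genericPoint X) hgen hcons hmem)

end Main

end Groth.Agent.H60.ConstrGeneric
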