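import Groth.Agent.H60.ConstrDense
import Groth.Agent.H69.EtColimH
import Mathlib.CategoryTheory.Functor.OfSequence

/-!
# Localization of abelian étale sheaves at a submonoid of `ℤ` as a sequential colimit (helper60)
-/

set_option autoImplicit false
open CategoryTheory CategoryTheory.Limits AlgebraicGeometry Opposite
universe w' w u

namespace Groth.Agent.H60.LocColim

open Groth.Agent.H60.ConstrCompact Groth.Agent.H60.QCEtale Groth.Agent.H60.ConstrDense

variable {X : Scheme.{u}}

section Epi

open Groth.Agent.H4.Stalks in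
/-- a non-epimorphic map of abelian étale sheaves misses a section over an affine object -/
theorem exists_bad_section' {G F : EtCoh.Ab X} (a : G ⟶ F) (ha : ¬ Epi a) :
    ∃ (V : X.Etale) (_ : IsAffine V.left) (s : EtCoh.sect F V),
      ¬ ∃ t : EtCoh.sect G V, a.hom.app (op V) t = s := by
  let π := cokernel.π a
  have hπ : π ≠ 0 := fun h => ha (Abelian.epi_of_cokernel_π_eq_zero a h)
  have h1 : ∃ (V : X.Etale) (t : EtCoh.sect F V), π.hom.app (op V) t ≠ 0 := by
    by_contra hcon
    push Not at hcon
    apply hπ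
    ext V t
    exact hcon V.unop t
  obtain ⟨V, t, ht⟩ := h1
  have h2 : ∃ p : V.left, ∀ (W : X.Etale) (g : W ⟶ V) (w : W.left), g.left w = p →
      (cokernel a).obj.map g.op (π.hom.app (op V) t) ≠ 0 := by
    by_contra hcon
    push Not at hcon
    exact ht (eq_zero_of_locally_zero _ _ hcon)
  obtain ⟨p, hp⟩ := h2
  obtain ⟨O, hO, hvO, -⟩ :=
    Groth.Agent.H21.ConstrMain.exists_affine_nbhd (⊤ : V.left.Opens) p trivial
  let V'' : X.Etale := Scheme.Etale.mk (O.ι ≫ (V.hom : V.left ⟶ X))
  let h : V'' ⟶ V := MorphismProperty.Over.homMk O.ι rfl trivial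
  have hOaff : IsAffine V''.left := hO
  let s : EtCoh.sect F V'' := F.obj.map h.op t
  refine ⟨V'', hOaff, s, ?_⟩
  rintro ⟨u, hu⟩
  have h3 : π.hom.app (op V'') s = 0 := by
    rw [← hu]
    have h5 : (a ≫ π).hom.app (op V'') = 0 := by
      rw [cokernel.condition a]
      rfl
    exact congrArg (fun k => k.hom u) h5
  have h4 : π.hom.app (op V'') s = (cokernel a).obj.map h.op (π.hom.app (op V) t) :=
    congrArg (fun k => k t) (congrArg (fun k => k.hom) (π.hom.naturality h.op))
  exact hp V'' h ⟨p, hvO⟩ rfl (h4 ▸ h3)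

/-- a morphism of abelian étale sheaves which is surjective on sections over affine objects is an
epimorphism -/
theorem epi_of_affine {G F : EtCoh.Ab X} (a : G ⟶ F)
    (h : ∀ (U : X.Etale), IsAffine U.left → ∀ s : EtCoh.sect F U,
      ∃ t : EtCoh.sect G U, a.hom.app (op U) t = s) : Epi a := by
  by_contra hne
  obtain ⟨V, hV, s, hbad⟩ := exists_bad_section' a hne
  exact hbad (h V hV s)

/-- a morphism of abelian étale sheaves which is bijective on sections over affine objects is an
isomorphism -/
theorem isIso_of_affine {G F : EtCoh.Ab X} (a : G ⟶ F)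
    (h : ∀ (U : X.Etale), IsAffine U.left → Function.Bijective (a.hom.app (op U))) : IsIso a := by
  have : Mono a := mono_of_affine a (fun U hU s hs => (h U hU).1 (hs.trans (map_zero _).symm))
  have : Epi a := epi_of_affine a (fun U hU s => (h U hU).2 s)
  exact isIso_of_mono_of_epi a

end Epi

section Criterion

/-- criterion for a cocone of a filtered diagram of abelian étale sheaves to be a colimit, in terms
of sections over affine objects -/
theorem isColimit_of_sections' {I : Type w} [Category.{w'} I] [IsFiltered I]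
    [EssentiallySmall.{u + 1} I] [HasColimitsOfShape I (EtCoh.Ab X)] (Ψ : I ⥤ EtCoh.Ab X)
    (c : Cocone Ψ)
    (S1 : ∀ (U : X.Etale), IsAffine U.left → ∀ t : EtCoh.sect c.pt U,
      ∃ (i : I) (ti : EtCoh.sect (Ψ.obj i) U), (c.ι.app i).hom.app (op U) ti = t)
    (S2 : ∀ (U : X.Etale), IsAffine U.left → ∀ (i : I) (s : EtCoh.sect (Ψ.obj i) U),
      (c.ι.app i).hom.app (op U) s = 0 → ∃ (k : I) (a : i ⟶ k), (Ψ.map a).hom.app (op U) s = 0) :
    Nonempty (IsColimit c) := by
  let f : colimit Ψ ⟶ c.pt := colimit.desc Ψ c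
  have hf : ∀ (i : I) (U : X.Etale) (s : EtCoh.sect (Ψ.obj i) U),
      f.hom.app (op U) ((colimit.ι Ψ i).hom.app (op U) s) = (c.ι.app i).hom.app (op U) s := by
    intro i U s
    have h1 : colimit.ι Ψ i ≫ f = c.ι.app i := colimit.ι_desc c i
    rw [← h1]
    rfl
  have hmono : Mono f := by
    apply mono_of_affine
    intro U hU s hs
    have := preservesColimitsOfShape_secF' U (qc_of_isAffine _ hU) I
    have := preservesColimitsOfShape_forget'.{w', w, u} I
    have hcol : IsColimit ((secF U).mapCocone (colimit.cocone Ψ)) :=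
      isColimitOfPreserves (secF U) (colimit.isColimit Ψ)
    obtain ⟨i, si, hsi⟩ := Concrete.isColimit_exists_rep (Ψ ⋙ secF U) hcol s
    have hsi' : (colimit.ι Ψ i).hom.app (op U) si = s := hsi
    have h1 : (c.ι.app i).hom.app (op U) si = 0 := by
      rw [← hf, hsi', hs]
    obtain ⟨k, a, hk⟩ := S2 U hU i si h1
    rw [← hsi']
    have hw : Ψ.map a ≫ colimit.ι Ψ k = colimit.ι Ψ i := colimit.w Ψ a
    rw [← hw]
    show (colimit.ι Ψ k).hom.app (op U) ((Ψ.map a).hom.app (op U) si) = 0
    rw [hk, map_zero]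
  have hepi : Epi f := by
    apply epi_of_affine
    intro V hV s
    obtain ⟨i, ti, hti⟩ := S1 V hV s
    exact ⟨(colimit.ι Ψ i).hom.app (op V) ti, (hf i V ti).trans hti⟩
  have hiso : IsIso f := isIso_of_mono_of_epi f
  exact ⟨IsColimit.ofIsoColimit (colimit.isColimit Ψ) (Cocone.ext (asIso f) (fun i => by simp [f]))⟩

end Criterion

end Groth.Agent.H60.LocColim
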