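import Groth.Agent.H60.ClosedPt2
import Groth.Agent.H60.ConstrGeneric
import Groth.Agent.H60.LocColim
import Groth.Agent.H4.PushStalkZero

/-!
# Sheaves supported in closed points: sections have finite support (helper60)
-/

set_option autoImplicit false
open CategoryTheory CategoryTheory.Limits AlgebraicGeometry Opposite Abelian
universe u

namespace Groth.Agent.H60.ClosedPt

open Groth.Agent.H4.Stalks Groth.Agent.H4.ClosedStalk Groth.Agent.H60.ConstrDense
open Groth.Agent.H60.ConstrGeneric Groth.Agent.H21.ConstrGen TopologicalSpace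

section Top

/-- a closed subset of a Noetherian quasi-sober space all of whose points are closed is finite -/
theorem finite_of_isClosed_of_points_closed {α : Type*} [TopologicalSpace α] [NoetherianSpace α]
    [QuasiSober α] (Z : Set α) (hZ : IsClosed Z) (h : ∀ z ∈ Z, IsClosed ({z} : Set α)) :
    Z.Finite := by
  obtain ⟨S, hSf, hScl, hS, hZS⟩ := NoetherianSpace.exists_finite_set_isClosed_irreducible hZ
  rw [hZS]
  apply Set.Finite.sUnion hSf
  intro t ht
  obtain ⟨g, hg⟩ := QuasiSober.sober (hS t ht) (hScl t ht)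
  have hgt : g ∈ t := hg.mem
  have hgZ : g ∈ Z := by
    rw [hZS]
    exact ⟨t, ht, hgt⟩
  have hcl : IsClosed ({g} : Set α) := h g hgZ
  have h1 : closure ({g} : Set α) = t := hg
  rw [← h1, hcl.closure_eq]
  exact Set.finite_singleton g

end Top

section Supp

variable {X : Scheme.{u}}

lemma injective_app_of_mono {A B : EtCoh.Ab X} (f : A ⟶ B) [Mono f] (U : X.Etale) :
    Function.Injective (f.hom.app (op U)) := by
  have h1 : Mono f.hom := (sheafToPresheaf _ _).map_mono f
  have h2 : Mono (f.hom.app (op U)) := inferInstance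
  exact (AddCommGrpCat.mono_iff_injective _).1 h2

/-- a point of the support of a section maps into the support of the sheaf -/
lemma hom_mem_supp_of_mem_sectSupp (F : EtCoh.Ab X) (U : X.Etale) (s : EtCoh.sect F U)
    (u : U.left) (hu : u ∈ EtShriek.sectSupp F U s) :
    (U.hom : U.left ⟶ X) u ∈ EtPBC.supp F := by
  obtain ⟨x, hx⟩ := Fib.exists_of_point (ξ := geomPt ((U.hom : U.left ⟶ X) u)) U u
    (by rw [geomPt_default])
  refine ⟨_, inferInstance, inferInstance, geomPt ((U.hom : U.left ⟶ X) u), ?_, ?_⟩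
  · rw [Groth.Agent.H21.ConstrSupp.range_geom, geomPt_default]
  · intro hz
    have h0 : germ F x s = 0 := by
      have := AddCommGrpCat.subsingleton_of_isZero hz
      exact Subsingleton.elim _ _
    obtain ⟨V, g, v, hv, hs⟩ := (germ_eq_zero_iff' F x s).1 h0
    exact hu V g ⟨v, hv.trans hx⟩ hs

/-- a point of an étale `X`-scheme lying over a closed point is closed -/
lemma isClosed_singleton_of_etale (U : X.Etale) (u : U.left)
    (h : IsClosed ({(U.hom : U.left ⟶ X) u} : Set X)) : IsClosed ({u} : Set U.left) := by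
  have : Etale (U.hom : U.left ⟶ X) := U.prop
  have : LocallyQuasiFinite (U.hom : U.left ⟶ X) :=
    Groth.Agent.H21.QFStrata.locallyQuasiFinite_of_etale _
  let g : U.left ⟶ X := U.hom
  have hd := Scheme.Hom.isDiscrete_preimage_singleton g (g u)
  have hcl : IsClosed (g ⁻¹' {g u}) := h.preimage g.continuous
  haveI : DiscreteTopology ↥(g ⁻¹' {g u}) := hd.to_subtype
  have h1 : IsClosed ({⟨u, rfl⟩} : Set ↥(g ⁻¹' {g u})) := isClosed_discrete _
  have := hcl.isClosedEmbedding_subtypeVal.isClosedMap _ h1
  simpa using this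

/-- sections of a sheaf supported in closed points of a locally Noetherian scheme have finite
support over quasi-compact étale schemes -/
theorem sectSupp_finite [IsLocallyNoetherian X] (F : EtCoh.Ab X)
    (hF : ∀ x ∈ EtPBC.supp F, IsClosed ({x} : Set X)) (U : X.Etale) [CompactSpace U.left]
    (s : EtCoh.sect F U) : (EtShriek.sectSupp F U s).Finite := by
  have : Etale (U.hom : U.left ⟶ X) := U.prop
  have : IsLocallyNoetherian U.left :=
    @LocallyOfFiniteType.isLocallyNoetherian U.left X (U.hom : U.left ⟶ X) inferInstance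
      (inferInstanceAs (IsLocallyNoetherian X))
  have : IsNoetherian U.left := ⟨⟩
  apply finite_of_isClosed_of_points_closed _
    (Groth.Agent.H4.PushStalkZero.isClosed_sectSupp F U s)
  intro u hu
  exact isClosed_singleton_of_etale U u (hF _ (hom_mem_supp_of_mem_sectSupp F U s u hu))

end Supp

section Gen

variable {X : Scheme.{u}}

/-- a quotient of `j_!(ℤ/n)` whose generating section has vanishing germs at `ξ` has vanishing
stalk at `ξ` -/
theorem isZero_stalk_of_generated (U : X.Etale) (n : ℕ) {C : EtCoh.Ab X}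
    (π : EtPBC.extZeroConst U (ZMod n) ⟶ C) [Epi π]
    {Ω : Type u} [Field Ω] [IsSepClosed Ω] (ξ : Spec (CommRingCat.of Ω) ⟶ X)
    (hgerm : ∀ x : Fib ξ U, germ C x (π.hom.app (op U) (one U n)) = 0) :
    IsZero ((EtCoh.stalk ξ).obj C) := by
  let A := (EtCoh.stalk ξ).obj C
  let Φ := Scheme.pointSmallEtale ξ
  let ψ' : C.obj ⟶ Φ.skyscraperPresheaf A := Φ.skyscraperPresheafHomEquiv (𝟙 A)
  let ψ : C ⟶ Φ.skyscraperSheaf A := ⟨ψ'⟩
  have hπψ : π ≫ ψ = 0 := by
    apply sectionOf_injective U n
    rw [sectionOf_comp, sectionOf_zero]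
    have hone : sectionOf U n π = π.hom.app (op U) (one U n) := by
      have := sectionOf_comp U n (𝟙 (EtPBC.extZeroConst U (ZMod n))) π
      rw [Category.id_comp] at this
      exact this
    rw [hone]
    show ψ'.app (op U) (π.hom.app (op U) (one U n)) = 0
    apply Concrete.limit_ext
    rintro ⟨x⟩
    refine Eq.trans ?_ (map_zero _).symm
    have h3 : ψ'.app (op U) ≫ Pi.π (fun _ : Fib ξ U => A) x =
        Φ.toPresheafFiber U x C.obj ≫ 𝟙 A :=
      Φ.skyscraperPresheafHomEquiv_app_π (𝟙 A) U x
    have h3' : ψ'.app (op U) ≫ Pi.π (fun _ : Fib ξ U => A) x =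
        Φ.toPresheafFiber U x C.obj := h3.trans (Category.comp_id _)
    have h4 := ConcreteCategory.congr_hom h3' (π.hom.app (op U) (one U n))
    exact h4.trans (hgerm x)
  have hψ : ψ = 0 := by
    rw [← cancel_epi π, hπψ, comp_zero]
  have hψ' : ψ' = 0 := congrArg (fun k => k.hom) hψ
  rw [IsZero.iff_id_eq_zero]
  apply Φ.presheafFiber_hom_ext
  intro W x
  have h5 : ψ'.app (op W) ≫ Pi.π (fun _ : Φ.fiber.obj W => A) x =
      Φ.toPresheafFiber W x C.obj ≫ 𝟙 A :=
    Φ.skyscraperPresheafHomEquiv_app_π (𝟙 A) W x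
  have h6 : ψ'.app (op W) = 0 := by
    rw [hψ']
    rfl
  refine h5.symm.trans ?_
  rw [h6, zero_comp]
  exact comp_zero.symm

/-- the subsheaf generated by a section is supported on the image of the support of the section -/
theorem supp_image_secMap_subset (F : EtCoh.Ab X) (U : X.Etale) (s : EtCoh.sect F U)
    (h0 : 0 • s = 0) :
    EtPBC.supp (Limits.image (secMap U 0 F s h0)) ⊆
      (U.hom : U.left ⟶ X) '' (EtShriek.sectSupp F U s) := by
  rintro y ⟨Ω, _, _, ξ, hξ, hnz⟩
  by_contra hy
  apply hnz
  have hdef : ξ default = y := Groth.Agent.H21.ConstrSupp.default_of_range ξ hξ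
  set φ := secMap U 0 F s h0 with hφ
  apply isZero_stalk_of_generated U 0 (factorThruImage φ) ξ
  intro x
  have hx : x.pt ∉ EtShriek.sectSupp F U s := by
    intro hmem
    apply hy
    refine ⟨x.pt, hmem, ?_⟩
    rw [Fib.hom_pt, hdef]
  obtain ⟨W, g, w, hw, hs0⟩ := (Groth.Agent.H4.SuppSec.not_mem_sectSupp_iff F U s x.pt).1 hx
  have hg0 : germ F x s = 0 := (germ_eq_zero_iff' F x s).2 ⟨W, g, w, hw, hs0⟩
  -- transport along the mono `image.ι φ`
  have hmono : Mono ((EtCoh.stalk ξ).map (Limits.image.ι φ)) := inferInstance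
  have hinj : Function.Injective ((EtCoh.stalk ξ).map (Limits.image.ι φ)) :=
    (AddCommGrpCat.mono_iff_injective _).1 hmono
  apply hinj
  rw [map_zero]
  have h1 := germ_map (Limits.image.ι φ) x ((factorThruImage φ).hom.app (op U) (one U 0))
  refine h1.trans ?_
  have h2 : (Limits.image.ι φ).hom.app (op U) ((factorThruImage φ).hom.app (op U) (one U 0)) =
      φ.hom.app (op U) (one U 0) := by
    have := congrArg (fun k => k.hom.app (op U) (one U 0)) (Limits.image.fac φ)
    exact this
  rw [h2, hφ, secMap_one]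
  exact hg0

end Gen

end Groth.Agent.H60.ClosedPt
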