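import Mathlib
import Groth.Prelude.Def_W4c5etcohweilstudentAS
import Groth.Agent.H60.AS5
import Groth.Agent.H60.AS3
import Groth.Agent.H60.ClosedPt3

set_option autoImplicit false
set_option backward.isDefEq.respectTransparency.types false
universe u
open CategoryTheory CategoryTheory.Limits AlgebraicGeometry Opposite

namespace Groth.Agent.H60.ArtinSchreier

open W4c5etcohweilstudent

section Kernel

variable {S : Scheme.{u}} (p : ℕ) [hpf : Fact p.Prime] (h0 : (p : Γ(S, ⊤)) = 0)

/-- the value group of the constant sheaf -/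
abbrev Mp (_S : Scheme.{u}) : AddCommGrpCat.{u + 1} := AddCommGrpCat.of (ULift.{u + 1} (ZMod p))

/-- the map from the constant presheaf to `G_a` -/
noncomputable def φ : (Functor.const S.Etaleᵒᵖ).obj (Mp p S) ⟶ (EtCoh.Ga S).obj where
  app U := AddCommGrpCat.ofHom
    ((AddEquiv.ulift.symm.toAddMonoidHom).comp
      ((cst p h0 U.unop).toAddMonoidHom.comp AddEquiv.ulift.toAddMonoidHom))
  naturality := by
    intro U V g
    ext ⟨m⟩
    exact congrArg ULift.up (cst_map p h0 g.unop m).symm

lemma φ_app_apply (U : S.Etale) (m : ULift.{u + 1} (ZMod p)) :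
    ((φ p h0).app (op U)).hom m = ULift.up (cst p h0 U m.down) := rfl

/-- the map from the constant sheaf to `G_a` -/
noncomputable def ψ' : EtCoh.const S (ZMod p) ⟶ EtCoh.Ga S :=
  ⟨sheafifyLift S.smallEtaleTopology (φ p h0) (EtCoh.Ga S).property⟩

lemma toSheafify_ψ' :
    toSheafify S.smallEtaleTopology ((Functor.const S.Etaleᵒᵖ).obj (Mp p S)) ≫ (ψ' p h0).hom =
      φ p h0 :=
  toSheafify_sheafifyLift _ _ _


lemma ψ'_comp : ψ' p h0 ≫ artinSchreierEndo S p hpf.out h0 = 0 := by
  apply Sheaf.hom_ext
  refine sheafify_hom_ext S.smallEtaleTopology _ _ (EtCoh.Ga S).property ?_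
  have e1 : toSheafify S.smallEtaleTopology ((Functor.const S.Etaleᵒᵖ).obj (Mp p S)) ≫
      (ψ' p h0 ≫ artinSchreierEndo S p hpf.out h0).hom =
      φ p h0 ≫ (artinSchreierEndo S p hpf.out h0).hom :=
    (Category.assoc _ _ _).symm.trans
      (congrArg (· ≫ (artinSchreierEndo S p hpf.out h0).hom) (toSheafify_ψ' p h0))
  have e2 : φ p h0 ≫ (artinSchreierEndo S p hpf.out h0).hom = 0 := by
    ext U ⟨m⟩
    change ULift.up ((cst p h0 U.unop m) ^ p - cst p h0 U.unop m) = ULift.up 0
    rw [← map_pow, ZMod.pow_card, sub_self]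
  refine e1.trans (e2.trans ?_)
  exact comp_zero.symm

/-- the kernel of the Artin–Schreier map -/
noncomputable abbrev K : EtCoh.Ab S := kernel (artinSchreierEndo S p hpf.out h0)

/-- the comparison map from the constant sheaf to the kernel -/
noncomputable def ψ : EtCoh.const S (ZMod p) ⟶ K p h0 :=
  kernel.lift _ (ψ' p h0) (ψ'_comp p h0)

lemma ψ_ι : ψ p h0 ≫ kernel.ι (artinSchreierEndo S p hpf.out h0) = ψ' p h0 :=
  kernel.lift_ι _ _ _

lemma isEmpty_of_one_eq_zero (U : S.Etale) (h : (1 : Γ(U.left, ⊤)) = 0) : IsEmpty U.left := by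
  refine ⟨fun u => ?_⟩
  have h1 := congrArg (U.left.presheaf.germ ⊤ u trivial) h
  rw [map_one, map_zero] at h1
  exact one_ne_zero h1

instance isLocallyInjective_φ :
    Presheaf.IsLocallyInjective S.smallEtaleTopology (φ p h0) where
  equalizerSieve_mem {U} x y h := by
    by_cases hxy : x = y
    · subst hxy
      rw [Presheaf.equalizerSieve_self_eq_top]
      exact S.smallEtaleTopology.top_mem _
    · have h1 : cst p h0 U.unop x.down = cst p h0 U.unop y.down := congrArg ULift.down h
      have h2 : x.down - y.down ≠ 0 := fun h3 => hxy (ULift.ext _ _ (sub_eq_zero.1 h3))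
      have h3 : cst p h0 U.unop (x.down - y.down) = 0 := by rw [map_sub, h1, sub_self]
      have h4 : (1 : Γ(U.unop.left, ⊤)) = 0 := by
        have := congrArg (fun t => cst p h0 U.unop (x.down - y.down)⁻¹ * t) h3
        simp only [mul_zero] at this
        rw [← map_mul, inv_mul_cancel₀ h2, map_one] at this
        exact this
      have := isEmpty_of_one_eq_zero U.unop h4
      rw [Groth.Agent.H60.QCEtale.mem_top_iff]
      intro u
      exact (IsEmpty.false u).elim

instance isLocallySurjective_toSheafify :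
    Presheaf.IsLocallySurjective S.smallEtaleTopology
      (toSheafify S.smallEtaleTopology ((Functor.const S.Etaleᵒᵖ).obj (Mp p S))) := by
  have : S.smallEtaleTopology.WEqualsLocallyBijective AddCommGrpCat.{u + 1} := inferInstance
  infer_instance

instance isLocallyInjective_ψ' : Sheaf.IsLocallyInjective (ψ' p h0) := by
  have h2 := isLocallyInjective_φ p h0
  have fac : toSheafify S.smallEtaleTopology ((Functor.const S.Etaleᵒᵖ).obj (Mp p S)) ≫
      sheafifyLift S.smallEtaleTopology (φ p h0) (EtCoh.Ga S).property = φ p h0 :=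
    toSheafify_sheafifyLift _ _ _
  have h3 : Presheaf.IsLocallyInjective S.smallEtaleTopology
      (sheafifyLift S.smallEtaleTopology (φ p h0) (EtCoh.Ga S).property) :=
    Presheaf.isLocallyInjective_of_isLocallyInjective_of_isLocallySurjective_fac
      S.smallEtaleTopology (φ p h0) fac
  exact h3

instance isLocallyInjective_ψ : Sheaf.IsLocallyInjective (ψ p h0) :=
  Presheaf.isLocallyInjective_of_isLocallyInjective_fac S.smallEtaleTopology
    (congrArg (fun m => m.hom) (ψ_ι p h0))

instance isLocallySurjective_ψ : Sheaf.IsLocallySurjective (ψ p h0) where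
  imageSieve_mem {U} s := by
    rw [Groth.Agent.H60.QCEtale.mem_top_iff]
    intro u
    let ι := kernel.ι (artinSchreierEndo S p hpf.out h0)
    let x : Γ(U.left, ⊤) := ((ι.hom.app (op U)).hom s).down
    have hx : x ^ p = x := by
      have h1 : (ι ≫ artinSchreierEndo S p hpf.out h0).hom.app (op U) s = 0 := by
        rw [kernel.condition]
        rfl
      have h2 : x ^ p - x = 0 := congrArg ULift.down h1
      exact sub_eq_zero.1 h2
    obtain ⟨V, f, v, i, hv, hi⟩ := exists_local_const p h0 U x hx u
    refine ⟨V, f, v, ?_, hv⟩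
    refine ⟨((toSheafify S.smallEtaleTopology ((Functor.const S.Etaleᵒᵖ).obj (Mp p S))).app
      (op V)).hom (ULift.up i), ?_⟩
    apply Groth.Agent.H60.ClosedPt.injective_app_of_mono ι V
    have h3 : (ι.hom.app (op V)).hom (((ψ p h0).hom.app (op V)).hom
        (((toSheafify S.smallEtaleTopology ((Functor.const S.Etaleᵒᵖ).obj (Mp p S))).app
          (op V)).hom (ULift.up i))) = ((φ p h0).app (op V)).hom (ULift.up i) := by
      have e1 := congrArg (fun m => (m.app (op V)).hom (ULift.up i)) (toSheafify_ψ' p h0)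
      have e2 := congrArg (fun m => (m.hom.app (op V)).hom
        (((toSheafify S.smallEtaleTopology ((Functor.const S.Etaleᵒᵖ).obj (Mp p S))).app
          (op V)).hom (ULift.up i))) (ψ_ι p h0)
      exact e2.trans e1
    refine h3.trans ?_
    have h4 : (ι.hom.app (op V)).hom (((K p h0).obj.map f.op).hom s) =
        ((EtCoh.Ga S).obj.map f.op).hom ((ι.hom.app (op U)).hom s) :=
      (ConcreteCategory.congr_hom (ι.hom.naturality f.op) s)
    refine Eq.trans ?_ h4.symm
    rw [φ_app_apply]
    exact congrArg ULift.up hi.symm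

theorem isIso_ψ : IsIso (ψ p h0) :=
  (Sheaf.isLocallyBijective_iff_isIso (ψ p h0)).1 ⟨inferInstance, inferInstance⟩

end Kernel

end Groth.Agent.H60.ArtinSchreier
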