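import Groth.Agent.H60.ClosedPt1
import Groth.Agent.H21.ConstrGen3
import Groth.Agent.H4.IntInjEss

/-!
# Sheaves with finite support in closed points are acyclic (helper60)
-/

set_option autoImplicit false
open CategoryTheory CategoryTheory.Limits AlgebraicGeometry Opposite Abelian
universe u

namespace Groth.Agent.H60.ClosedPt

open Groth.Agent.H4.Stalks Groth.Agent.H4.ClosedStalk

variable {X : Scheme.{u}}

section General

lemma H_subsingleton_of_shortExact {S : ShortComplex (EtCoh.Ab X)} (hS : S.ShortExact) (q : ℕ)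
    (h1 : Subsingleton (EtCoh.H X S.X₁ q)) (h3 : Subsingleton (EtCoh.H X S.X₃ q)) :
    Subsingleton (EtCoh.H X S.X₂ q) := by
  suffices h : ∀ x : EtCoh.H X S.X₂ q, x = 0 from ⟨fun a b => (h a).trans (h b).symm⟩
  intro x
  have hx : x.comp (Ext.mk₀ S.g) (add_zero q) = 0 := Subsingleton.elim (α := EtCoh.H X S.X₃ q) _ _
  obtain ⟨x₁, hx₁⟩ := Ext.covariant_sequence_exact₂ _ hS x hx
  rw [← hx₁, Subsingleton.elim (α := EtCoh.H X S.X₁ q) x₁ 0, Ext.zero_comp]

lemma H_subsingleton_of_iso {M N : EtCoh.Ab X} (e : M ≅ N) (q : ℕ)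
    (h : Subsingleton (EtCoh.H X M q)) : Subsingleton (EtCoh.H X N q) := by
  have e' := (EtCoh.HF X q).mapIso e
  have hs : Subsingleton ((EtCoh.HF X q).obj M) := h
  have hb : Function.Surjective e'.hom := (ConcreteCategory.bijective_of_isIso e'.hom).2
  exact hb.subsingleton

lemma H_subsingleton_of_isZero {M : EtCoh.Ab X} (h : IsZero M) (q : ℕ) :
    Subsingleton (EtCoh.H X M q) :=
  Sheaf.subsingleton_H_of_isZero h q

/-- the support of a subsheaf is contained in the support of the sheaf -/
lemma supp_subset_of_mono {M N : EtCoh.Ab X} (f : M ⟶ N) [Mono f] :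
    EtPBC.supp M ⊆ EtPBC.supp N := by
  rintro x ⟨Ω, _, _, ξ, hξ, hnz⟩
  refine ⟨Ω, inferInstance, inferInstance, ξ, hξ, fun hz => hnz ?_⟩
  have : Mono ((EtCoh.stalk ξ).map f) := inferInstance
  exact IsZero.of_mono ((EtCoh.stalk ξ).map f) hz

end General

section Unit

variable (x : X) (hx : IsClosed ({x} : Set X)) (M : EtCoh.Ab X)

/-- the unit `M ⟶ i_* i⁻¹ M` at a closed point -/
noncomputable abbrev unitAt : M ⟶ (EtCoh.push (X.fromSpecResidueField x)).obj
    ((EtCoh.pull (X.fromSpecResidueField x)).obj M) :=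
  (EtCoh.pullPushAdj (X.fromSpecResidueField x)).unit.app M

include hx in
/-- the unit at a closed point is an isomorphism on stalks at geometric points over the point -/
lemma isIso_stalk_unitAt {Ω : Type u} [Field Ω] [IsSepClosed Ω]
    (ξ : Spec (CommRingCat.of Ω) ⟶ X) (hξ : ξ default = x) :
    IsIso ((EtCoh.stalk ξ).map (unitAt x M)) := by
  have h1 : IsClosedImmersion (X.fromSpecResidueField x) :=
    isClosed_singleton_iff_isClosedImmersion.mp hx
  obtain ⟨ζ, hζ⟩ := exists_lift_geomPoint (X.fromSpecResidueField x) ξ (by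
    rw [Scheme.range_fromSpecResidueField, hξ]
    rfl)
  subst hζ
  exact isIso_stalk_unit (X.fromSpecResidueField x) ζ M

include hx in
lemma isZero_stalk_push_of_ne (G : EtCoh.Ab (Spec (X.residueField x)))
    {Ω : Type u} [Field Ω] [IsSepClosed Ω]
    (ξ : Spec (CommRingCat.of Ω) ⟶ X) (hξ : ξ default ≠ x) :
    IsZero ((EtCoh.stalk ξ).obj ((EtCoh.push (X.fromSpecResidueField x)).obj G)) := by
  apply Groth.Agent.H4.IntInj.isZero_stalk_push
  · have : Set.range (X.fromSpecResidueField x).base = {x} :=
      Scheme.range_fromSpecResidueField x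
    rw [this]
    exact hx
  · have : Set.range (X.fromSpecResidueField x).base = {x} :=
      Scheme.range_fromSpecResidueField x
    rw [this]
    exact hξ

include hx in
lemma epi_unitAt : Epi (unitAt x M) := by
  apply Groth.Agent.H21.ConstrGen.epi_of_stalk_surj
  intro s
  by_cases hs : s = x
  · have := isIso_stalk_unitAt x hx M (geomPt s) (by rw [geomPt_default]; exact hs)
    exact (ConcreteCategory.bijective_of_isIso _).2
  · have hz := isZero_stalk_push_of_ne x hx ((EtCoh.pull (X.fromSpecResidueField x)).obj M)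
      (geomPt s) (by rw [geomPt_default]; exact hs)
    have := AddCommGrpCat.subsingleton_of_isZero hz
    intro b
    exact ⟨0, Subsingleton.elim _ _⟩

include hx in
lemma isZero_stalk_kernel_unitAt {Ω : Type u} [Field Ω] [IsSepClosed Ω]
    (ξ : Spec (CommRingCat.of Ω) ⟶ X) (hξ : ξ default = x) :
    IsZero ((EtCoh.stalk ξ).obj (kernel (unitAt x M))) := by
  have := isIso_stalk_unitAt x hx M ξ hξ
  have h0 : (EtCoh.stalk ξ).map (kernel.ι (unitAt x M)) ≫ (EtCoh.stalk ξ).map (unitAt x M) = 0 := by
    rw [← Functor.map_comp, kernel.condition, Functor.map_zero]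
  have h1 : (EtCoh.stalk ξ).map (kernel.ι (unitAt x M)) = 0 := by
    rw [← cancel_mono ((EtCoh.stalk ξ).map (unitAt x M)), h0, zero_comp]
  exact IsZero.of_mono_eq_zero _ h1

include hx in
lemma supp_kernel_unitAt_subset : EtPBC.supp (kernel (unitAt x M)) ⊆ EtPBC.supp M \ {x} := by
  intro y hy
  refine ⟨supp_subset_of_mono (kernel.ι (unitAt x M)) hy, ?_⟩
  rintro (rfl : y = x)
  obtain ⟨Ω, _, _, ξ, hξ, hnz⟩ := hy
  exact hnz (isZero_stalk_kernel_unitAt y hx M ξ
    (Groth.Agent.H21.ConstrSupp.default_of_range ξ hξ))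

end Unit

section Induction

variable {K : Type u} [Field K] [IsSepClosed K] (a : X ⟶ Spec (CommRingCat.of K))
  [LocallyOfFiniteType a]

include a in
/-- sheaves with support in a finite set of closed points are acyclic -/
theorem H_subsingleton_of_supp_subset_finset (n : ℕ) :
    ∀ (M : EtCoh.Ab X) (T : Finset X), T.card ≤ n → (∀ x ∈ T, IsClosed ({x} : Set X)) →
      EtPBC.supp M ⊆ ↑T → ∀ q : ℕ, 0 < q → Subsingleton (EtCoh.H X M q) := by
  classical
  induction n with
  | zero =>
    intro M T hT _ hsupp q _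
    have hT' : T = ∅ := Finset.card_eq_zero.mp (Nat.le_zero.mp hT)
    subst hT'
    apply H_subsingleton_of_isZero
    apply isZero_of_stalks
    intro s
    apply Groth.Agent.H21.ConstrGen.isZero_stalk_of_not_mem_supp
    intro hs
    exact absurd (hsupp hs) (by simp)
  | succ n ih =>
    intro M T hT hcl hsupp q hq
    rcases T.eq_empty_or_nonempty with hT' | ⟨x, hxT⟩
    · subst hT'
      apply H_subsingleton_of_isZero
      apply isZero_of_stalks
      intro s
      apply Groth.Agent.H21.ConstrGen.isZero_stalk_of_not_mem_supp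
      intro hs
      exact absurd (hsupp hs) (by simp)
    · have hx := hcl x hxT
      have hepi := epi_unitAt x hx M
      let S : ShortComplex (EtCoh.Ab X) :=
        ShortComplex.mk (kernel.ι (unitAt x M)) (unitAt x M) (kernel.condition _)
      have hS : S.ShortExact := by
        have : Mono S.f := inferInstanceAs (Mono (kernel.ι (unitAt x M)))
        have : Epi S.g := hepi
        exact ShortComplex.ShortExact.mk
          (ShortComplex.exact_of_f_is_kernel _ (kernelIsKernel (unitAt x M)))
      have h3 : Subsingleton (EtCoh.H X S.X₃ q) :=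
        H_push_subsingleton X a x hx _ q hq
      have h1 : Subsingleton (EtCoh.H X S.X₁ q) := by
        apply ih (kernel (unitAt x M)) (T.erase x)
        · rw [Finset.card_erase_of_mem hxT]
          omega
        · intro y hy
          exact hcl y (Finset.mem_of_mem_erase hy)
        · intro y hy
          have := supp_kernel_unitAt_subset x hx M hy
          rw [Finset.coe_erase]
          exact ⟨hsupp this.1, this.2⟩
        · exact hq
      exact H_subsingleton_of_shortExact hS q h1 h3

include a in
theorem H_subsingleton_of_supp_finite (M : EtCoh.Ab X) (T : Finset X)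
    (hcl : ∀ x ∈ T, IsClosed ({x} : Set X)) (hsupp : EtPBC.supp M ⊆ ↑T) (q : ℕ) (hq : 0 < q) :
    Subsingleton (EtCoh.H X M q) :=
  H_subsingleton_of_supp_subset_finset a T.card M T le_rfl hcl hsupp q hq

end Induction

end Groth.Agent.H60.ClosedPt
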