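import Groth.Agent.H75.AmitsurCech

/-!
# An abstract form of the Amitsur exactness step (helper60)

Three consecutive terms `P → Q → T` of a cosimplicial `R`-algebra, with `Q = A ⊗ P` and
`T = A ⊗ Q` via the first coface and a structure map from `A`; then the alternating sums are exact
when `A` is faithfully flat over `R`.
-/

set_option autoImplicit false
open TensorProduct

namespace Groth.Agent.H60.AmitsurAbs

open Groth.Agent.H75

variable {R A P Q T : Type*} [CommRing R] [CommRing A] [Algebra R A]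
  [CommRing P] [CommRing Q] [CommRing T] [Algebra R P] [Algebra R Q] [Algebra R T]

theorem exact_of_pushouts [Module.FaithfullyFlat R A] {n : ℕ}
    (πQ : A →ₐ[R] Q) (πT : A →ₐ[R] T)
    (dP : Fin (n + 1) → (P →ₐ[R] Q)) (dQ : Fin (n + 2) → (Q →ₐ[R] T))
    (hQ : Function.Bijective (Algebra.TensorProduct.productMap πQ (dP 0)))
    (hT : Function.Bijective (Algebra.TensorProduct.productMap πT (dQ 0)))
    (c1 : ∀ i : Fin (n + 1), (dQ i.succ).comp πQ = πT)
    (c2 : ∀ i : Fin (n + 1), (dQ i.succ).comp (dP 0) = (dQ 0).comp (dP i))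
    (hdd : altSum dQ ∘ₗ altSum dP = 0) :
    Function.Exact (altSum dP) (altSum dQ) := by
  let eQ : A ⊗[R] P ≃ₐ[R] Q := AlgEquiv.ofBijective _ hQ
  let eT : A ⊗[R] Q ≃ₐ[R] T := AlgEquiv.ofBijective _ hT
  have heQ : ∀ z, eQ z = Algebra.TensorProduct.productMap πQ (dP 0) z := fun z => rfl
  have heT : ∀ z, eT z = Algebra.TensorProduct.productMap πT (dQ 0) z := fun z => rfl
  refine amitsur_step dP dQ (eQ.symm : Q →ₐ[R] A ⊗[R] P) (eT.symm : T →ₐ[R] A ⊗[R] Q) ?_ ?_ hdd
  · refine AlgHom.ext fun b => ?_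
    change eT.symm (dQ 0 b) = (1 : A) ⊗ₜ[R] b
    rw [AlgEquiv.symm_apply_eq, heT, Algebra.TensorProduct.productMap_apply_tmul, map_one, one_mul]
  · intro i
    have key : ((dQ i.succ).comp (eQ : A ⊗[R] P →ₐ[R] Q)) =
        (eT : A ⊗[R] Q →ₐ[R] T).comp (Algebra.TensorProduct.map (AlgHom.id R A) (dP i)) := by
      apply Algebra.TensorProduct.ext
      · refine AlgHom.ext fun a => ?_
        have h1 := DFunLike.congr_fun (c1 i) a
        simp only [AlgHom.comp_apply] at h1
        simp [heQ, heT, h1]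
      · refine AlgHom.ext fun b => ?_
        have h2 := DFunLike.congr_fun (c2 i) b
        simp only [AlgHom.comp_apply] at h2
        simp [heQ, heT, h2]
    refine AlgHom.ext fun c => ?_
    obtain ⟨z, rfl⟩ := eQ.surjective c
    have h3 := DFunLike.congr_fun key z
    simp only [AlgHom.comp_apply, AlgEquiv.coe_algHom] at h3
    change eT.symm (dQ i.succ (eQ z)) = Algebra.TensorProduct.map (AlgHom.id R A) (dP i) (eQ.symm (eQ z))
    rw [AlgEquiv.symm_apply_apply, AlgEquiv.symm_apply_eq]
    exact h3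

end Groth.Agent.H60.AmitsurAbs
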