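import Groth.Agent.H60.AffCartan
import Groth.Agent.H60.AmitsurAbs
import Groth.Prelude.Def_EtGm

/-!
# Čech acyclicity of `G_a` on affine étale covers (helper60)

For a surjective étale morphism `V ⟶ U` of affine objects of the small étale site of `X`, the Čech
complex of `G_a` is the Amitsur complex of the faithfully flat ring map `Γ(U) → Γ(V)`, hence exact
in positive degrees.  Consequently `H^p(S_et, G_a) = 0` for `S` affine and `p ≥ 1`.
-/

set_option autoImplicit false
set_option backward.isDefEq.respectTransparency.types false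
universe u
open CategoryTheory CategoryTheory.Limits AlgebraicGeometry Opposite TensorProduct

namespace Groth.Agent.H60.GaCech

open Groth.Agent.H43.CechPts Groth.Agent.H60.CechFree Groth.Agent.H60.CechDeltaF
  Groth.Agent.H69.CechZero Groth.Agent.H60.AffCartan

section Ring

/-- two pushouts of the same span: the product map from the tensor product is bijective -/
lemma productMap_bijective_of_isPushout {R A B Q : Type u} [CommRing R] [CommRing A] [CommRing B]
    [CommRing Q] [Algebra R A] [Algebra R B] [Algebra R Q] (a : A →ₐ[R] Q) (b : B →ₐ[R] Q)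
    (h : IsPushout (CommRingCat.ofHom (algebraMap R A)) (CommRingCat.ofHom (algebraMap R B))
      (CommRingCat.ofHom a.toRingHom) (CommRingCat.ofHom b.toRingHom)) :
    Function.Bijective (Algebra.TensorProduct.productMap a b) := by
  let e := (CommRingCat.isPushout_tensorProduct R A B).isoIsPushout _ _ h
  have he : e.hom = CommRingCat.ofHom (Algebra.TensorProduct.productMap a b).toRingHom := by
    apply (CommRingCat.isPushout_tensorProduct R A B).hom_ext
    · rw [IsPushout.inl_isoIsPushout_hom]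
      ext x
      simp
    · rw [IsPushout.inr_isoIsPushout_hom]
      ext x
      simp
  have h1 : Function.Bijective e.hom.hom := ConcreteCategory.bijective_of_isIso e.hom
  rw [he] at h1
  exact h1

end Ring


variable {X : Scheme.{u}} {U : X.Etale} (V : Over U)

/-- the `(n+1)`-fold power of `V` over `U` -/
noncomputable abbrev Pw (n : ℕ) : Over U := ∏ᶜ (fun _ : Fin (n + 1) => V)

/-- the coface maps -/
noncomputable abbrev cof (n : ℕ) (i : Fin (n + 2)) : Pw V (n + 1) ⟶ Pw V n :=
  Pi.lift (fun a => Pi.π (fun _ : Fin (n + 2) => V) (Fin.succAbove i a))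

/-- the first projection -/
noncomputable abbrev pr0 (n : ℕ) : Pw V n ⟶ V := Pi.π (fun _ : Fin (n + 1) => V) 0

lemma cof_π (n : ℕ) (i : Fin (n + 2)) (a : Fin (n + 1)) :
    cof V n i ≫ Pi.π (fun _ : Fin (n + 1) => V) a =
      Pi.π (fun _ : Fin (n + 2) => V) (Fin.succAbove i a) :=
  Pi.lift_π _ _

/-- the power is the product of `V` and the previous power -/
noncomputable def isLimitFan (n : ℕ) : IsLimit (BinaryFan.mk (pr0 V (n + 1)) (cof V n 0)) :=
  BinaryFan.IsLimit.mk _
    (fun {T} f g => Pi.lift (Fin.cons (α := fun _ => (T ⟶ V)) f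
      (fun a => g ≫ Pi.π (fun _ : Fin (n + 1) => V) a)))
    (fun {T} f g => by
      change Pi.lift _ ≫ Pi.π (fun _ : Fin (n + 2) => V) 0 = f
      rw [Pi.lift_π]
      rfl)
    (fun {T} f g => by
      change Pi.lift _ ≫ cof V n 0 = g
      apply Pi.hom_ext
      intro a
      rw [Category.assoc, cof_π, Pi.lift_π, Fin.succAbove_zero]
      rfl)
    (fun {T} f g m h1 h2 => by
      change m ≫ pr0 V (n + 1) = f at h1
      change m ≫ cof V n 0 = g at h2
      refine Pi.hom_ext (f := fun _ : Fin (n + 2) => V) _ _ (fun j => ?_)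
      rw [Pi.lift_π]
      refine Fin.cases ?_ (fun a => ?_) j
      · exact h1
      · rw [Fin.cons_succ, ← h2, Category.assoc, cof_π, Fin.succAbove_zero])

lemma isPullback_etale (n : ℕ) :
    IsPullback (pr0 V (n + 1)).left (cof V n 0).left V.hom (Pw V n).hom :=
  Over.isPullback_of_binaryFan_isLimit _ (isLimitFan V n)

lemma isPullback_scheme (n : ℕ) :
    IsPullback (pr0 V (n + 1)).left.left (cof V n 0).left.left V.hom.left (Pw V n).hom.left :=
  (isPullback_etale V n).map (Scheme.Etale.forget X ⋙ Over.forget X)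

lemma aff_Pw (hU : Aff U) (hV : Aff V.left) (n : ℕ) : IsAffine (Pw V n).left.left :=
  aff_product U hU (fun _ : Fin (n + 1) => V) (fun _ => hV)

lemma isPushout_Γ (hU : Aff U) (hV : Aff V.left) (n : ℕ) :
    IsPushout V.hom.left.appTop (Pw V n).hom.left.appTop
      (pr0 V (n + 1)).left.left.appTop (cof V n 0).left.left.appTop := by
  have : IsAffine U.left := hU
  have : IsAffine V.left.left := hV
  have : IsAffine (Pw V n).left.left := aff_Pw V hU hV n
  exact isPushout_appTop_of_isPullback (isPullback_scheme V n)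


section Presheaf

variable (P : X.Etaleᵒᵖ ⥤ AddCommGrpCat.{u + 1})

/-- the tautological point -/
noncomputable def pp (n : ℕ) : A (one V) (Fin (n + 1)) (Pw V n).left := ⟨fun _ => ⟨⟩, 𝟙 _⟩

/-- cochains of the one-element family are sections over the powers -/
noncomputable def θ (n : ℕ) : Co (one V) P n →+ P.obj (op (Pw V n).left) := ee (one V) P (pp V n)

lemma ee_eq (n : ℕ) {W : X.Etale} (p : A (one V) (Fin (n + 1)) W) (c : Co (one V) P n) :
    ee (one V) P p c = (P.map (show W ⟶ (Pw V n).left from p.2).op).hom (θ V P n c) := by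
  obtain ⟨x, g⟩ := p
  change (E (one V) P ⟨x, g⟩).hom c = (P.map g.op).hom ((E (one V) P (pp V n)).hom c)
  have h : E (one V) P ⟨x, g⟩ = E (one V) P (pp V n) ≫ P.map g.op := by
    have := E_precomp (one V) P g (pp V n)
    rw [← this]
    have h2 : (⟨x, g⟩ : A (one V) (Fin (n + 1)) W) = A.precomp g (pp V n) := by
      change (⟨fun _ => ⟨⟩, g⟩ : A (one V) (Fin (n + 1)) W) = ⟨fun _ => ⟨⟩, g ≫ 𝟙 _⟩
      rw [Category.comp_id]
    rw [h2]
  rw [h]
  rfl

lemma θ_injective (n : ℕ) : Function.Injective (θ V P n) := by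
  intro c c' h
  apply co_ext
  intro W p
  rw [ee_eq, ee_eq, h]

lemma θ_surjective (n : ℕ) : Function.Surjective (θ V P n) := by
  intro s
  refine ⟨(Concrete.productEquiv (fun x : Fin (n + 1) → PUnit.{u + 2} =>
    P.obj (op (∏ᶜ (one V ∘ x)).left))).symm (fun x => s), ?_⟩
  change (P.map (𝟙 (Pw V n).left).op).hom ((Pi.π (fun x : Fin (n + 1) → PUnit.{u + 2} =>
    P.obj (op (∏ᶜ (one V ∘ x)).left)) (fun _ => ⟨⟩)).hom _) = s
  rw [Concrete.productEquiv_symm_apply_π]
  simp

lemma θ_dd (n : ℕ) (c : Co (one V) P n) :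
    θ V P (n + 1) (dd (one V) P n c) =
      ∑ i : Fin (n + 2), (-1 : ℤ) ^ (i : ℕ) • (P.map (cof V n i).left.op).hom (θ V P n c) := by
  rw [θ, ee_dd]
  refine Finset.sum_congr rfl fun i _ => ?_
  rw [ee_eq]
  congr 3

end Presheaf


/-- sections of `G_a` are global functions -/
noncomputable def gaSec (W : X.Etale) : (EtCoh.Ga X).obj.obj (op W) ≃+ Γ(W.left, ⊤) :=
  AddEquiv.ulift

lemma gaSec_map {W W' : X.Etale} (g : W' ⟶ W) (s : (EtCoh.Ga X).obj.obj (op W)) :
    gaSec W' (((EtCoh.Ga X).obj.map g.op).hom s) = g.left.appTop.hom (gaSec W s) := rfl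


/-- global functions on the total space of an object over `U` -/
def G (Z : Over U) : Type u := Γ(Z.left.left, ⊤)

noncomputable instance (Z : Over U) : CommRing (G Z) :=
  inferInstanceAs (CommRing Γ(Z.left.left, ⊤))

noncomputable instance (Z : Over U) : Algebra Γ(U.left, ⊤) (G Z) :=
  Z.hom.left.appTop.hom.toAlgebra

lemma algebraMap_G (Z : Over U) : algebraMap Γ(U.left, ⊤) (G Z) = Z.hom.left.appTop.hom := rfl

/-- pullback of functions, as an algebra map -/
noncomputable def Gmap {Z Z' : Over U} (f : Z ⟶ Z') : G Z' →ₐ[Γ(U.left, ⊤)] G Z :=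
  { f.left.left.appTop.hom with
    commutes' := fun r => by
      have h1 : f.left.left ≫ Z'.hom.left = Z.hom.left := by
        rw [← MorphismProperty.Comma.comp_left]
        exact congrArg (fun m => m.left) (Over.w f)
      have h2 := congrArg (fun m => m.appTop.hom r) h1
      exact h2 }

lemma Gmap_apply {Z Z' : Over U} (f : Z ⟶ Z') (s : G Z') : Gmap f s = f.left.left.appTop.hom s := rfl

lemma Gmap_comp {Z Z' Z'' : Over U} (f : Z ⟶ Z') (g : Z' ⟶ Z'') :
    Gmap (f ≫ g) = (Gmap f).comp (Gmap g) := by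
  refine AlgHom.ext fun s => ?_
  rfl

lemma faithfullyFlat_G (V : Over U) (hU : Aff U) (hV : Aff V.left) (hs : Surjective V.hom.left) :
    Module.FaithfullyFlat Γ(U.left, ⊤) (G V) := by
  have : IsAffine U.left := hU
  have : IsAffine V.left.left := hV
  have h : Flat V.hom.left ∧ Surjective V.hom.left := ⟨inferInstance, hs⟩
  exact (Flat.flat_and_surjective_iff_faithfullyFlat_of_isAffine V.hom.left).1 h


/-! ### the main theorem -/

lemma isZero_homology_of_forall {C : Type*} [Category C] {B : C} [HasFiniteProducts (Over B)]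
    {ι : Type (u + 1)} (Y : ι → Over B) (P : Cᵒᵖ ⥤ AddCommGrpCat.{u + 1}) (n : ℕ)
    (h : ∀ c : Co Y P (n + 1), dd Y P (n + 1) c = 0 → ∃ b : Co Y P n, dd Y P n b = c) :
    IsZero (((CC Y).obj P).homology (n + 1)) := by
  rw [← HomologicalComplex.exactAt_iff_isZero_homology,
    HomologicalComplex.exactAt_iff' _ n (n + 1) (n + 2) (by simp) (by simp),
    ShortComplex.ab_exact_iff]
  intro x hx
  exact h x hx

section Main

/-- the ring-valued version of `θ` for `G_a` -/
noncomputable def τ (n : ℕ) : Co (one V) (EtCoh.Ga X).obj n →+ G (Pw V n) :=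
  (gaSec (Pw V n).left).toAddMonoidHom.comp (θ V (EtCoh.Ga X).obj n)

lemma τ_injective (n : ℕ) : Function.Injective (τ V n) :=
  (gaSec (Pw V n).left).injective.comp (θ_injective V _ n)

lemma τ_surjective (n : ℕ) : Function.Surjective (τ V n) :=
  (gaSec (Pw V n).left).surjective.comp (θ_surjective V _ n)

lemma τ_dd (n : ℕ) (c : Co (one V) (EtCoh.Ga X).obj n) :
    τ V (n + 1) (dd (one V) (EtCoh.Ga X).obj n c) =
      Groth.Agent.H75.altSum (fun i => Gmap (cof V n i)) (τ V n c) := by
  change gaSec _ (θ V _ (n + 1) (dd (one V) (EtCoh.Ga X).obj n c)) = _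
  rw [θ_dd, map_sum, Groth.Agent.H75.altSum_apply]
  refine Finset.sum_congr rfl fun i _ => ?_
  rw [map_zsmul, gaSec_map]
  rfl

lemma cof_pr0 (n : ℕ) (i : Fin (n + 1)) : cof V n i.succ ≫ pr0 V n = pr0 V (n + 1) := by
  rw [cof_π, Fin.succ_succAbove_zero]

lemma cof_cof (n : ℕ) (i : Fin (n + 2)) :
    cof V (n + 1) i.succ ≫ cof V n 0 = cof V (n + 1) 0 ≫ cof V n i := by
  refine Pi.hom_ext (f := fun _ : Fin (n + 1) => V) _ _ (fun a => ?_)
  rw [Category.assoc, Category.assoc, cof_π, cof_π, cof_π, cof_π, Fin.succAbove_zero,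
    Fin.succAbove_zero, Fin.succ_succAbove_succ]

theorem exists_dd_eq_Ga (hU : Aff U) (hV : Aff V.left) (hs : Surjective V.hom.left) (p : ℕ)
    (c : Co (one V) (EtCoh.Ga X).obj (p + 1)) (hc : dd (one V) (EtCoh.Ga X).obj (p + 1) c = 0) :
    ∃ b : Co (one V) (EtCoh.Ga X).obj p, dd (one V) (EtCoh.Ga X).obj p b = c := by
  have hff := faithfullyFlat_G V hU hV hs
  have hex : Function.Exact (Groth.Agent.H75.altSum (fun i => Gmap (cof V p i)))
      (Groth.Agent.H75.altSum (fun i => Gmap (cof V (p + 1) i))) := by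
    refine Groth.Agent.H60.AmitsurAbs.exact_of_pushouts (Gmap (pr0 V (p + 1)))
      (Gmap (pr0 V (p + 2))) _ _ ?_ ?_ ?_ ?_ ?_
    · exact productMap_bijective_of_isPushout _ _ (isPushout_Γ V hU hV p)
    · exact productMap_bijective_of_isPushout _ _ (isPushout_Γ V hU hV (p + 1))
    · intro i
      rw [← Gmap_comp, cof_pr0]
    · intro i
      rw [← Gmap_comp, ← Gmap_comp, cof_cof]
    · refine LinearMap.ext fun r => ?_
      obtain ⟨b, rfl⟩ := τ_surjective V p r
      rw [LinearMap.comp_apply, ← τ_dd, ← τ_dd, dd_dd, map_zero]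
      rfl
  have h1 : Groth.Agent.H75.altSum (fun i => Gmap (cof V (p + 1) i)) (τ V (p + 1) c) = 0 := by
    rw [← τ_dd, hc, map_zero]
  obtain ⟨r, hr⟩ := (hex _).1 h1
  obtain ⟨b, rfl⟩ := τ_surjective V p r
  refine ⟨b, τ_injective V (p + 1) ?_⟩
  rw [τ_dd, hr]

end Main

variable (X) in
/-- `G_a` is Čech-acyclic on affine covers. -/
theorem acAff_Ga : AcAff (EtCoh.Ga X) := by
  intro U hU V hV hs p
  exact isZero_homology_of_forall (one V) _ p (exists_dd_eq_Ga V hU hV hs p)

/-- `H^p(S_et, G_a) = 0` for `S` affine, `p ≥ 1`. -/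
theorem H_Ga_subsingleton (S : Scheme.{u}) [IsAffine S] (p : ℕ) (hp : 1 ≤ p) :
    Subsingleton (EtCoh.H S (EtCoh.Ga S) p) :=
  AffCartan.H_subsingleton (EtCoh.Ga S) (acAff_Ga S) p hp

end Groth.Agent.H60.GaCech
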