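import Mathlib
import Groth.Prelude.Def_W4c5etcohweilstudentAS
import Groth.Agent.H60.AS6
import Groth.Agent.H60.GaCech
import Groth.Agent.H60.ClosedPt2

set_option autoImplicit false
set_option backward.isDefEq.respectTransparency.types false
universe u
open CategoryTheory CategoryTheory.Limits AlgebraicGeometry Opposite Abelian

namespace Groth.Agent.H60.ArtinSchreier

open W4c5etcohweilstudent

section LES

variable {X : Scheme.{u}}

lemma H_subsingleton_X₁ {S : ShortComplex (EtCoh.Ab X)} (hS : S.ShortExact) (q : ℕ)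
    (h2 : Subsingleton (EtCoh.H X S.X₂ (q + 1))) (h3 : Subsingleton (EtCoh.H X S.X₃ q)) :
    Subsingleton (EtCoh.H X S.X₁ (q + 1)) := by
  suffices h : ∀ x : EtCoh.H X S.X₁ (q + 1), x = 0 from ⟨fun a b => (h a).trans (h b).symm⟩
  intro x
  have hx : x.comp (Ext.mk₀ S.f) (add_zero (q + 1)) = 0 :=
    Subsingleton.elim (α := EtCoh.H X S.X₂ (q + 1)) _ _
  obtain ⟨x₃, hx₃⟩ := Ext.covariant_sequence_exact₁ _ hS x hx rfl
  rw [← hx₃, Subsingleton.elim (α := EtCoh.H X S.X₃ q) x₃ 0, Ext.zero_comp]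

end LES

section Main

variable {S : Scheme.{u}} (p : ℕ) [hpf : Fact p.Prime] (h0 : (p : Γ(S, ⊤)) = 0)

/-- the Artin–Schreier short exact sequence `0 → ker → G_a → G_a → 0` -/
noncomputable def asSeq : ShortComplex (EtCoh.Ab S) :=
  ShortComplex.mk (kernel.ι (artinSchreierEndo S p hpf.out h0)) (artinSchreierEndo S p hpf.out h0)
    (kernel.condition _)

lemma asSeq_shortExact : (asSeq p h0).ShortExact := by
  have := epi_artinSchreier p hpf.out h0
  exact ShortComplex.ShortExact.mk' (ShortComplex.exact_kernel _)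
    (inferInstanceAs (Mono (kernel.ι (artinSchreierEndo S p hpf.out h0)))) this

/-- the constant sheaf `ℤ/p` is the kernel of the Artin–Schreier map -/
noncomputable def constIsoKernel : EtCoh.const S (ZMod p) ≅ K p h0 :=
  haveI := isIso_ψ p h0
  asIso (ψ p h0)

include h0 in
theorem H_const_subsingleton [IsAffine S] (q : ℕ) (hq : 2 ≤ q) :
    Subsingleton (EtCoh.H S (EtCoh.const S (ZMod p)) q) := by
  obtain ⟨q, rfl⟩ : ∃ q', q = q' + 1 := ⟨q - 1, by omega⟩
  have h2 : Subsingleton (EtCoh.H S (EtCoh.Ga S) (q + 1)) :=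
    Groth.Agent.H60.GaCech.H_Ga_subsingleton S (q + 1) (by omega)
  have h3 : Subsingleton (EtCoh.H S (EtCoh.Ga S) q) :=
    Groth.Agent.H60.GaCech.H_Ga_subsingleton S q (by omega)
  have h1 : Subsingleton (EtCoh.H S (K p h0) (q + 1)) :=
    H_subsingleton_X₁ (asSeq_shortExact p h0) q h2 h3
  exact Groth.Agent.H60.ClosedPt.H_subsingleton_of_iso (constIsoKernel p h0).symm (q + 1) h1

end Main

end Groth.Agent.H60.ArtinSchreier
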