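import Groth.Agent.H60.AutoAdd

set_option autoImplicit false
open CategoryTheory CategoryTheory.Limits Opposite
universe u

namespace Groth.Agent.H60.AbPull

variable {C D : Type u} [SmallCategory C] [SmallCategory D]
  (J : GrothendieckTopology C) (K : GrothendieckTopology D) (u : D ⥤ C) [u.IsContinuous K J]

/-- underlying sheaf of sets -/
noncomputable abbrev US : Sheaf K AddCommGrpCat.{u} ⥤ Sheaf K (Type u) :=
  sheafCompose K (forget AddCommGrpCat.{u})

/-- pullback on sheaves of sets -/
noncomputable abbrev LS : Sheaf K (Type u) ⥤ Sheaf J (Type u) := u.sheafPullback (Type u) K J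

/-- `A ↦ L_S (U A)` -/
noncomputable abbrev FS : Sheaf K AddCommGrpCat.{u} ⥤ Sheaf J (Type u) := US K ⋙ LS J K u

variable [hu : PreservesFiniteLimits (u.sheafPullback (Type u) K J)]

instance : PreservesFiniteLimits (US K) := by
  have : PreservesLimitsOfSize.{u, u} (US K) := inferInstance
  infer_instance

instance (V : Cᵒᵖ) : PreservesFiniteLimits ((sheafSections J (Type u)).obj V) := by
  have h : PreservesFiniteLimits (sheafToPresheaf J (Type u) ⋙ (evaluation _ _).obj (op V.unop)) :=
    comp_preservesFiniteLimits _ _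
  exact preservesFiniteLimits_of_natIso
    (sheafSectionsNatIsoEvaluation (J := J) (A := Type u) (X := V.unop)).symm

/-- the sections functors, as left exact functors -/
noncomputable def P : Cᵒᵖ ⥤ (Sheaf K AddCommGrpCat.{u} ⥤ₗ Type u) :=
  ObjectProperty.lift _ (sheafSections J (Type u) ⋙ (Functor.whiskeringLeft _ _ _).obj (FS J K u))
    (fun V => by
      show PreservesFiniteLimits (FS J K u ⋙ (sheafSections J (Type u)).obj V)
      infer_instance)


instance : HasFiniteBiproducts (Sheaf K AddCommGrpCat.{u}) :=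
  HasFiniteBiproducts.of_hasFiniteProducts

/-- the lifting equivalence of Mathlib -/
noncomputable abbrev Eq' :
    (Sheaf K AddCommGrpCat.{u} ⥤ₗ AddCommGrpCat.{u}) ≌ (Sheaf K AddCommGrpCat.{u} ⥤ₗ Type u) :=
  AddCommGrpCat.leftExactFunctorForgetEquivalence (Sheaf K AddCommGrpCat.{u})

/-- the sections functors lifted to abelian groups -/
noncomputable def Q : Cᵒᵖ ⥤ (Sheaf K AddCommGrpCat.{u} ⥤ₗ AddCommGrpCat.{u}) :=
  P J K u ⋙ (Eq' K).inverse

/-- the presheaf-valued lift -/
noncomputable def LpPre : Sheaf K AddCommGrpCat.{u} ⥤ (Cᵒᵖ ⥤ AddCommGrpCat.{u}) :=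
  (Q J K u ⋙ LeftExactFunctor.forget _ _).flip

/-- the underlying presheaf of sets of the lift is `L_S (U A)` -/
noncomputable def LpPreForgetIso (A : Sheaf K AddCommGrpCat.{u}) :
    (LpPre J K u).obj A ⋙ forget AddCommGrpCat.{u} ≅ ((FS J K u).obj A).obj :=
  NatIso.ofComponents (fun V =>
    ((LeftExactFunctor.forget _ _).mapIso ((Eq' K).counitIso.app ((P J K u).obj V))).app A) (by
    intro V W f
    have h := (Eq' K).counitIso.hom.naturality ((P J K u).map f)
    have h2 := congrArg (fun t => ((LeftExactFunctor.forget _ _).map t).app A) h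
    exact h2)


lemma isSheaf_LpPre (A : Sheaf K AddCommGrpCat.{u}) :
    Presheaf.IsSheaf J ((LpPre J K u).obj A) := by
  rw [Presheaf.isSheaf_iff_isSheaf_forget J ((LpPre J K u).obj A) (forget AddCommGrpCat.{u}),
    Presheaf.isSheaf_of_iso_iff (LpPreForgetIso J K u A)]
  exact ((FS J K u).obj A).property

/-- the lift of `L_S ∘ U` to abelian sheaves -/
noncomputable def Lp : Sheaf K AddCommGrpCat.{u} ⥤ Sheaf J AddCommGrpCat.{u} where
  obj A := ⟨(LpPre J K u).obj A, isSheaf_LpPre J K u A⟩
  map f := ⟨(LpPre J K u).map f⟩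
  map_id A := by
    apply Sheaf.hom_ext
    exact (LpPre J K u).map_id A
  map_comp f g := by
    apply Sheaf.hom_ext
    exact (LpPre J K u).map_comp f g

/-- `U ∘ L' ≅ L_S ∘ U` -/
noncomputable def LpForgetIso :
    Lp J K u ⋙ sheafCompose J (forget AddCommGrpCat.{u}) ≅ FS J K u :=
  NatIso.ofComponents (fun A => (fullyFaithfulSheafToPresheaf _ _).preimageIso
    (LpPreForgetIso J K u A)) (by
    intro A B f
    apply (fullyFaithfulSheafToPresheaf _ _).map_injective
    rw [Functor.map_comp, Functor.map_comp, Functor.FullyFaithful.preimageIso_hom,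
      Functor.FullyFaithful.preimageIso_hom, Functor.FullyFaithful.map_preimage,
      Functor.FullyFaithful.map_preimage]
    ext V : 2
    exact ((LeftExactFunctor.forget _ _).map
      ((Eq' K).counitIso.hom.app ((P J K u).obj V))).naturality f)


instance preservesFiniteLimits_Lp : PreservesFiniteLimits (Lp J K u) := by
  have h1 : PreservesFiniteLimits (Lp J K u ⋙ sheafCompose J (forget AddCommGrpCat.{u})) :=
    preservesFiniteLimits_of_natIso (LpForgetIso J K u).symm
  constructor
  intro Jsh _ _
  have : ReflectsLimitsOfShape Jsh (sheafCompose J (forget AddCommGrpCat.{u})) :=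
    reflectsLimitsOfShape_of_reflectsIsomorphisms
  exact preservesLimitsOfShape_of_reflects_of_preserves (Lp J K u)
    (sheafCompose J (forget AddCommGrpCat.{u}))

end Groth.Agent.H60.AbPull
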