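import Groth.Agent.H60.AutoAdd

set_option autoImplicit false
set_option linter.unusedSectionVars false
open CategoryTheory CategoryTheory.Limits Opposite
universe u v w

namespace Groth.Agent.H60.AutoAdd

variable {D : Type u} [SmallCategory D] (K : GrothendieckTopology D)

instance additive_sheafSections (W : Dᵒᵖ) :
    ((sheafSections K AddCommGrpCat.{u}).obj W).Additive where
  map_add := rfl

variable {𝒜 : Type w} [Category.{v} 𝒜] [Preadditive 𝒜] [HasBinaryBiproducts 𝒜]
  (G G' : 𝒜 ⥤ Sheaf K AddCommGrpCat.{u}) [G.Additive] [G'.Additive]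
  (τ : G ⋙ sheafCompose K (forget AddCommGrpCat.{u}) ⟶
    G' ⋙ sheafCompose K (forget AddCommGrpCat.{u}))

/-- the sectionwise transformation -/
def sect (W : Dᵒᵖ) :
    (G ⋙ (sheafSections K AddCommGrpCat.{u}).obj W) ⋙ forget AddCommGrpCat.{u} ⟶
      (G' ⋙ (sheafSections K AddCommGrpCat.{u}).obj W) ⋙ forget AddCommGrpCat.{u} where
  app A := (τ.app A).hom.app W
  naturality {A B} f :=
    congrArg (fun t : (G ⋙ sheafCompose K (forget AddCommGrpCat.{u})).obj A ⟶
      (G' ⋙ sheafCompose K (forget AddCommGrpCat.{u})).obj B => t.hom.app W) (τ.naturality f)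

/-- a natural transformation between the underlying sheaves of sets of additive functors to
abelian sheaves lifts to the abelian sheaves -/
def liftSh : G ⟶ G' where
  app A := ⟨{ app := fun W => (lift _ _ (sect K G G' τ W)).app A
              naturality := by
                intro W W' g
                ext x
                exact ConcreteCategory.congr_hom ((τ.app A).hom.naturality g) x }⟩
  naturality {A B} f := by
    apply Sheaf.hom_ext
    ext W x
    exact ConcreteCategory.congr_hom ((lift _ _ (sect K G G' τ W)).naturality f) x

lemma whiskerRight_liftSh :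
    Functor.whiskerRight (liftSh K G G' τ) (sheafCompose K (forget AddCommGrpCat.{u})) = τ := by
  ext A
  rfl

lemma map_liftSh_app (A : 𝒜) :
    (sheafCompose K (forget AddCommGrpCat.{u})).map ((liftSh K G G' τ).app A) = τ.app A :=
  congrArg (fun t => t.app A) (whiskerRight_liftSh K G G' τ)

end Groth.Agent.H60.AutoAdd
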