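import Groth.Agent.H60.AbPull
import Groth.Agent.H60.AutoAddSh

set_option autoImplicit false
open CategoryTheory CategoryTheory.Limits Opposite
universe u

namespace Groth.Agent.H60.AbPull

open Groth.Agent.H60.AutoAdd

variable {C D : Type u} [SmallCategory C] [SmallCategory D]
  (J : GrothendieckTopology C) (K : GrothendieckTopology D) (u : D ⥤ C) [u.IsContinuous K J]

/-- pushforward of abelian sheaves -/
noncomputable abbrev RA : Sheaf J AddCommGrpCat.{u} ⥤ Sheaf K AddCommGrpCat.{u} :=
  u.sheafPushforwardContinuous AddCommGrpCat.{u} K J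

/-- pushforward of sheaves of sets -/
noncomputable abbrev RS : Sheaf J (Type u) ⥤ Sheaf K (Type u) :=
  u.sheafPushforwardContinuous (Type u) K J

/-- the adjunction on sheaves of sets -/
noncomputable abbrev adjS : LS J K u ⊣ RS J K u := u.sheafAdjunctionContinuous (Type u) K J

/-- pushforward commutes with the underlying sheaf of sets -/
noncomputable def pfi : RA J K u ⋙ US K ≅ US J ⋙ RS J K u :=
  NatIso.ofComponents (fun B => Iso.refl _) (by
    intro A B f
    refine (Category.comp_id _).trans (Eq.trans ?_ (Category.id_comp _).symm)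
    rfl)

variable [hu : PreservesFiniteLimits (u.sheafPullback (Type u) K J)]

instance additive_Lp : (Lp J K u).Additive := Functor.additive_of_preserves_binary_products _

instance additive_RA : (RA J K u).Additive where
  map_add := rfl

/-- the unit on underlying sheaves of sets -/
noncomputable def unitS : 𝟭 (Sheaf K AddCommGrpCat.{u}) ⋙ US K ⟶ (Lp J K u ⋙ RA J K u) ⋙ US K where
  app A := (adjS J K u).unit.app ((US K).obj A) ≫ (RS J K u).map ((LpForgetIso J K u).inv.app A) ≫
    (pfi J K u).inv.app ((Lp J K u).obj A)
  naturality {A B} f := by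
    have h1 : (US K).map f ≫ (adjS J K u).unit.app ((US K).obj B) =
        (adjS J K u).unit.app ((US K).obj A) ≫ (RS J K u).map ((FS J K u).map f) :=
      (adjS J K u).unit.naturality ((US K).map f)
    have h3 := (LpForgetIso J K u).inv.naturality f
    have h4 := (pfi J K u).inv.naturality ((Lp J K u).map f)
    calc (US K).map f ≫ (adjS J K u).unit.app ((US K).obj B) ≫
          (RS J K u).map ((LpForgetIso J K u).inv.app B) ≫ (pfi J K u).inv.app ((Lp J K u).obj B)
        = ((US K).map f ≫ (adjS J K u).unit.app ((US K).obj B)) ≫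
          (RS J K u).map ((LpForgetIso J K u).inv.app B) ≫
            (pfi J K u).inv.app ((Lp J K u).obj B) := (Category.assoc _ _ _).symm
      _ = ((adjS J K u).unit.app ((US K).obj A) ≫ (RS J K u).map ((FS J K u).map f)) ≫
          (RS J K u).map ((LpForgetIso J K u).inv.app B) ≫
            (pfi J K u).inv.app ((Lp J K u).obj B) := by rw [h1]
      _ = (adjS J K u).unit.app ((US K).obj A) ≫ ((RS J K u).map ((FS J K u).map f ≫
          (LpForgetIso J K u).inv.app B)) ≫ (pfi J K u).inv.app ((Lp J K u).obj B) := by
        rw [Functor.map_comp]; simp only [Category.assoc]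
      _ = (adjS J K u).unit.app ((US K).obj A) ≫ ((RS J K u).map ((LpForgetIso J K u).inv.app A ≫
          (Lp J K u ⋙ US J).map f)) ≫ (pfi J K u).inv.app ((Lp J K u).obj B) := by rw [h3]
      _ = (adjS J K u).unit.app ((US K).obj A) ≫ (RS J K u).map ((LpForgetIso J K u).inv.app A) ≫
          ((US J ⋙ RS J K u).map ((Lp J K u).map f) ≫
            (pfi J K u).inv.app ((Lp J K u).obj B)) := by
        rw [Functor.map_comp]; simp only [Category.assoc]; rfl
      _ = (adjS J K u).unit.app ((US K).obj A) ≫ (RS J K u).map ((LpForgetIso J K u).inv.app A) ≫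
          ((pfi J K u).inv.app ((Lp J K u).obj A) ≫
            (RA J K u ⋙ US K).map ((Lp J K u).map f)) := by rw [h4]
      _ = _ := by simp only [Category.assoc]; rfl

/-- the counit on underlying sheaves of sets -/
noncomputable def counitS : (RA J K u ⋙ Lp J K u) ⋙ US J ⟶ 𝟭 (Sheaf J AddCommGrpCat.{u}) ⋙ US J where
  app B := (LpForgetIso J K u).hom.app ((RA J K u).obj B) ≫
    (LS J K u).map ((pfi J K u).hom.app B) ≫ (adjS J K u).counit.app ((US J).obj B)
  naturality {A B} f := by
    have h1 : (US J).map ((Lp J K u).map ((RA J K u).map f)) ≫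
        (LpForgetIso J K u).hom.app ((RA J K u).obj B) =
        (LpForgetIso J K u).hom.app ((RA J K u).obj A) ≫ (FS J K u).map ((RA J K u).map f) :=
      (LpForgetIso J K u).hom.naturality ((RA J K u).map f)
    have h2 : (US K).map ((RA J K u).map f) ≫ (pfi J K u).hom.app B =
        (pfi J K u).hom.app A ≫ (RS J K u).map ((US J).map f) :=
      (pfi J K u).hom.naturality f
    have h3 : (LS J K u).map ((RS J K u).map ((US J).map f)) ≫
        (adjS J K u).counit.app ((US J).obj B) =
        (adjS J K u).counit.app ((US J).obj A) ≫ (US J).map f :=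
      (adjS J K u).counit.naturality ((US J).map f)
    calc (US J).map ((Lp J K u).map ((RA J K u).map f)) ≫
          (LpForgetIso J K u).hom.app ((RA J K u).obj B) ≫
          (LS J K u).map ((pfi J K u).hom.app B) ≫ (adjS J K u).counit.app ((US J).obj B)
        = ((US J).map ((Lp J K u).map ((RA J K u).map f)) ≫
          (LpForgetIso J K u).hom.app ((RA J K u).obj B)) ≫
          (LS J K u).map ((pfi J K u).hom.app B) ≫ (adjS J K u).counit.app ((US J).obj B) :=
          (Category.assoc _ _ _).symm
      _ = (LpForgetIso J K u).hom.app ((RA J K u).obj A) ≫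
          ((LS J K u).map ((US K).map ((RA J K u).map f) ≫ (pfi J K u).hom.app B)) ≫
          (adjS J K u).counit.app ((US J).obj B) := by
        rw [h1, Functor.map_comp]; simp only [Category.assoc]; rfl
      _ = (LpForgetIso J K u).hom.app ((RA J K u).obj A) ≫
          (LS J K u).map ((pfi J K u).hom.app A) ≫
          ((LS J K u).map ((RS J K u).map ((US J).map f)) ≫
          (adjS J K u).counit.app ((US J).obj B)) := by
        rw [h2, Functor.map_comp]; simp only [Category.assoc]
      _ = _ := by rw [h3]; simp only [Category.assoc]; rfl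


/-- the unit -/
noncomputable def unitA : 𝟭 (Sheaf K AddCommGrpCat.{u}) ⟶ Lp J K u ⋙ RA J K u :=
  liftSh K _ _ (unitS J K u)

/-- the counit -/
noncomputable def counitA : RA J K u ⋙ Lp J K u ⟶ 𝟭 (Sheaf J AddCommGrpCat.{u}) :=
  liftSh J _ _ (counitS J K u)

lemma US_map_unitA (A : Sheaf K AddCommGrpCat.{u}) :
    (US K).map ((unitA J K u).app A) = (unitS J K u).app A :=
  map_liftSh_app K _ _ (unitS J K u) A

lemma US_map_counitA (B : Sheaf J AddCommGrpCat.{u}) :
    (US J).map ((counitA J K u).app B) = (counitS J K u).app B :=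
  map_liftSh_app J _ _ (counitS J K u) B

instance : (US J).Faithful := by
  constructor
  intro A B f g h
  apply Sheaf.hom_ext
  ext V x
  have := congrArg (fun t : (US J).obj A ⟶ (US J).obj B => (ConcreteCategory.hom (t.hom.app V)) x) h
  exact this

lemma left_triangle (A : Sheaf K AddCommGrpCat.{u}) :
    (Lp J K u).map ((unitA J K u).app A) ≫ (counitA J K u).app ((Lp J K u).obj A) = 𝟙 _ := by
  apply (US J).map_injective
  rw [Functor.map_comp, US_map_counitA, CategoryTheory.Functor.map_id]
  have h1 : (US J).map ((Lp J K u).map ((unitA J K u).app A)) ≫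
      (LpForgetIso J K u).hom.app ((RA J K u).obj ((Lp J K u).obj A)) =
      (LpForgetIso J K u).hom.app A ≫ (LS J K u).map ((US K).map ((unitA J K u).app A)) :=
    (LpForgetIso J K u).hom.naturality ((unitA J K u).app A)
  have h2 : (LS J K u).map ((RS J K u).map ((LpForgetIso J K u).inv.app A)) ≫
      (adjS J K u).counit.app ((US J).obj ((Lp J K u).obj A)) =
      (adjS J K u).counit.app ((FS J K u).obj A) ≫ (LpForgetIso J K u).inv.app A :=
    (adjS J K u).counit.naturality ((LpForgetIso J K u).inv.app A)
  have h3 : (LS J K u).map ((adjS J K u).unit.app ((US K).obj A)) ≫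
      (adjS J K u).counit.app ((FS J K u).obj A) = 𝟙 _ :=
    (adjS J K u).left_triangle_components ((US K).obj A)
  have h4 : (LS J K u).map ((US K).map ((unitA J K u).app A)) ≫
      (LS J K u).map ((pfi J K u).hom.app ((Lp J K u).obj A)) =
      (LS J K u).map ((adjS J K u).unit.app ((US K).obj A)) ≫
        (LS J K u).map ((RS J K u).map ((LpForgetIso J K u).inv.app A)) := by
    rw [US_map_unitA, ← Functor.map_comp, ← Functor.map_comp]
    congr 1
  calc (US J).map ((Lp J K u).map ((unitA J K u).app A)) ≫
        (counitS J K u).app ((Lp J K u).obj A)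
      = ((US J).map ((Lp J K u).map ((unitA J K u).app A)) ≫
        (LpForgetIso J K u).hom.app ((RA J K u).obj ((Lp J K u).obj A))) ≫
        (LS J K u).map ((pfi J K u).hom.app ((Lp J K u).obj A)) ≫
        (adjS J K u).counit.app ((US J).obj ((Lp J K u).obj A)) := (Category.assoc _ _ _).symm
    _ = (LpForgetIso J K u).hom.app A ≫ ((LS J K u).map ((US K).map ((unitA J K u).app A)) ≫
        (LS J K u).map ((pfi J K u).hom.app ((Lp J K u).obj A))) ≫
        (adjS J K u).counit.app ((US J).obj ((Lp J K u).obj A)) := by
      rw [h1]; simp only [Category.assoc]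
    _ = (LpForgetIso J K u).hom.app A ≫ (LS J K u).map ((adjS J K u).unit.app ((US K).obj A)) ≫
        ((LS J K u).map ((RS J K u).map ((LpForgetIso J K u).inv.app A)) ≫
        (adjS J K u).counit.app ((US J).obj ((Lp J K u).obj A))) := by
      rw [h4]; simp only [Category.assoc]
    _ = (LpForgetIso J K u).hom.app A ≫ ((LS J K u).map ((adjS J K u).unit.app ((US K).obj A)) ≫
        (adjS J K u).counit.app ((FS J K u).obj A)) ≫ (LpForgetIso J K u).inv.app A := by
      rw [h2]; simp only [Category.assoc]
    _ = 𝟙 _ := by
      rw [h3]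
      refine (congrArg (fun t => (LpForgetIso J K u).hom.app A ≫ t) (Category.id_comp _)).trans ?_
      exact Iso.hom_inv_id_app (LpForgetIso J K u) A

lemma right_triangle (B : Sheaf J AddCommGrpCat.{u}) :
    (unitA J K u).app ((RA J K u).obj B) ≫ (RA J K u).map ((counitA J K u).app B) = 𝟙 _ := by
  apply (US K).map_injective
  rw [Functor.map_comp, US_map_unitA, CategoryTheory.Functor.map_id]
  have h1 : (pfi J K u).inv.app ((Lp J K u).obj ((RA J K u).obj B)) ≫
      (US K).map ((RA J K u).map ((counitA J K u).app B)) =
      (RS J K u).map ((US J).map ((counitA J K u).app B)) ≫ (pfi J K u).inv.app B :=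
    ((pfi J K u).inv.naturality ((counitA J K u).app B)).symm
  have h3 : (adjS J K u).unit.app ((RS J K u).obj ((US J).obj B)) ≫
      (RS J K u).map ((adjS J K u).counit.app ((US J).obj B)) = 𝟙 _ :=
    (adjS J K u).right_triangle_components ((US J).obj B)
  have h2 : (adjS J K u).unit.app ((US K).obj ((RA J K u).obj B)) ≫
      (RS J K u).map ((LS J K u).map ((pfi J K u).hom.app B)) =
      (pfi J K u).hom.app B ≫ (adjS J K u).unit.app ((RS J K u).obj ((US J).obj B)) :=
    ((adjS J K u).unit.naturality ((pfi J K u).hom.app B)).symm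
  calc (unitS J K u).app ((RA J K u).obj B) ≫ (US K).map ((RA J K u).map ((counitA J K u).app B))
      = (adjS J K u).unit.app ((US K).obj ((RA J K u).obj B)) ≫
        (RS J K u).map ((LpForgetIso J K u).inv.app ((RA J K u).obj B)) ≫
        ((pfi J K u).inv.app ((Lp J K u).obj ((RA J K u).obj B)) ≫
        (US K).map ((RA J K u).map ((counitA J K u).app B))) := by
        show ((adjS J K u).unit.app ((US K).obj ((RA J K u).obj B)) ≫
          (RS J K u).map ((LpForgetIso J K u).inv.app ((RA J K u).obj B)) ≫
          (pfi J K u).inv.app ((Lp J K u).obj ((RA J K u).obj B))) ≫ _ = _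
        simp only [Category.assoc]
    _ = (adjS J K u).unit.app ((US K).obj ((RA J K u).obj B)) ≫
        (RS J K u).map ((LpForgetIso J K u).inv.app ((RA J K u).obj B) ≫
          (counitS J K u).app B) ≫ (pfi J K u).inv.app B := by
        rw [h1, US_map_counitA, Functor.map_comp]; simp only [Category.assoc]
    _ = (adjS J K u).unit.app ((US K).obj ((RA J K u).obj B)) ≫
        (RS J K u).map ((LS J K u).map ((pfi J K u).hom.app B) ≫
          (adjS J K u).counit.app ((US J).obj B)) ≫ (pfi J K u).inv.app B := by
        have h5 : (LpForgetIso J K u).inv.app ((RA J K u).obj B) ≫ (counitS J K u).app B =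
            (LS J K u).map ((pfi J K u).hom.app B) ≫ (adjS J K u).counit.app ((US J).obj B) :=
          Iso.inv_hom_id_app_assoc (LpForgetIso J K u) ((RA J K u).obj B) _
        rw [h5]
    _ = ((adjS J K u).unit.app ((US K).obj ((RA J K u).obj B)) ≫
        (RS J K u).map ((LS J K u).map ((pfi J K u).hom.app B))) ≫
        (RS J K u).map ((adjS J K u).counit.app ((US J).obj B)) ≫ (pfi J K u).inv.app B := by
        rw [Functor.map_comp]; simp only [Category.assoc]
    _ = (pfi J K u).hom.app B ≫ ((adjS J K u).unit.app ((RS J K u).obj ((US J).obj B)) ≫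
        (RS J K u).map ((adjS J K u).counit.app ((US J).obj B))) ≫ (pfi J K u).inv.app B := by
        rw [h2]; simp only [Category.assoc]
    _ = 𝟙 _ := by
        rw [h3]
        refine (congrArg (fun t => (pfi J K u).hom.app B ≫ t) (Category.id_comp _)).trans ?_
        exact Iso.hom_inv_id_app (pfi J K u) B


/-- the lift is left adjoint to the pushforward of abelian sheaves -/
noncomputable def adjA : Lp J K u ⊣ RA J K u :=
  Adjunction.mkOfUnitCounit
    { unit := unitA J K u
      counit := counitA J K u
      left_triangle := by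
        refine NatTrans.ext (funext fun A => ?_)
        show (Lp J K u).map ((unitA J K u).app A) ≫ 𝟙 _ ≫ (counitA J K u).app ((Lp J K u).obj A) = 𝟙 _
        rw [Category.id_comp]
        exact left_triangle J K u A
      right_triangle := by
        refine NatTrans.ext (funext fun B => ?_)
        show (unitA J K u).app ((RA J K u).obj B) ≫ 𝟙 _ ≫ (RA J K u).map ((counitA J K u).app B) = 𝟙 _
        rw [Category.id_comp]
        exact right_triangle J K u B }

/-- the pullback of abelian sheaves is the lift of the pullback of sheaves of sets -/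
noncomputable def sheafPullbackIso : u.sheafPullback AddCommGrpCat.{u} K J ≅ Lp J K u :=
  Adjunction.leftAdjointUniq (u.sheafAdjunctionContinuous AddCommGrpCat.{u} K J) (adjA J K u)

omit hu in
theorem preservesFiniteLimits_sheafPullback
    (hu : PreservesFiniteLimits (u.sheafPullback (Type u) K J)) :
    PreservesFiniteLimits (u.sheafPullback AddCommGrpCat.{u} K J) :=
  preservesFiniteLimits_of_natIso (sheafPullbackIso J K u).symm

/-- the underlying sheaf of sets of the pullback of an abelian sheaf -/
noncomputable def sheafPullbackForgetIso :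
    u.sheafPullback AddCommGrpCat.{u} K J ⋙ US J ≅ US K ⋙ LS J K u :=
  Functor.isoWhiskerRight (sheafPullbackIso J K u) (US J) ≪≫ LpForgetIso J K u

end Groth.Agent.H60.AbPull
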