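import Groth.Agent.H69.EtCartan

/-!
# A Cartan criterion on the small étale site for affine objects (helper60)

`AcAff F`: the Čech complexes of the abelian étale sheaf `F` are exact in positive degrees for every
surjective (étale) morphism `V ⟶ U` of affine objects of the small étale site.  This class contains
the injective sheaves, is stable under the cokernel of a monomorphism between members, and sections
over affine objects are exact on short exact sequences whose kernel is in the class.  Consequently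
`H^{n+1}(X, F) = 0` for `F` in the class when `X` is affine.  (Adapted from helper69's `EtCartan`,
which treats qcqs objects and arbitrary finite families.)
-/

set_option autoImplicit false
set_option backward.isDefEq.respectTransparency.types false
universe u
open CategoryTheory CategoryTheory.Limits AlgebraicGeometry Opposite

namespace Groth.Agent.H60.AffCartan

open Groth.Agent.H43.CechPts Groth.Agent.H60.CechFree Groth.Agent.H60.CechDeltaF
  Groth.Agent.H60.QCEtale Groth.Agent.H69.CechZero Groth.Agent.H69.EtSecExact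
  Groth.Agent.H69.EtCartan

variable {X : Scheme.{u}}

/-- a covering sieve of an affine object contains a finite jointly surjective family of affines -/
lemma exists_finite_affine (U : X.Etale) (hU : IsAffine U.left) (R : Sieve U)
    (hR : R ∈ X.smallEtaleTopology U) :
    ∃ (n : ℕ) (V : Fin n → X.Etale) (f : ∀ k, V k ⟶ U), (∀ k, IsAffine (V k).left) ∧
      (∀ k, R (f k)) ∧ ⋃ k, Set.range (f k).left = Set.univ := by
  classical
  choose W g hW hg hx using exists_affine_arrow U R hR
  have hopen : ∀ x, IsOpen (Set.range (g x).left) := fun x => (g x).left.isOpenMap.isOpen_range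
  obtain ⟨t, ht⟩ := CompactSpace.elim_nhds_subcover (fun x => Set.range (g x).left)
    (fun x => (hopen x).mem_nhds (hx x))
  let e := t.equivFin
  refine ⟨t.card, fun k => W (e.symm k).1, fun k => g (e.symm k).1, fun k => hW _, fun k => hg _, ?_⟩
  rw [Set.eq_univ_iff_forall]
  intro x
  have hx' : x ∈ ⋃ x0 ∈ t, Set.range (g x0).left := by rw [ht]; trivial
  simp only [Set.mem_iUnion] at hx'
  obtain ⟨x0, hx0, w, hw⟩ := hx'
  simp only [Set.mem_iUnion]
  have key : ∀ (k : Fin t.card) (y : t), e.symm k = y → x ∈ Set.range (g y.1).left →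
      x ∈ Set.range (g (e.symm k).1).left := by
    intro k y hk hy
    rw [hk]; exact hy
  exact ⟨e ⟨x0, hx0⟩, key _ ⟨x0, hx0⟩ (Equiv.symm_apply_apply _ _) ⟨w, hw⟩⟩

section Sig

variable {n : ℕ} (V : Fin n → X.Etale)

instance etale_sigmaDesc : Etale (Sigma.desc fun k => (V k).hom) :=
  IsZariskiLocalAtSource.sigmaDesc (fun k => (V k).prop)

/-- the coproduct of a finite family of objects of the small étale site -/
noncomputable def sig : X.Etale := Scheme.Etale.mk (Sigma.desc fun k => (V k).hom)

/-- the inclusions -/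
noncomputable def sigι (k : Fin n) : V k ⟶ sig V :=
  MorphismProperty.Over.homMk (Sigma.ι (fun k => (V k).left) k) (Sigma.ι_desc _ _) trivial

lemma sigι_left (k : Fin n) : (sigι V k).left = Sigma.ι (fun k => (V k).left) k := rfl

variable {V} in
/-- the induced map -/
noncomputable def sigDesc {U : X.Etale} (f : ∀ k, V k ⟶ U) : sig V ⟶ U :=
  MorphismProperty.Over.homMk (Sigma.desc fun k => (f k).left) (by
    apply Sigma.hom_ext
    intro k
    refine (Sigma.ι_desc_assoc _ _ _).trans ?_
    exact (Over.w (f k).hom).trans (Sigma.ι_desc (fun k => (V k).hom) k).symm) trivial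

lemma sigι_desc {U : X.Etale} (f : ∀ k, V k ⟶ U) (k : Fin n) : sigι V k ≫ sigDesc f = f k := by
  apply MorphismProperty.Over.Hom.ext
  exact Sigma.ι_desc _ _

lemma isAffine_sig (hV : ∀ k, IsAffine (V k).left) : IsAffine (sig V).left := by
  show IsAffine (∐ fun k => (V k).left)
  infer_instance

lemma sig_cover : Sieve.ofArrows V (sigι V) ∈ X.smallEtaleTopology (sig V) := by
  rw [Scheme.ofArrows_mem_smallEtaleTopology_iff]
  exact (sigmaOpenCover fun k => (V k).left).iUnion_range

lemma surjective_sigDesc {U : X.Etale} (f : ∀ k, V k ⟶ U)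
    (hf : ⋃ k, Set.range (f k).left = Set.univ) : Surjective (sigDesc f).left :=
  Surjective.sigmaDesc_of_union_range_eq_univ hf

lemma isEmpty_of_ne {k l : Fin n} (hkl : k ≠ l) {T : X.Etale} (a : T ⟶ V k) (b : T ⟶ V l)
    (h : a ≫ sigι V k = b ≫ sigι V l) : IsEmpty T.left :=
  isEmpty_of_commSq_sigmaι_of_ne (g := fun k => (V k).left) (a := a.left) (b := b.left)
    ⟨congrArg (fun m => m.left) h⟩ hkl

instance mono_sigι (k : Fin n) : Mono (sigι V k) := by
  have : Mono ((Scheme.Etale.forget X ⋙ Over.forget X).map (sigι V k)) := by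
    show Mono (Sigma.ι (fun k => (V k).left) k)
    infer_instance
  exact Functor.mono_of_mono_map (Scheme.Etale.forget X ⋙ Over.forget X) this

end Sig
/-- objects of the small étale site with affine total space -/
def Aff (V : X.Etale) : Prop := IsAffine V.left

lemma aff_of_iso {A B : X.Etale} (e : A ≅ B) (hA : Aff A) : Aff B := by
  let e' : A.left ≅ B.left := (Scheme.Etale.forget X ⋙ Over.forget X).mapIso e
  have : IsAffine A.left := hA
  exact IsAffine.of_isIso e'.inv

lemma aff_pullback {A B U : X.Etale} (f : A ⟶ U) (g : B ⟶ U) (hA : Aff A) (hB : Aff B)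
    (hU : Aff U) : Aff (pullback f g) := by
  have : IsAffine A.left := hA
  have : IsAffine B.left := hB
  have : IsAffine U.left := hU
  have : IsAffine (pullback f.left g.left) := inferInstance
  exact IsAffine.of_isIso (pullbackLeftIso f g).hom

/-- objects over `U` whose total space is affine -/
def Affo (U : X.Etale) : ObjectProperty (Over U) := fun Y => Aff Y.left

instance (U : X.Etale) : (Affo U).IsClosedUnderIsomorphisms where
  of_iso e h := aff_of_iso ((Over.forget U).mapIso e) h

lemma affo_terminal (U : X.Etale) (hU : Aff U) :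
    (Affo U).IsClosedUnderLimitsOfShape (Discrete.{0} PEmpty) := by
  apply ObjectProperty.IsClosedUnderLimitsOfShape.mk'
  rintro _ ⟨F, hF⟩
  have hX : IsTerminal (limit F) :=
    (IsLimit.equivOfNatIsoOfIso F.uniqueFromEmpty _ _
      (by exact Cone.ext (Iso.refl _) (by rintro ⟨⟨⟩⟩))).1 (limit.isLimit F)
  let e : limit F ≅ Over.mk (𝟙 U) := IsLimit.conePointUniqueUpToIso hX Over.mkIdTerminal
  exact aff_of_iso ((Over.forget U).mapIso e.symm) hU

lemma affo_binary (U : X.Etale) (hU : Aff U) : (Affo U).IsClosedUnderBinaryProducts := by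
  apply ObjectProperty.IsClosedUnderLimitsOfShape.mk'
  rintro _ ⟨F, hF⟩
  let Y := F.obj ⟨WalkingPair.left⟩
  let Z := F.obj ⟨WalkingPair.right⟩
  let e1 : limit F ≅ Y ⨯ Z := HasLimit.isoOfNatIso (diagramIsoPair F)
  let e2 : (Y ⨯ Z).left ≅ pullback Y.hom Z.hom := Over.prodLeftIsoPullback Y Z
  have h : Aff (pullback Y.hom Z.hom) := aff_pullback _ _ (hF _) (hF _) hU
  exact aff_of_iso ((Over.forget U).mapIso e1.symm) (aff_of_iso e2.symm h)

lemma affo_finiteProducts (U : X.Etale) (hU : Aff U) : (Affo U).IsClosedUnderFiniteProducts := by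
  haveI := affo_terminal U hU
  haveI := affo_binary U hU
  exact ObjectProperty.IsClosedUnderFiniteProducts.mk'

lemma aff_product (U : X.Etale) (hU : Aff U) {T : Type*} [Finite T] (f : T → Over U)
    [HasProduct f] (hf : ∀ a, Aff (f a).left) : Aff (∏ᶜ f).left := by
  haveI := affo_finiteProducts U hU
  exact (Affo U).prop_product hf


/-! ### the class -/

/-- the one-element family attached to an object over `U` -/
abbrev one {U : X.Etale} (V : Over U) : PUnit.{u + 2} → Over U := fun _ => V

/-- Čech-acyclicity for surjective morphisms of affine objects -/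
def AcAff (F : EtCoh.Ab X) : Prop :=
  ∀ (U : X.Etale), Aff U → ∀ (V : Over U), Aff V.left → Surjective V.hom.left →
    ∀ p : ℕ, IsZero (((CC (one V)).obj F.obj).homology (p + 1))

theorem acAff_of_injective (I : EtCoh.Ab X) [Injective I] : AcAff I := by
  intro U _ V _ _ p
  have h4 : (presheafToSheaf X.smallEtaleTopology AddCommGrpCat.{u + 1}).PreservesMonomorphisms :=
    inferInstance
  have h5 : Injective ((sheafToPresheaf X.smallEtaleTopology AddCommGrpCat.{u + 1}).obj I) :=
    Injective.injective_of_adjoint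
      (sheafificationAdjunction X.smallEtaleTopology AddCommGrpCat.{u + 1}) _
  have h6 : LocallySmall.{u + 1} X.Etale := inferInstance
  exact Groth.Agent.H60.CechFree.isZero_homology_of_injective (one V)
    ((sheafToPresheaf X.smallEtaleTopology AddCommGrpCat.{u + 1}).obj I) p

section Lemma1

variable (S : ShortComplex (EtCoh.Ab X)) (hS : S.ShortExact)

lemma map_map_apply (F : EtCoh.Ab X) {A B C : X.Etale} (a : A ⟶ B) (b : B ⟶ C)
    (s : F.obj.obj (op C)) :
    (F.obj.map a.op).hom ((F.obj.map b.op).hom s) = (F.obj.map (a ≫ b).op).hom s := by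
  rw [op_comp, F.obj.map_comp]
  rfl

lemma nat_apply {F G : EtCoh.Ab X} (φ : F ⟶ G) {A B : X.Etale} (a : A ⟶ B)
    (s : F.obj.obj (op B)) :
    (φ.hom.app (op A)).hom ((F.obj.map a.op).hom s) =
      (G.obj.map a.op).hom ((φ.hom.app (op B)).hom s) :=
  ConcreteCategory.congr_hom (φ.hom.naturality a.op) s

include hS in
theorem sections_surjective (hF : AcAff S.X₁) (U : X.Etale) (hU : Aff U) :
    Function.Surjective (S.g.hom.app (op U)).hom := by
  intro s
  have := hS.epi_g
  obtain ⟨R, hR, hloc⟩ := locally_surjective_of_epi S.g U s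
  obtain ⟨n, V, f, hV, hf, hcov⟩ := exists_finite_affine U hU R hR
  choose t ht using fun k => hloc (f k) (hf k)
  -- glue the local lifts on the coproduct
  let W : X.Etale := sig V
  let g : W ⟶ U := sigDesc f
  have hW : Aff W := isAffine_sig V hV
  have hg : Surjective g.left := surjective_sigDesc V f hcov
  obtain ⟨tW, htW⟩ := sec_glue_arrows S.X₂ (sigι V) (sig_cover V) t (by
    intro i j T gi gj hij
    by_cases hne : i = j
    · subst hne
      rw [(cancel_mono (sigι V i)).1 hij]
    · have := isEmpty_of_ne V hne gi gj hij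
      exact sec_subsingleton_of_isEmpty S.X₂ T _ _)
  have htW' : (S.g.hom.app (op W)).hom tW = (S.X₃.obj.map g.op).hom s := by
    refine sec_ext_arrows S.X₃ (sigι V) (sig_cover V) _ _ (fun k => ?_)
    rw [← nat_apply, htW k, ht k, map_map_apply, sigι_desc]
  let Y : PUnit.{u + 2} → Over U := one (Over.mk g)
  have hSp := spre_shortExact S hS
  -- the cochain of local lifts
  let b : Co Y S.X₂.obj 0 := cochain0 Y S.X₂.obj (fun _ => tW)
  have hb : mp Y S.g.hom 0 b = aug Y S.X₃.obj 0 s := by
    apply co_ext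
    intro W' p
    rw [ee_mp, ee_aug, ee_cochain0, str_eq_comp]
    have h1 := ConcreteCategory.congr_hom
      (S.g.hom.naturality (p.2 ≫ (Pi.π (Y ∘ p.1) 0).left).op) tW
    refine h1.trans ?_
    change (S.X₃.obj.map (p.2 ≫ (Pi.π (Y ∘ p.1) 0).left).op).hom
      ((S.g.hom.app (op W)).hom tW) = _
    rw [htW', op_comp (f := p.2 ≫ (Pi.π (Y ∘ p.1) 0).left), S.X₃.obj.map_comp]
    rfl
  let c₃ : Co Y (Spre S).X₃ 0 := mp Y (Spre S).g 0 b
  have hc₃ : dd Y (Spre S).X₃ 0 c₃ = 0 := by
    have hinj : Function.Injective (mp Y (kap S) 1) := by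
      intro c c' hcc
      apply co_ext
      intro W' p
      apply kap_injective S hS W'
      rw [← ee_mp, ← ee_mp, hcc]
    apply hinj
    rw [map_zero, mp_dd, ← mp_comp, g_kap, hb, dd_aug]
  obtain ⟨c₂, hc₂, hc₂₃⟩ := exists_cocycle_lift Y hSp
    (hF U hU (Over.mk g) hW hg 0) c₃ hc₃
  -- glue
  let x : S.X₂.obj.obj (op W) := ee Y S.X₂.obj (pt0 Y ⟨⟩ (𝟙 W)) c₂
  have hx : ∀ (W' : X.Etale) (g' : W' ⟶ W),
      (S.X₂.obj.map g'.op).hom x = ee Y S.X₂.obj (pt0 Y ⟨⟩ g') c₂ := by
    intro W' g'
    have h1 := E_precomp Y S.X₂.obj g' (pt0 Y ⟨⟩ (𝟙 W))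
    rw [pt0_precomp, Category.comp_id] at h1
    exact (ConcreteCategory.congr_hom h1 c₂).symm
  have hcov' : Sieve.ofArrows (fun _ : PUnit.{u + 2} => W) (fun _ => g) ∈
      X.smallEtaleTopology U := by
    rw [Scheme.ofArrows_mem_smallEtaleTopology_iff]
    rw [Set.eq_univ_iff_forall]
    intro y
    obtain ⟨w, hw⟩ := hg.surj y
    exact Set.mem_iUnion.2 ⟨⟨⟩, w, hw⟩
  obtain ⟨tt, htt⟩ := sec_glue_arrows S.X₂ (fun _ : PUnit.{u + 2} => g) hcov' (fun _ => x) (by
    intro i j W' gi gj hij
    rw [hx, hx]
    exact ee_eq_of_cocycle Y S.X₂.obj c₂ hc₂ ⟨⟩ ⟨⟩ gi gj hij)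
  refine ⟨tt, ?_⟩
  refine sec_ext_arrows S.X₃ (fun _ : PUnit.{u + 2} => g) hcov' _ _ (fun k => ?_)
  have h1 := ConcreteCategory.congr_hom (S.g.hom.naturality g.op) tt
  refine h1.symm.trans ?_
  change (S.g.hom.app (op W)).hom ((S.X₂.obj.map g.op).hom tt) = _
  rw [htt k]
  have h2 : (S.g.hom.app (op W)).hom x =
      ee Y S.X₃.obj (pt0 Y ⟨⟩ (𝟙 W)) (mp Y S.g.hom 0 c₂) := (ee_mp Y S.g.hom _ c₂).symm
  rw [h2, ← g_kap S, mp_comp, hc₂₃, ← mp_comp, g_kap, hb, ee_aug, str_pt0, Category.id_comp]
  rfl

include hS in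
/-- the presheaf cokernel agrees with the sheaf cokernel on affine objects -/
lemma isIso_kap_app (hF : AcAff S.X₁) (V : X.Etale) (hV : Aff V) : IsIso ((kap S).app (op V)) := by
  have h1 : Function.Bijective ((kap S).app (op V)).hom := by
    refine ⟨kap_injective S hS V, ?_⟩
    intro y
    obtain ⟨b, hb⟩ := sections_surjective S hS hF V hV y
    refine ⟨((Spre S).g.app (op V)).hom b, ?_⟩
    have h2 := ConcreteCategory.congr_hom (congrArg (fun m => m.app (op V)) (g_kap S)) b
    exact h2.trans hb
  exact (ConcreteCategory.isIso_iff_bijective _).2 h1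

include hS in
/-- the class is stable under cokernels of monomorphisms between members -/
theorem acAff_X₃ (h₁ : AcAff S.X₁) (h₂ : AcAff S.X₂) : AcAff S.X₃ := by
  intro U hU V hV hsurj p
  have hSp := spre_shortExact S hS
  have hz : IsZero (((CC (one V)).obj (Spre S).X₃).homology (p + 1)) :=
    isZero_homology_X₃ (one V) hSp p (h₂ U hU V hV hsurj p) (h₁ U hU V hV hsurj (p + 1))
  refine (isZero_homology_iff_of_isIso (one V) (kap S) (fun n x => ?_) (p + 1)).1 hz
  exact isIso_kap_app S hS h₁ _ (aff_product U hU (one V ∘ x) (fun a => hV))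

end Lemma1

open Groth.Agent.H60.ExtColim in
/-- `H^{n+1}(X, F) = 0` for `F` in the class, when `X` is affine -/
theorem ext_eq_zero (hX : IsAffine X) : ∀ (n : ℕ) (F : EtCoh.Ab X), AcAff F →
    ∀ x : Abelian.Ext ((constantSheaf X.smallEtaleTopology AddCommGrpCat.{u + 1}).obj
      (AddCommGrpCat.of (ULift.{u + 1} ℤ))) F (n + 1), x = 0 := by
  have hX' : Aff (EtCoh.top X) := hX
  intro n
  induction n with
  | zero =>
    intro F hF x
    let S : ShortComplex (EtCoh.Ab X) :=
      ShortComplex.mk (Injective.ι F) (cokernel.π (Injective.ι F)) (cokernel.condition _)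
    have hS : S.ShortExact :=
      ShortComplex.ShortExact.mk' (ShortComplex.exact_cokernel (Injective.ι F))
        (inferInstanceAs (Mono (Injective.ι F))) (inferInstanceAs (Epi (cokernel.π (Injective.ι F))))
    have hI : Injective S.X₂ := inferInstanceAs (Injective (Injective.under F))
    obtain ⟨y, hy⟩ := exists_del _ hS 0 x (Abelian.Ext.eq_zero_of_injective _)
    obtain ⟨φ, rfl⟩ := (Abelian.Ext.mk₀_bijective _ _).surjective y
    obtain ⟨tt, htt⟩ := sections_surjective S hS hF (EtCoh.top X) hX' (homEquivGsec X S.X₃ φ)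
    have h1 : (homEquivGsec X S.X₂).symm tt ≫ S.g = φ :=
      (homEquivGsec X S.X₃).injective (by rw [homEquivGsec_comp, AddEquiv.apply_symm_apply, htt])
    rw [← hy, ← h1, ← Abelian.Ext.mk₀_comp_mk₀]
    exact del_push_g _ hS 0 _
  | succ n ih =>
    intro F hF x
    let S : ShortComplex (EtCoh.Ab X) :=
      ShortComplex.mk (Injective.ι F) (cokernel.π (Injective.ι F)) (cokernel.condition _)
    have hS : S.ShortExact :=
      ShortComplex.ShortExact.mk' (ShortComplex.exact_cokernel (Injective.ι F))
        (inferInstanceAs (Mono (Injective.ι F))) (inferInstanceAs (Epi (cokernel.π (Injective.ι F))))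
    have hI : Injective S.X₂ := inferInstanceAs (Injective (Injective.under F))
    obtain ⟨y, hy⟩ := exists_del _ hS (n + 1) x (Abelian.Ext.eq_zero_of_injective _)
    have hQ : AcAff S.X₃ := acAff_X₃ S hS hF (acAff_of_injective S.X₂)
    rw [← hy, ih S.X₃ hQ y, map_zero]

/-- `H^p(X_et, F) = 0` for `p ≥ 1`, `X` affine, `F` Čech-acyclic on affines. -/
theorem H_subsingleton [IsAffine X] (F : EtCoh.Ab X) (hF : AcAff F) (p : ℕ) (hp : 1 ≤ p) :
    Subsingleton (EtCoh.H X F p) := by
  obtain ⟨p, rfl⟩ : ∃ p', p = p' + 1 := ⟨p - 1, by omega⟩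
  exact subsingleton_of_forall_eq 0 fun x => ext_eq_zero inferInstance p F hF x

end Groth.Agent.H60.AffCartan
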