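import Mathlib

set_option autoImplicit false
set_option linter.unusedSectionVars false
open CategoryTheory CategoryTheory.Limits Opposite
universe u v w

namespace Groth.Agent.H60.AutoAdd

variable {𝒜 : Type w} [Category.{v} 𝒜] [Preadditive 𝒜] [HasBinaryBiproducts 𝒜]
  (G G' : 𝒜 ⥤ AddCommGrpCat.{u}) [G.Additive] [G'.Additive]
  (τ : G ⋙ forget AddCommGrpCat.{u} ⟶ G' ⋙ forget AddCommGrpCat.{u})

/-- the underlying function of a component -/
def fn (A : 𝒜) : G.obj A → G'.obj A := fun x => ConcreteCategory.hom (τ.app A) x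

lemma fn_naturality {A B : 𝒜} (f : A ⟶ B) (x : G.obj A) :
    fn G G' τ B (G.map f x) = G'.map f (fn G G' τ A x) := by
  have := ConcreteCategory.congr_hom (τ.naturality f) x
  exact this

lemma map_inl_add_inr (H : 𝒜 ⥤ AddCommGrpCat.{u}) [H.Additive] (A : 𝒜) (w : H.obj (A ⊞ A)) :
    w = H.map biprod.inl (H.map biprod.fst w) + H.map biprod.inr (H.map biprod.snd w) := by
  have h : (𝟙 (A ⊞ A) : A ⊞ A ⟶ A ⊞ A) = biprod.fst ≫ biprod.inl + biprod.snd ≫ biprod.inr :=
    biprod.total.symm
  have h2 := congrArg (fun f => (H.map f) w) h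
  simp only [H.map_id, H.map_add, H.map_comp] at h2
  exact h2

lemma fn_add (A : 𝒜) (x y : G.obj A) :
    fn G G' τ A (x + y) = fn G G' τ A x + fn G G' τ A y := by
  let σ : A ⊞ A ⟶ A := biprod.desc (𝟙 A) (𝟙 A)
  let z : G.obj (A ⊞ A) := G.map biprod.inl x + G.map biprod.inr y
  have hz : G.map σ z = x + y := by
    show G.map σ (G.map biprod.inl x + G.map biprod.inr y) = x + y
    rw [map_add, ← ConcreteCategory.comp_apply, ← ConcreteCategory.comp_apply, ← G.map_comp,
      ← G.map_comp, biprod.inl_desc, biprod.inr_desc, G.map_id]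
    rfl
  have h1 : G.map biprod.fst z = x := by
    show G.map biprod.fst (G.map biprod.inl x + G.map biprod.inr y) = x
    rw [map_add, ← ConcreteCategory.comp_apply, ← ConcreteCategory.comp_apply, ← G.map_comp,
      ← G.map_comp, biprod.inl_fst, biprod.inr_fst, G.map_id, G.map_zero]
    exact add_zero x
  have h2 : G.map biprod.snd z = y := by
    show G.map biprod.snd (G.map biprod.inl x + G.map biprod.inr y) = y
    rw [map_add, ← ConcreteCategory.comp_apply, ← ConcreteCategory.comp_apply, ← G.map_comp,
      ← G.map_comp, biprod.inl_snd, biprod.inr_snd, G.map_id, G.map_zero]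
    exact zero_add y
  have hw := map_inl_add_inr G' A (fn G G' τ (A ⊞ A) z)
  have e1 : G'.map biprod.fst (fn G G' τ (A ⊞ A) z) = fn G G' τ A x := by
    rw [← fn_naturality G G' τ biprod.fst z, h1]
  have e2 : G'.map biprod.snd (fn G G' τ (A ⊞ A) z) = fn G G' τ A y := by
    rw [← fn_naturality G G' τ biprod.snd z, h2]
  rw [e1, e2] at hw
  rw [← hz, fn_naturality G G' τ σ z, hw, map_add, ← ConcreteCategory.comp_apply,
    ← ConcreteCategory.comp_apply, ← G'.map_comp, ← G'.map_comp, biprod.inl_desc, biprod.inr_desc,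
    G'.map_id]
  rfl

/-- a natural transformation between the underlying set-valued functors of additive functors
to abelian groups is automatically additive -/
def lift : G ⟶ G' where
  app A := AddCommGrpCat.ofHom (AddMonoidHom.mk' (fn G G' τ A) (fn_add G G' τ A))
  naturality {A B} f := by
    ext x
    exact fn_naturality G G' τ f x

lemma lift_app_apply (A : 𝒜) (x : G.obj A) :
    (lift G G' τ).app A x = ConcreteCategory.hom (τ.app A) x := rfl

lemma whiskerRight_lift : Functor.whiskerRight (lift G G' τ) (forget AddCommGrpCat.{u}) = τ := by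
  ext A x
  rfl

end Groth.Agent.H60.AutoAdd
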