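import Mathlib
import Groth.Prelude.Def_SGA4a

set_option autoImplicit false
open CategoryTheory CategoryTheory.Limits Opposite
universe u

namespace Groth.Agent.H60.ER

variable {C : Type u} [SmallCategory C] (J : GrothendieckTopology C)

/-- sections over `W` as morphisms out of the sheafified representable -/
noncomputable def secEquiv (W : Cᵒᵖ) (X : Sheaf J (Type u)) :
    ((presheafToSheaf J (Type u)).obj (yoneda.obj W.unop) ⟶ X) ≃ X.obj.obj W :=
  ((sheafificationAdjunction J (Type u)).homEquiv (yoneda.obj W.unop) X).trans yonedaEquiv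

lemma secEquiv_comp (W : Cᵒᵖ) {X Y : Sheaf J (Type u)}
    (f : (presheafToSheaf J (Type u)).obj (yoneda.obj W.unop) ⟶ X) (p : X ⟶ Y) :
    secEquiv J W Y (f ≫ p) = p.hom.app W (secEquiv J W X f) := by
  unfold secEquiv
  simp only [Equiv.trans_apply]
  rw [Adjunction.homEquiv_naturality_right]
  exact yonedaEquiv_comp _ _

variable {R A : Sheaf J (Type u)} (p₁ p₂ : R ⟶ A)

/-- the relation on sections -/
def rel (W : Cᵒᵖ) (a a' : A.obj.obj W) : Prop :=
  ∃ r : R.obj.obj W, p₁.hom.app W r = a ∧ p₂.hom.app W r = a'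

lemma rel_iff (W : Cᵒᵖ) (a a' : A.obj.obj W) :
    rel J p₁ p₂ W a a' ↔ ∃ f : (presheafToSheaf J (Type u)).obj (yoneda.obj W.unop) ⟶ R,
      f ≫ p₁ = (secEquiv J W A).symm a ∧ f ≫ p₂ = (secEquiv J W A).symm a' := by
  constructor
  · rintro ⟨r, h1, h2⟩
    refine ⟨(secEquiv J W R).symm r, ?_, ?_⟩
    · apply (secEquiv J W A).injective
      rw [secEquiv_comp, Equiv.apply_symm_apply, Equiv.apply_symm_apply, h1]
    · apply (secEquiv J W A).injective
      rw [secEquiv_comp, Equiv.apply_symm_apply, Equiv.apply_symm_apply, h2]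
  · rintro ⟨f, h1, h2⟩
    refine ⟨secEquiv J W R f, ?_, ?_⟩
    · rw [← secEquiv_comp, h1, Equiv.apply_symm_apply]
    · rw [← secEquiv_comp, h2, Equiv.apply_symm_apply]

variable (hR : SGA4.IsEquivRel p₁ p₂)

include hR in
lemma rel_equivalence (W : Cᵒᵖ) : Equivalence (rel J p₁ p₂ W) := by
  have h := (hR ((presheafToSheaf J (Type u)).obj (yoneda.obj W.unop))).2
  constructor
  · intro a
    rw [rel_iff]
    exact h.refl _
  · intro a a' haa'
    rw [rel_iff] at haa' ⊢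
    exact h.symm haa'
  · intro a a' a'' h1 h2
    rw [rel_iff] at h1 h2 ⊢
    exact h.trans h1 h2

include hR in
lemma rel_inj (W : Cᵒᵖ) (r r' : R.obj.obj W) (h1 : p₁.hom.app W r = p₁.hom.app W r')
    (h2 : p₂.hom.app W r = p₂.hom.app W r') : r = r' := by
  have h := (hR ((presheafToSheaf J (Type u)).obj (yoneda.obj W.unop))).1
  have : (secEquiv J W R).symm r = (secEquiv J W R).symm r' := by
    apply h
    refine Prod.ext ?_ ?_
    · apply (secEquiv J W A).injective
      show secEquiv J W A ((secEquiv J W R).symm r ≫ p₁) = secEquiv J W A ((secEquiv J W R).symm r' ≫ p₁)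
      rw [secEquiv_comp, secEquiv_comp, Equiv.apply_symm_apply, Equiv.apply_symm_apply, h1]
    · apply (secEquiv J W A).injective
      show secEquiv J W A ((secEquiv J W R).symm r ≫ p₂) = secEquiv J W A ((secEquiv J W R).symm r' ≫ p₂)
      rw [secEquiv_comp, secEquiv_comp, Equiv.apply_symm_apply, Equiv.apply_symm_apply, h2]
  exact (secEquiv J W R).symm.injective this

omit hR in
lemma rel_map {W W' : Cᵒᵖ} (g : W ⟶ W') {a a' : A.obj.obj W} (h : rel J p₁ p₂ W a a') :
    rel J p₁ p₂ W' (A.obj.map g a) (A.obj.map g a') := by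
  obtain ⟨r, h1, h2⟩ := h
  refine ⟨R.obj.map g r, ?_, ?_⟩
  · rw [← h1]
    exact ConcreteCategory.congr_hom (p₁.hom.naturality g) r
  · rw [← h2]
    exact ConcreteCategory.congr_hom (p₂.hom.naturality g) r

/-- the quotient presheaf -/
def Q : Cᵒᵖ ⥤ Type u where
  obj W := Quot (rel J p₁ p₂ W)
  map {W W'} g := ↾(Quot.map (A.obj.map g) (fun _ _ h => rel_map J p₁ p₂ g h))
  map_id W := by
    refine ConcreteCategory.hom_ext _ _ (fun x => ?_)
    induction x using Quot.ind with | _ a => ?_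
    show Quot.mk _ (A.obj.map (𝟙 W) a) = Quot.mk _ a
    rw [A.obj.map_id]
    rfl
  map_comp {W W' W''} g g' := by
    refine ConcreteCategory.hom_ext _ _ (fun x => ?_)
    induction x using Quot.ind with | _ a => ?_
    show Quot.mk _ (A.obj.map (g ≫ g') a) = Quot.mk _ (A.obj.map g' (A.obj.map g a))
    rw [A.obj.map_comp]
    rfl

/-- the quotient map of presheaves -/
def q : A.obj ⟶ Q J p₁ p₂ where
  app W := ↾fun a => Quot.mk _ a
  naturality W W' g := by
    refine ConcreteCategory.hom_ext _ _ (fun a => ?_)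
    rfl

omit hR in
lemma q_app_apply (W : Cᵒᵖ) (a : A.obj.obj W) : (q J p₁ p₂).app W a = Quot.mk _ a := rfl

omit hR in
lemma Q_map_mk {W W' : Cᵒᵖ} (g : W ⟶ W') (a : A.obj.obj W) :
    (Q J p₁ p₂).map g (Quot.mk _ a) = Quot.mk _ (A.obj.map g a) := rfl

omit hR in
lemma q_cond : p₁.hom ≫ q J p₁ p₂ = p₂.hom ≫ q J p₁ p₂ := by
  ext W r
  exact Quot.sound ⟨r, rfl, rfl⟩

include hR in
lemma q_eq_iff (W : Cᵒᵖ) (a a' : A.obj.obj W) :
    (q J p₁ p₂).app W a = (q J p₁ p₂).app W a' ↔ rel J p₁ p₂ W a a' := by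
  constructor
  · intro h
    have := Quot.eq.1 h
    exact (rel_equivalence J p₁ p₂ hR W).eqvGen_iff.1 this
  · intro h
    exact Quot.sound h

/-- the quotient sheaf -/
noncomputable def B : Sheaf J (Type u) := (presheafToSheaf J (Type u)).obj (Q J p₁ p₂)

/-- the quotient map -/
noncomputable def π : A ⟶ B J p₁ p₂ :=
  ObjectProperty.homMk (q J p₁ p₂ ≫ toSheafify J (Q J p₁ p₂))

omit hR in
lemma π_cond : p₁ ≫ π J p₁ p₂ = p₂ ≫ π J p₁ p₂ := by
  apply Sheaf.hom_ext
  show p₁.hom ≫ q J p₁ p₂ ≫ toSheafify J (Q J p₁ p₂) = p₂.hom ≫ q J p₁ p₂ ≫ toSheafify J (Q J p₁ p₂)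
  rw [← Category.assoc, q_cond, Category.assoc]

omit hR in
lemma hom_cond {Z : Sheaf J (Type u)} (f : A ⟶ Z) (hf : p₁ ≫ f = p₂ ≫ f) (W : Cᵒᵖ)
    (r : R.obj.obj W) : f.hom.app W (p₁.hom.app W r) = f.hom.app W (p₂.hom.app W r) := by
  have h1 : p₁.hom ≫ f.hom = p₂.hom ≫ f.hom := congrArg InducedCategory.Hom.hom hf
  exact ConcreteCategory.congr_hom (NatTrans.congr_app h1 W) r

/-- descent of a coequalizing map to `Q` -/
def descQ {Z : Sheaf J (Type u)} (f : A ⟶ Z) (hf : p₁ ≫ f = p₂ ≫ f) : Q J p₁ p₂ ⟶ Z.obj where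
  app W := ↾(Quot.lift (f.hom.app W) (by
    rintro a a' ⟨r, rfl, rfl⟩
    exact hom_cond J p₁ p₂ f hf W r))
  naturality W W' g := by
    refine ConcreteCategory.hom_ext _ _ (fun x => ?_)
    induction x using Quot.ind with | _ a => ?_
    exact ConcreteCategory.congr_hom (f.hom.naturality g) a

omit hR in
lemma q_descQ {Z : Sheaf J (Type u)} (f : A ⟶ Z) (hf : p₁ ≫ f = p₂ ≫ f) :
    q J p₁ p₂ ≫ descQ J p₁ p₂ f hf = f.hom := by
  ext W a
  rfl

omit hR in
lemma q_epi_aux {P : Cᵒᵖ ⥤ Type u} (g g' : Q J p₁ p₂ ⟶ P)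
    (h : q J p₁ p₂ ≫ g = q J p₁ p₂ ≫ g') : g = g' := by
  ext W x
  induction x using Quot.ind with | _ a => ?_
  exact ConcreteCategory.congr_hom (NatTrans.congr_app h W) a

/-- descent to the quotient sheaf -/
noncomputable def descB {Z : Sheaf J (Type u)} (f : A ⟶ Z) (hf : p₁ ≫ f = p₂ ≫ f) :
    B J p₁ p₂ ⟶ Z :=
  ((sheafificationAdjunction J (Type u)).homEquiv (Q J p₁ p₂) Z).symm (descQ J p₁ p₂ f hf)

omit hR in
lemma π_descB {Z : Sheaf J (Type u)} (f : A ⟶ Z) (hf : p₁ ≫ f = p₂ ≫ f) :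
    π J p₁ p₂ ≫ descB J p₁ p₂ f hf = f := by
  apply Sheaf.hom_ext
  show (q J p₁ p₂ ≫ toSheafify J (Q J p₁ p₂)) ≫ (descB J p₁ p₂ f hf).hom = f.hom
  have h1 : toSheafify J (Q J p₁ p₂) ≫ (descB J p₁ p₂ f hf).hom = descQ J p₁ p₂ f hf := by
    have := ((sheafificationAdjunction J (Type u)).homEquiv (Q J p₁ p₂) Z).apply_symm_apply
      (descQ J p₁ p₂ f hf)
    rw [Adjunction.homEquiv_unit] at this
    exact this
  rw [Category.assoc, h1, q_descQ]

omit hR in
lemma descB_uniq {Z : Sheaf J (Type u)} (m m' : B J p₁ p₂ ⟶ Z)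
    (h : π J p₁ p₂ ≫ m = π J p₁ p₂ ≫ m') : m = m' := by
  apply ((sheafificationAdjunction J (Type u)).homEquiv (Q J p₁ p₂) Z).injective
  rw [Adjunction.homEquiv_unit, Adjunction.homEquiv_unit]
  apply q_epi_aux J p₁ p₂
  have h1 : (q J p₁ p₂ ≫ toSheafify J (Q J p₁ p₂)) ≫ m.hom =
      (q J p₁ p₂ ≫ toSheafify J (Q J p₁ p₂)) ≫ m'.hom := congrArg InducedCategory.Hom.hom h
  rw [Category.assoc, Category.assoc] at h1
  exact h1

include hR in
lemma inl_eq_inr {Z : Sheaf J (Type u)} (f g : A ⟶ Z) (h : p₁ ≫ f = p₂ ≫ g) : f = g := by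
  apply Sheaf.hom_ext
  ext W a
  obtain ⟨r, h1, h2⟩ := (rel_equivalence J p₁ p₂ hR W).refl a
  have h3 : p₁.hom ≫ f.hom = p₂.hom ≫ g.hom := congrArg InducedCategory.Hom.hom h
  have h4 := ConcreteCategory.congr_hom (NatTrans.congr_app h3 W) r
  simp only [NatTrans.comp_app, ConcreteCategory.comp_apply] at h4
  rw [h1, h2] at h4
  exact h4

include hR in
theorem isPushout : IsPushout p₁ p₂ (π J p₁ p₂) (π J p₁ p₂) := by
  refine ⟨⟨π_cond J p₁ p₂⟩, ⟨PushoutCocone.IsColimit.mk _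
    (fun s => descB J p₁ p₂ s.inl ?_) ?_ ?_ ?_⟩⟩
  · have h1 := inl_eq_inr J p₁ p₂ hR s.inl s.inr s.condition
    have h2 := s.condition
    rw [← h1] at h2
    exact h2
  · intro s
    exact π_descB J p₁ p₂ _ _
  · intro s
    rw [π_descB]
    exact inl_eq_inr J p₁ p₂ hR s.inl s.inr s.condition
  · intro s m h1 h2
    apply descB_uniq J p₁ p₂
    rw [π_descB]
    exact h1

omit hR in
lemma isPullback_app {X₁ X₂ X₃ X₄ : Sheaf J (Type u)} {f : X₁ ⟶ X₂} {g : X₁ ⟶ X₃}
    {h : X₂ ⟶ X₄} {i : X₃ ⟶ X₄} (hP : IsPullback f g h i) (W : Cᵒᵖ) :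
    IsPullback (f.hom.app W) (g.hom.app W) (h.hom.app W) (i.hom.app W) :=
  hP.map (sheafToPresheaf J (Type u) ⋙ (evaluation Cᵒᵖ (Type u)).obj W)

include hR in
theorem isPullback : IsPullback p₁ p₂ (π J p₁ p₂) (π J p₁ p₂) := by
  let k : R ⟶ pullback (π J p₁ p₂) (π J p₁ p₂) := pullback.lift p₁ p₂ (π_cond J p₁ p₂)
  have hk1 : k ≫ pullback.fst _ _ = p₁ := pullback.lift_fst _ _ _
  have hk2 : k ≫ pullback.snd _ _ = p₂ := pullback.lift_snd _ _ _
  have hP := IsPullback.of_hasPullback (π J p₁ p₂) (π J p₁ p₂)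
  have hPW := fun W => isPullback_app J hP W
  have hmono : Mono k := by
    constructor
    intro T f g hfg
    apply (hR T).1
    refine Prod.ext ?_ ?_
    · show f ≫ p₁ = g ≫ p₁
      rw [← hk1, ← Category.assoc, hfg, Category.assoc]
    · show f ≫ p₂ = g ≫ p₂
      rw [← hk2, ← Category.assoc, hfg, Category.assoc]
  have hepi : Epi k := by
    rw [← Sheaf.isLocallySurjective_iff_epi]
    refine ⟨fun {W} z => ?_⟩
    have hcond : (pullback.fst (π J p₁ p₂) (π J p₁ p₂)).hom ≫ (π J p₁ p₂).hom =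
        (pullback.snd (π J p₁ p₂) (π J p₁ p₂)).hom ≫ (π J p₁ p₂).hom :=
      congrArg InducedCategory.Hom.hom
        (pullback.condition (f := π J p₁ p₂) (g := π J p₁ p₂))
    have hπ : (toSheafify J (Q J p₁ p₂)).app (op W) ((q J p₁ p₂).app (op W)
        ((pullback.fst (π J p₁ p₂) (π J p₁ p₂)).hom.app (op W) z)) =
        (toSheafify J (Q J p₁ p₂)).app (op W) ((q J p₁ p₂).app (op W)
        ((pullback.snd (π J p₁ p₂) (π J p₁ p₂)).hom.app (op W) z)) :=
      ConcreteCategory.congr_hom (NatTrans.congr_app hcond (op W)) z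
    have h5 := Presheaf.equalizerSieve_mem J (toSheafify J (Q J p₁ p₂)) _ _ hπ
    refine J.superset_covering ?_ h5
    intro W' g hg
    have hg' : (q J p₁ p₂).app (op W') (A.obj.map g.op
        ((pullback.fst (π J p₁ p₂) (π J p₁ p₂)).hom.app (op W) z)) =
        (q J p₁ p₂).app (op W') (A.obj.map g.op
        ((pullback.snd (π J p₁ p₂) (π J p₁ p₂)).hom.app (op W) z)) := hg
    rw [q_eq_iff J p₁ p₂ hR] at hg'
    obtain ⟨r, h1, h2⟩ := hg'
    refine ⟨r, ?_⟩
    apply Types.ext_of_isPullback (hPW (op W'))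
    · have e1 : (pullback.fst (π J p₁ p₂) (π J p₁ p₂)).hom.app (op W') (k.hom.app (op W') r) =
          p₁.hom.app (op W') r :=
        ConcreteCategory.congr_hom (NatTrans.congr_app
          (congrArg InducedCategory.Hom.hom hk1) (op W')) r
      rw [e1, h1]
      exact (ConcreteCategory.congr_hom
        ((pullback.fst (π J p₁ p₂) (π J p₁ p₂)).hom.naturality g.op) z).symm
    · have e1 : (pullback.snd (π J p₁ p₂) (π J p₁ p₂)).hom.app (op W') (k.hom.app (op W') r) =
          p₂.hom.app (op W') r :=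
        ConcreteCategory.congr_hom (NatTrans.congr_app
          (congrArg InducedCategory.Hom.hom hk2) (op W')) r
      rw [e1, h2]
      exact (ConcreteCategory.congr_hom
        ((pullback.snd (π J p₁ p₂) (π J p₁ p₂)).hom.naturality g.op) z).symm
  have hiso : IsIso k := isIso_of_mono_of_epi k
  exact IsPullback.of_iso_pullback ⟨π_cond J p₁ p₂⟩ (asIso k) hk1 hk2

omit hR in
lemma π_locSurj : Presheaf.IsLocallySurjective J (π J p₁ p₂).hom := by
  show Presheaf.IsLocallySurjective J (q J p₁ p₂ ≫ toSheafify J (Q J p₁ p₂))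
  have : Presheaf.IsLocallySurjective J (q J p₁ p₂) := by
    apply Presheaf.isLocallySurjective_of_surjective
    intro W x
    induction x using Quot.ind with | _ a => ?_
    exact ⟨a, rfl⟩
  infer_instance

omit hR in
theorem effectiveEpi_snd (B' : Sheaf J (Type u)) (g : B' ⟶ B J p₁ p₂) :
    EffectiveEpi (pullback.snd (π J p₁ p₂) g) := by
  have hP := IsPullback.of_hasPullback (π J p₁ p₂) g
  have hPW := fun W => isPullback_app J hP W
  have hepi : Epi (pullback.snd (π J p₁ p₂) g) := by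
    rw [← Sheaf.isLocallySurjective_iff_epi]
    refine ⟨fun {W} b' => ?_⟩
    have := π_locSurj J p₁ p₂
    have h5 := Presheaf.imageSieve_mem J (π J p₁ p₂).hom (g.hom.app (op W) b')
    refine J.superset_covering ?_ h5
    rintro W' h ⟨a, ha⟩
    have ha' : (π J p₁ p₂).hom.app (op W') a = g.hom.app (op W') (B'.obj.map h.op b') := by
      rw [ha]
      exact (ConcreteCategory.congr_hom (g.hom.naturality h.op) b').symm
    obtain ⟨z, -, hz⟩ := Types.exists_of_isPullback (hPW (op W')) a (B'.obj.map h.op b') ha'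
    exact ⟨z, hz⟩
  rw [← isRegularEpi_iff_effectiveEpi]
  exact IsRegularEpiCategory.regularEpiOfEpi _

include hR in
theorem isEffectiveUniversalEquivRel : SGA4.IsEffectiveUniversalEquivRel p₁ p₂ :=
  ⟨B J p₁ p₂, π J p₁ p₂, isPullback J p₁ p₂ hR, isPushout J p₁ p₂ hR,
    fun B' g => effectiveEpi_snd J p₁ p₂ B' g⟩

end Groth.Agent.H60.ER
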