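import Mathlib
import Groth.Prelude.Def_SGA4a
import Groth.Agent.H60.ER

set_option autoImplicit false
open CategoryTheory CategoryTheory.Limits Opposite
universe w v u

namespace Groth.Agent.H60.Canon

open Groth.Agent.H60.ER (secEquiv secEquiv_comp)

variable {C : Type u} [SmallCategory C] (J : GrothendieckTopology C)

/-- the morphism `a y(W) ⟶ X` corresponding to a section -/
noncomputable def hat {X : Sheaf J (Type u)} (W : Cᵒᵖ) (s : X.obj.obj W) :
    (presheafToSheaf J (Type u)).obj (yoneda.obj W.unop) ⟶ X := (secEquiv J W X).symm s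

variable {J}

lemma secEquiv_hat {X : Sheaf J (Type u)} (W : Cᵒᵖ) (s : X.obj.obj W) :
    secEquiv J W X (hat J W s) = s := (secEquiv J W X).apply_symm_apply s

lemma hat_secEquiv {X : Sheaf J (Type u)} (W : Cᵒᵖ)
    (f : (presheafToSheaf J (Type u)).obj (yoneda.obj W.unop) ⟶ X) :
    hat J W (secEquiv J W X f) = f := (secEquiv J W X).symm_apply_apply f

lemma hat_comp {X Y : Sheaf J (Type u)} (W : Cᵒᵖ) (s : X.obj.obj W) (p : X ⟶ Y) :
    hat J W s ≫ p = hat J W (p.hom.app W s) := by
  apply (secEquiv J W Y).injective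
  rw [secEquiv_comp, secEquiv_hat, secEquiv_hat]

lemma secEquiv_map {X : Sheaf J (Type u)} {W W' : Cᵒᵖ} (φ : W ⟶ W')
    (f : (presheafToSheaf J (Type u)).obj (yoneda.obj W.unop) ⟶ X) :
    secEquiv J W' X ((presheafToSheaf J (Type u)).map (yoneda.map φ.unop) ≫ f) =
      X.obj.map φ (secEquiv J W X f) := by
  unfold secEquiv
  simp only [Equiv.trans_apply]
  rw [Adjunction.homEquiv_naturality_left]
  exact (yonedaEquiv_naturality' _ φ).symm

lemma map_hat {X : Sheaf J (Type u)} {W W' : Cᵒᵖ} (φ : W ⟶ W') (s : X.obj.obj W) :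
    (presheafToSheaf J (Type u)).map (yoneda.map φ.unop) ≫ hat J W s =
      hat J W' (X.obj.map φ s) := by
  apply (secEquiv J W' X).injective
  rw [secEquiv_map, secEquiv_hat, secEquiv_hat]

lemma hom_ext_hat {X Y : Sheaf J (Type u)} (g h : X ⟶ Y)
    (H : ∀ (W : Cᵒᵖ) (s : X.obj.obj W), hat J W s ≫ g = hat J W s ≫ h) : g = h := by
  apply Sheaf.hom_ext
  ext W s
  have := H W s
  rw [hat_comp, hat_comp] at this
  simpa [secEquiv_hat] using congrArg (secEquiv J W Y) this

/-- the sieve on `W` on which the section `s` belongs to `S` -/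
def secSieve {X : Sheaf J (Type u)} (S : Sieve X) (W : Cᵒᵖ) (s : X.obj.obj W) : Sieve W.unop where
  arrows d φ := S (hat J (op d) (X.obj.map φ.op s))
  downward_closed := by
    intro d d' φ h ψ
    have e : hat J (op d') (X.obj.map (ψ ≫ φ).op s) =
        (presheafToSheaf J (Type u)).map (yoneda.map ψ) ≫ hat J (op d) (X.obj.map φ.op s) := by
      have := map_hat (J := J) (X := X) ψ.op (X.obj.map φ.op s)
      rw [show ψ.op.unop = ψ from rfl] at this
      rw [this]
      congr 1
      simp
    show S _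
    rw [e]
    exact S.downward_closed h _

lemma secSieve_apply {X : Sheaf J (Type u)} (S : Sieve X) (W : Cᵒᵖ) (s : X.obj.obj W)
    {d : C} (φ : d ⟶ W.unop) :
    secSieve S W s φ ↔ S (hat J (op d) (X.obj.map φ.op s)) := Iff.rfl

lemma secSieve_map {X : Sheaf J (Type u)} (S : Sieve X) {W W' : Cᵒᵖ} (ψ : W ⟶ W')
    (s : X.obj.obj W) : secSieve S W' (X.obj.map ψ s) = (secSieve S W s).pullback ψ.unop := by
  ext d φ
  rw [Sieve.pullback_apply, secSieve_apply, secSieve_apply]
  have : X.obj.map φ.op (X.obj.map ψ s) = X.obj.map (φ ≫ ψ.unop).op s := by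
    simp
  rw [this]

/-- locally surjective sieves -/
def LocSurj {X : Sheaf J (Type u)} (S : Sieve X) : Prop :=
  ∀ (W : Cᵒᵖ) (s : X.obj.obj W), secSieve S W s ∈ J W.unop

/-- jointly epimorphic sieves -/
def JE {X : Sheaf J (Type u)} (S : Sieve X) : Prop :=
  ∀ (Z : Sheaf J (Type u)) (g h : X ⟶ Z), (∀ (Y : Sheaf J (Type u)) (f : Y ⟶ X), S f → f ≫ g = f ≫ h) →
    g = h

lemma secSieve_eq_top {X Y : Sheaf J (Type u)} (S : Sieve X) (f : Y ⟶ X) (hf : S f)
    (W : Cᵒᵖ) (t : Y.obj.obj W) : secSieve S W (f.hom.app W t) = ⊤ := by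
  ext d φ
  simp only [Sieve.top_apply, iff_true]
  rw [secSieve_apply]
  have : X.obj.map φ.op (f.hom.app W t) = f.hom.app (op d) (Y.obj.map φ.op t) := by
    exact (ConcreteCategory.congr_hom (f.hom.naturality φ.op) t).symm
  rw [this, ← hat_comp]
  exact S.downward_closed hf _

lemma LocSurj.pullback {X X' : Sheaf J (Type u)} {S : Sieve X} (hS : LocSurj S) (h : X' ⟶ X) :
    LocSurj (S.pullback h) := by
  intro W s'
  have : secSieve (S.pullback h) W s' = secSieve S W (h.hom.app W s') := by
    ext d φ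
    rw [secSieve_apply, secSieve_apply, Sieve.pullback_apply, hat_comp]
    have : X.obj.map φ.op (h.hom.app W s') = h.hom.app (op d) (X'.obj.map φ.op s') :=
      (ConcreteCategory.congr_hom (h.hom.naturality φ.op) s').symm
    rw [this]
  rw [this]
  exact hS W _

/-- the subfunctor of sections locally in `S` -/
def img {X : Sheaf J (Type u)} (S : Sieve X) : Subfunctor X.obj where
  obj W := {s | secSieve S W s ∈ J W.unop}
  map := by
    intro W W' ψ s hs
    simp only [Set.mem_preimage, Set.mem_ofPred_eq] at hs ⊢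
    rw [secSieve_map]
    exact J.pullback_stable _ hs

lemma img_isSheaf {X : Sheaf J (Type u)} (S : Sieve X) :
    Presieve.IsSheaf J (img S).toFunctor := by
  rw [Subfunctor.isSheaf_iff _ ((isSheaf_iff_isSheaf_of_type J _).1 X.2)]
  intro U s hs
  show secSieve S U s ∈ J U.unop
  refine J.transitive hs _ (fun d φ hφ => ?_)
  have : (secSieve S U s).pullback φ = secSieve S (op d) (X.obj.map φ.op s) :=
    (secSieve_map S φ.op s).symm
  rw [this]
  exact hφ

/-- the image subsheaf -/
def imgSheaf {X : Sheaf J (Type u)} (S : Sieve X) : Sheaf J (Type u) :=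
  ⟨(img S).toFunctor, (isSheaf_iff_isSheaf_of_type J _).2 (img_isSheaf S)⟩

/-- the inclusion of the image subsheaf -/
def imgι {X : Sheaf J (Type u)} (S : Sieve X) : imgSheaf S ⟶ X := ObjectProperty.homMk (img S).ι

lemma imgι_app {X : Sheaf J (Type u)} (S : Sieve X) (W : Cᵒᵖ) (s : (imgSheaf S).obj.obj W) :
    (imgι S).hom.app W s = s.1 := rfl

instance {X : Sheaf J (Type u)} (S : Sieve X) : Mono (imgι S) := by
  constructor
  intro Z g h e
  apply Sheaf.hom_ext
  ext W z
  apply Subtype.ext
  have := ConcreteCategory.congr_hom (NatTrans.congr_app (congrArg InducedCategory.Hom.hom e) W) z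
  exact this

/-- lift of a member of `S` to the image -/
def imgLift {X Y : Sheaf J (Type u)} (S : Sieve X) (f : Y ⟶ X) (hf : S f) : Y ⟶ imgSheaf S :=
  ObjectProperty.homMk
    { app := fun W => ↾fun t => ⟨f.hom.app W t, by
        show secSieve S W _ ∈ J W.unop
        rw [secSieve_eq_top S f hf]
        exact J.top_mem _⟩
      naturality := by
        intro W W' ψ
        ext t
        apply Subtype.ext
        exact ConcreteCategory.congr_hom (f.hom.naturality ψ) t }

lemma imgLift_ι {X Y : Sheaf J (Type u)} (S : Sieve X) (f : Y ⟶ X) (hf : S f) :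
    imgLift S f hf ≫ imgι S = f := by
  apply Sheaf.hom_ext
  ext W t
  rfl

theorem JE.locSurj {X : Sheaf J (Type u)} {S : Sieve X} (hS : JE S) : LocSurj S := by
  have hepi : Epi (imgι S) := by
    constructor
    intro Z g h e
    apply hS
    intro Y f hf
    rw [← imgLift_ι S f hf, Category.assoc, Category.assoc, e]
  have : IsIso (imgι S) := Balanced.isIso_of_mono_of_epi _
  intro W s
  have hiso : IsIso ((sheafToPresheaf J (Type u)).map (imgι S)) := inferInstance
  have hiso' : IsIso (((sheafToPresheaf J (Type u)).map (imgι S)).app W) := inferInstance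
  have hsurj := ((isIso_iff_bijective _).1 hiso').2
  obtain ⟨t, ht⟩ := hsurj s
  have := t.2
  have e : t.1 = s := ht
  rw [e] at this
  exact this

end Groth.Agent.H60.Canon
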