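import Mathlib
import Groth.Prelude.Def_SGA4a
import Groth.Agent.H60.Canon1

set_option autoImplicit false
open CategoryTheory CategoryTheory.Limits Opposite
universe w v u

namespace Groth.Agent.H60.Canon

open Groth.Agent.H60.ER (secEquiv secEquiv_comp)

variable {C : Type u} [SmallCategory C] {J : GrothendieckTopology C}

/-- index property: elements whose classifying map belongs to `S` -/
def Idx {X : Sheaf J (Type u)} (S : Sieve X) : ObjectProperty X.obj.Elements :=
  fun e => S (hat J e.1 e.2)

/-- the diagram of sheafified representables indexed by elements in `S` -/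
noncomputable def diag {X : Sheaf J (Type u)} (S : Sieve X) :
    ((Idx S).FullSubcategory)ᵒᵖ ⥤ Sheaf J (Type u) :=
  ((Idx S).ι ⋙ CategoryOfElements.π X.obj).leftOp ⋙ yoneda ⋙ presheafToSheaf J (Type u)

lemma diag_map {X : Sheaf J (Type u)} (S : Sieve X) {j j' : ((Idx S).FullSubcategory)ᵒᵖ}
    (m : j ⟶ j') : (diag S).map m =
      (presheafToSheaf J (Type u)).map (yoneda.map (m.unop.hom.val).unop) := rfl

/-- the tautological cocone -/
noncomputable def cocone {X : Sheaf J (Type u)} (S : Sieve X) : Cocone (diag S) where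
  pt := X
  ι :=
    { app := fun j => hat J j.unop.obj.1 j.unop.obj.2
      naturality := by
        intro j j' m
        rw [diag_map]
        simp only [Functor.const_obj_obj, Functor.const_obj_map, Category.comp_id]
        refine (map_hat (J := J) (X := X) m.unop.hom.val j'.unop.obj.2).trans ?_
        exact congrArg (hat J j.unop.obj.1) m.unop.hom.property }

/-- object of the index category -/
def mkIdx {X : Sheaf J (Type u)} (S : Sieve X) (W : Cᵒᵖ) (s : X.obj.obj W) (hs : S (hat J W s)) :
    ((Idx S).FullSubcategory)ᵒᵖ := op ⟨X.obj.elementsMk W s, hs⟩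

/-- morphism of the index category -/
def mkIdxHom {X : Sheaf J (Type u)} (S : Sieve X) {W W' : Cᵒᵖ} (ψ : W ⟶ W') (s : X.obj.obj W)
    (hs : S (hat J W s)) (s' : X.obj.obj W') (hs' : S (hat J W' s')) (e : X.obj.map ψ s = s') :
    mkIdx S W' s' hs' ⟶ mkIdx S W s hs :=
  Quiver.Hom.op (ObjectProperty.homMk
    (CategoryOfElements.homMk (X.obj.elementsMk W s) (X.obj.elementsMk W' s') ψ e))

section desc

variable {X : Sheaf J (Type u)} (S : Sieve X) (z : Cocone (diag S))

/-- values of the cocone on sections in `S` -/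
noncomputable def zval (W : Cᵒᵖ) (s : X.obj.obj W) (hs : S (hat J W s)) : z.pt.obj.obj W :=
  secEquiv J W z.pt (z.ι.app (mkIdx S W s hs))

lemma zval_congr (W : Cᵒᵖ) (s s' : X.obj.obj W) (e : s = s') (hs : S (hat J W s))
    (hs' : S (hat J W s')) : zval S z W s hs = zval S z W s' hs' := by
  subst e
  rfl

lemma zval_map {W W' : Cᵒᵖ} (ψ : W ⟶ W') (s : X.obj.obj W) (hs : S (hat J W s))
    (hs' : S (hat J W' (X.obj.map ψ s))) :
    z.pt.obj.map ψ (zval S z W s hs) = zval S z W' (X.obj.map ψ s) hs' := by
  unfold zval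
  rw [← secEquiv_map]
  congr 1
  have := z.ι.naturality (mkIdxHom S ψ s hs _ hs' rfl)
  simp only [Functor.const_obj_obj, Functor.const_obj_map, Category.comp_id] at this
  rw [← this, diag_map]
  rfl

/-- the family to glue -/
noncomputable def fam (W : Cᵒᵖ) (s : X.obj.obj W) :
    Presieve.FamilyOfElements z.pt.obj (secSieve S W s).arrows :=
  fun d φ hφ => zval S z (op d) (X.obj.map φ.op s) hφ

lemma fam_compatible (W : Cᵒᵖ) (s : X.obj.obj W) : (fam S z W s).Compatible := by
  rw [Presieve.compatible_iff_sieveCompatible]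
  intro d d' φ ψ hφ
  have e : X.obj.map (ψ ≫ φ).op s = X.obj.map ψ.op (X.obj.map φ.op s) := by simp
  have h1 : S (hat J (op d') (X.obj.map ψ.op (X.obj.map φ.op s))) := by
    have := (secSieve S W s).downward_closed hφ ψ
    rw [secSieve_apply, e] at this
    exact this
  unfold fam
  rw [zval_map S z ψ.op (X.obj.map φ.op s) hφ h1]
  exact zval_congr S z _ _ _ e _ _

variable (hS : LocSurj S)

/-- the descended map on sections -/
noncomputable def descApp (W : Cᵒᵖ) (s : X.obj.obj W) : z.pt.obj.obj W :=
  (((isSheaf_iff_isSheaf_of_type J _).1 z.pt.2) _ (hS W s)).amalgamate (fam S z W s)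
    (fam_compatible S z W s)

lemma descApp_spec (W : Cᵒᵖ) (s : X.obj.obj W) {d : C} (φ : d ⟶ W.unop)
    (hφ : secSieve S W s φ) :
    z.pt.obj.map φ.op (descApp S z hS W s) = zval S z (op d) (X.obj.map φ.op s) hφ :=
  Presieve.IsSheafFor.valid_glue _ _ _ hφ

lemma descApp_eq (W : Cᵒᵖ) (s : X.obj.obj W) (hs : S (hat J W s)) :
    descApp S z hS W s = zval S z W s hs := by
  have e : X.obj.map (𝟙 W.unop).op s = s := by simp
  have h1 : secSieve S W s (𝟙 W.unop) := by
    rw [secSieve_apply, e]
    exact hs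
  have := descApp_spec S z hS W s (𝟙 _) h1
  have e3 : z.pt.obj.map (𝟙 W.unop).op (descApp S z hS W s) = descApp S z hS W s := by
    rw [op_id]
    exact Functor.map_id_apply _ _ _
  rw [← e3, this]
  exact zval_congr S z _ _ _ e _ _

lemma descApp_map {W W' : Cᵒᵖ} (ψ : W ⟶ W') (s : X.obj.obj W) :
    descApp S z hS W' (X.obj.map ψ s) = z.pt.obj.map ψ (descApp S z hS W s) := by
  refine (((isSheaf_iff_isSheaf_of_type J _).1 z.pt.2) _
    (hS W' (X.obj.map ψ s))).isSeparatedFor.ext (fun d φ hφ => ?_)
  rw [descApp_spec S z hS W' _ φ hφ]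
  have h1 : secSieve S W s (φ ≫ ψ.unop) := by
    rw [secSieve_map] at hφ
    exact hφ
  have e2 : z.pt.obj.map φ.op (z.pt.obj.map ψ (descApp S z hS W s)) =
      z.pt.obj.map (φ ≫ ψ.unop).op (descApp S z hS W s) := by
    rw [← Functor.map_comp_apply]
    rfl
  rw [e2, descApp_spec S z hS W s _ h1]
  exact zval_congr S z _ _ _ (by simp) _ _

/-- the descended morphism -/
noncomputable def desc : X ⟶ z.pt :=
  ObjectProperty.homMk
    { app := fun W => ↾(descApp S z hS W)
      naturality := by
        intro W W' ψ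
        ext s
        exact descApp_map S z hS ψ s }

lemma desc_app (W : Cᵒᵖ) (s : X.obj.obj W) : (desc S z hS).hom.app W s = descApp S z hS W s := rfl

lemma fac (j : ((Idx S).FullSubcategory)ᵒᵖ) : (cocone S).ι.app j ≫ desc S z hS = z.ι.app j := by
  show hat J j.unop.obj.1 j.unop.obj.2 ≫ desc S z hS = _
  rw [hat_comp, desc_app, descApp_eq S z hS _ _ j.unop.property]
  exact hat_secEquiv _ _

lemma uniq (m : X ⟶ z.pt) (hm : ∀ j, (cocone S).ι.app j ≫ m = z.ι.app j) : m = desc S z hS := by
  apply Sheaf.hom_ext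
  apply NatTrans.ext
  funext W
  refine ConcreteCategory.hom_ext _ _ (fun s => ?_)
  refine (((isSheaf_iff_isSheaf_of_type J _).1 z.pt.2) _ (hS W s)).isSeparatedFor.ext
    (fun d φ hφ => ?_)
  rw [desc_app, descApp_spec S z hS W s φ hφ]
  have h1 : z.pt.obj.map φ.op (m.hom.app W s) = m.hom.app (op d) (X.obj.map φ.op s) :=
    (ConcreteCategory.congr_hom (m.hom.naturality φ.op) s).symm
  rw [h1]
  unfold zval
  rw [← hm (mkIdx S (op d) (X.obj.map φ.op s) hφ)]
  show _ = secEquiv J (op d) z.pt (hat J (op d) (X.obj.map φ.op s) ≫ m)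
  rw [secEquiv_comp, secEquiv_hat]

/-- density: `X` is the colimit of the sheafified representables over elements in `S`. -/
noncomputable def isColimit : IsColimit (cocone S) where
  desc z := desc S z hS
  fac z j := fac S z hS j
  uniq z m hm := uniq S z hS m hm

end desc

end Groth.Agent.H60.Canon
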