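import Mathlib
import Groth.Prelude.Def_SGA4a
import Groth.Agent.H60.Canon2

set_option autoImplicit false
open CategoryTheory CategoryTheory.Limits Opposite
universe w v u

namespace Groth.Agent.H60.Canon

open Groth.Agent.H60.ER (secEquiv secEquiv_comp)

variable {C : Type u} [SmallCategory C] {J : GrothendieckTopology C}

/-- a functor turning small colimits into limits: elementwise form -/
lemma existsUnique_of_preserves (G : (Sheaf J (Type u))ᵒᵖ ⥤ Type w)
    [PreservesLimitsOfSize.{u, u} G]
    {K : Type u} [SmallCategory K] {D : K ⥤ Sheaf J (Type u)} (c : Cocone D) (hc : IsColimit c)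
    (x : ∀ k, G.obj (op (D.obj k)))
    (hx : ∀ (k k' : K) (φ : k ⟶ k'), G.map (D.map φ).op (x k') = x k) :
    ∃! t : G.obj (op c.pt), ∀ k, G.map (c.ι.app k).op t = x k := by
  have hl : IsLimit (G.mapCone c.op) := isLimitOfPreserves G hc.op
  obtain ⟨t, ht, hu⟩ := (Types.isLimit_iff (G.mapCone c.op)).1 ⟨hl⟩ (fun j => x j.unop) (by
    intro j j' f
    exact hx _ _ f.unop)
  exact ⟨t, fun k => ht (op k), fun t' ht' => hu t' (fun j => ht' j.unop)⟩

lemma locSurj_top (X : Sheaf J (Type u)) : LocSurj (⊤ : Sieve X) := by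
  intro W s
  have : secSieve (⊤ : Sieve X) W s = ⊤ := by
    ext d φ
    simp [secSieve_apply]
  rw [this]
  exact J.top_mem _

lemma sep_of_preserves (G : (Sheaf J (Type u))ᵒᵖ ⥤ Type w) [PreservesLimitsOfSize.{u, u} G]
    {Y : Sheaf J (Type u)} (t t' : G.obj (op Y))
    (h : ∀ (W : Cᵒᵖ) (r : Y.obj.obj W), G.map (hat J W r).op t = G.map (hat J W r).op t') :
    t = t' := by
  obtain ⟨t₀, _, hu⟩ := existsUnique_of_preserves G (cocone (⊤ : Sieve Y))
    (isColimit _ (locSurj_top Y)) (fun j => G.map ((cocone (⊤ : Sieve Y)).ι.app j).op t) (by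
      intro k k' φ
      rw [← Functor.map_comp_apply, ← op_comp, (cocone (⊤ : Sieve Y)).w φ])
  rw [hu t (fun _ => rfl)]
  exact (hu t' (fun j => (h _ _).symm)).symm

lemma family_congr {X : Sheaf J (Type u)} {G : (Sheaf J (Type u))ᵒᵖ ⥤ Type w} {S : Sieve X}
    (x : Presieve.FamilyOfElements G S.arrows) {Y : Sheaf J (Type u)} (f f' : Y ⟶ X) (e : f = f')
    (hf : S f) (hf' : S f') : x f hf = x f' hf' := by
  subst e
  rfl

theorem isSheafFor_of_preserves (G : (Sheaf J (Type u))ᵒᵖ ⥤ Type w)
    [PreservesLimitsOfSize.{u, u} G] {X : Sheaf J (Type u)} (S : Sieve X) (hS : LocSurj S) :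
    Presieve.IsSheafFor G S.arrows := by
  intro x hx
  have hx' := (Presieve.compatible_iff_sieveCompatible x).1 hx
  obtain ⟨t, ht, hu⟩ := existsUnique_of_preserves G (cocone S) (isColimit S hS)
    (fun j => x ((cocone S).ι.app j) j.unop.property) (by
      intro k k' φ
      have := hx' ((cocone S).ι.app k') ((diag S).map φ) k'.unop.property
      rw [← this]
      exact family_congr x _ _ ((cocone S).w φ) _ _)
  refine ⟨t, ?_, ?_⟩
  · intro Y f hf
    apply sep_of_preserves G
    intro W r
    have h1 : G.map (hat J W r).op (G.map f.op t) = G.map (hat J W r ≫ f).op t := by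
      rw [op_comp, Functor.map_comp_apply]
    rw [h1]
    have h2 : S (hat J W r ≫ f) := S.downward_closed hf _
    have h3 := hx' f (hat J W r) hf
    rw [← h3]
    have h4 : hat J W r ≫ f = hat J W (f.hom.app W r) := hat_comp W r f
    have h5 : S (hat J W (f.hom.app W r)) := h4 ▸ h2
    have h6 := ht (mkIdx S W (f.hom.app W r) h5)
    have h7 : (cocone S).ι.app (mkIdx S W (f.hom.app W r) h5) = hat J W (f.hom.app W r) := rfl
    calc G.map (hat J W r ≫ f).op t = G.map (hat J W (f.hom.app W r)).op t := by rw [h4]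
      _ = x (hat J W (f.hom.app W r)) h5 := h6
      _ = x (hat J W r ≫ f) h2 := family_congr x _ _ h4.symm _ _
  · intro t' ht'
    apply hu
    intro j
    exact ht' _ _

theorem LocSurj.mem_canonical {X : Sheaf J (Type u)} {S : Sieve X} (hS : LocSurj S) :
    S ∈ Sheaf.canonicalTopology (Sheaf J (Type u)) X := by
  apply Sheaf.mem_finestTopology_of_forall_isSheafFor
  rintro _ ⟨Z, rfl⟩ Y f
  exact isSheafFor_of_preserves (yoneda.obj Z) _ (hS.pullback f)

lemma je_of_mem_canonical {X : Sheaf J (Type u)} {S : Sieve X}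
    (hS : S ∈ Sheaf.canonicalTopology (Sheaf J (Type u)) X) : JE S := by
  intro Z g h H
  exact ((Sheaf.isSheaf_yoneda_obj Z) S hS).isSeparatedFor.ext (fun Y f hf => H Y f hf)

theorem mem_canonical_iff {X : Sheaf J (Type u)} (S : Sieve X) :
    S ∈ Sheaf.canonicalTopology (Sheaf J (Type u)) X ↔ LocSurj S :=
  ⟨fun h => (je_of_mem_canonical h).locSurj, fun h => h.mem_canonical⟩

/-- `G` preserving small limits is a sheaf for the canonical topology -/
theorem isSheaf_of_preserves (G : (Sheaf J (Type u))ᵒᵖ ⥤ Type w)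
    [PreservesLimitsOfSize.{u, u} G] :
    Presieve.IsSheaf (Sheaf.canonicalTopology (Sheaf J (Type u))) G := by
  intro X S hS
  exact isSheafFor_of_preserves G S ((mem_canonical_iff S).1 hS)

end Groth.Agent.H60.Canon
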