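import Mathlib
import Groth.Prelude.Def_SGA4a
import Groth.Agent.H60.Canon3

set_option autoImplicit false
open CategoryTheory CategoryTheory.Limits Opposite
universe w v u

namespace Groth.Agent.H60.Canon

open Groth.Agent.H60.ER (secEquiv secEquiv_comp)

variable {C : Type u} [SmallCategory C] {J : GrothendieckTopology C}

/-- the sieve generated by all sections -/
def hatSieve (Y : Sheaf J (Type u)) : Sieve Y where
  arrows Z f := ∃ (W : Cᵒᵖ) (r : Y.obj.obj W)
    (g : Z ⟶ (presheafToSheaf J (Type u)).obj (yoneda.obj W.unop)), f = g ≫ hat J W r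
  downward_closed := by
    rintro Z Z' f ⟨W, r, g, rfl⟩ h
    exact ⟨W, r, h ≫ g, by rw [Category.assoc]⟩

lemma hatSieve_locSurj (Y : Sheaf J (Type u)) : LocSurj (hatSieve Y) := by
  intro W s
  have : secSieve (hatSieve Y) W s = ⊤ := by
    ext d φ
    simp only [Sieve.top_apply, iff_true]
    rw [secSieve_apply]
    exact ⟨op d, _, 𝟙 _, by rw [Category.id_comp]⟩
  rw [this]
  exact J.top_mem _

/-- the sieve on `a y(V)` generated by a sieve on `V` -/
def ySieve {V : C} (T : Sieve V) : Sieve ((presheafToSheaf J (Type u)).obj (yoneda.obj V)) where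
  arrows Z f := ∃ (d : C) (φ : d ⟶ V)
    (g : Z ⟶ (presheafToSheaf J (Type u)).obj (yoneda.obj d)), T φ ∧
      f = g ≫ (presheafToSheaf J (Type u)).map (yoneda.map φ)
  downward_closed := by
    rintro Z Z' f ⟨d, φ, g, hφ, rfl⟩ h
    exact ⟨d, φ, h ≫ g, hφ, by rw [Category.assoc]⟩

lemma ySieve_locSurj {V : C} (T : Sieve V) (hT : T ∈ J V) : LocSurj (ySieve (J := J) T) := by
  apply JE.locSurj
  intro Z g h H
  apply (secEquiv J (op V) Z).injective
  refine (((isSheaf_iff_isSheaf_of_type J _).1 Z.2) _ hT).isSeparatedFor.ext (fun d φ hφ => ?_)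
  have := H _ ((presheafToSheaf J (Type u)).map (yoneda.map φ)) ⟨d, φ, 𝟙 _, hφ, by
    rw [Category.id_comp]⟩
  have e1 := secEquiv_map (J := J) (X := Z) (W := op V) (W' := op d) φ.op g
  have e2 := secEquiv_map (J := J) (X := Z) (W := op V) (W' := op d) φ.op h
  rw [← e1, ← e2]
  exact congrArg _ this

section sheaf

variable (G : (Sheaf J (Type u))ᵒᵖ ⥤ Type w)
  (hG : Presieve.IsSheaf (Sheaf.canonicalTopology (Sheaf J (Type u))) G)

include hG in
lemma sep_of_sheaf {Y : Sheaf J (Type u)} (S : Sieve Y) (hS : LocSurj S) (t t' : G.obj (op Y))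
    (h : ∀ (Z : Sheaf J (Type u)) (f : Z ⟶ Y), S f → G.map f.op t = G.map f.op t') : t = t' :=
  (hG S hS.mem_canonical).isSeparatedFor.ext h

include hG in
lemma sep_hat {Y : Sheaf J (Type u)} (t t' : G.obj (op Y))
    (h : ∀ (W : Cᵒᵖ) (r : Y.obj.obj W), G.map (hat J W r).op t = G.map (hat J W r).op t') :
    t = t' := by
  refine sep_of_sheaf G hG (hatSieve Y) (hatSieve_locSurj Y) t t' ?_
  rintro Z f ⟨W, r, g, rfl⟩
  rw [op_comp, Functor.map_comp_apply, Functor.map_comp_apply, h]

include hG in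
lemma sep_y {V : C} (T : Sieve V) (hT : T ∈ J V)
    (t t' : G.obj (op ((presheafToSheaf J (Type u)).obj (yoneda.obj V))))
    (h : ∀ (d : C) (φ : d ⟶ V), T φ →
      G.map ((presheafToSheaf J (Type u)).map (yoneda.map φ)).op t =
        G.map ((presheafToSheaf J (Type u)).map (yoneda.map φ)).op t') : t = t' := by
  refine sep_of_sheaf G hG (ySieve T) (ySieve_locSurj T hT) t t' ?_
  rintro Z f ⟨d, φ, g, hφ, rfl⟩
  rw [op_comp, Functor.map_comp_apply, Functor.map_comp_apply, h d φ hφ]

end sheaf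

section key

variable (G : (Sheaf J (Type u))ᵒᵖ ⥤ Type w)
  {K : Type u} [SmallCategory K] {D : K ⥤ Sheaf J (Type u)}
  (x : ∀ k, G.obj (op (D.obj k)))

/-- the value of a local section in `G` -/
noncomputable def val (W : Cᵒᵖ) (p : Σ k, (D.obj k).obj.obj W) :
    G.obj (op ((presheafToSheaf J (Type u)).obj (yoneda.obj W.unop))) :=
  G.map (hat J W p.2).op (x p.1)

/-- transport of local sections -/
def sigMap {W W' : Cᵒᵖ} (ψ : W ⟶ W') (p : Σ k, (D.obj k).obj.obj W) :
    Σ k, (D.obj k).obj.obj W' := ⟨p.1, (D.obj p.1).obj.map ψ p.2⟩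

lemma val_sigMap {W W' : Cᵒᵖ} (ψ : W ⟶ W') (p : Σ k, (D.obj k).obj.obj W) :
    val G x W' (sigMap ψ p) =
      G.map ((presheafToSheaf J (Type u)).map (yoneda.map ψ.unop)).op (val G x W p) := by
  unfold val sigMap
  rw [← Functor.map_comp_apply, ← op_comp, map_hat]

/-- the quotient presheaf -/
noncomputable def Qp : Cᵒᵖ ⥤ Type u where
  obj W := Quotient (Setoid.ker (val G x W))
  map {W W'} ψ := ↾(Quotient.map' (sigMap ψ) (by
    intro p q h
    show val G x W' _ = val G x W' _
    rw [val_sigMap, val_sigMap]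
    exact congrArg _ h))
  map_id W := by
    ext q
    induction q using Quotient.inductionOn' with
    | h p =>
      show Quotient.mk'' (sigMap (𝟙 W) p) = Quotient.mk'' p
      congr 1
      unfold sigMap
      simp
  map_comp {W W' W''} ψ ψ' := by
    ext q
    induction q using Quotient.inductionOn' with
    | h p =>
      show Quotient.mk'' (sigMap (ψ ≫ ψ') p) = Quotient.mk'' (sigMap ψ' (sigMap ψ p))
      congr 1
      unfold sigMap
      simp

lemma Qp_map_mk {W W' : Cᵒᵖ} (ψ : W ⟶ W') (p : Σ k, (D.obj k).obj.obj W) :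
    (Qp G x).map ψ (Quotient.mk'' p) = Quotient.mk'' (sigMap ψ p) := rfl

lemma Qp_mk_eq_iff (W : Cᵒᵖ) (p q : Σ k, (D.obj k).obj.obj W) :
    (Quotient.mk'' p : (Qp G x).obj W) = Quotient.mk'' q ↔ val G x W p = val G x W q :=
  Quotient.eq''

/-- the legs at the level of presheaves -/
noncomputable def leg (k : K) : (D.obj k).obj ⟶ Qp G x where
  app W := ↾fun b => Quotient.mk'' ⟨k, b⟩
  naturality := by
    intro W W' ψ
    rfl

variable (hx : ∀ (k k' : K) (φ : k ⟶ k'), G.map (D.map φ).op (x k') = x k)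

include hx in
lemma leg_comp {k k' : K} (φ : k ⟶ k') : (D.map φ).hom ≫ leg G x k' = leg G x k := by
  ext W b
  show (Quotient.mk'' ⟨k', (D.map φ).hom.app W b⟩ : (Qp G x).obj W) = Quotient.mk'' ⟨k, b⟩
  rw [Qp_mk_eq_iff]
  unfold val
  simp only
  rw [← hat_comp, op_comp, Functor.map_comp_apply, hx]

/-- the quotient sheaf -/
noncomputable def Qs : Sheaf J (Type u) := (presheafToSheaf J (Type u)).obj (Qp G x)

/-- the cocone with point the quotient sheaf -/
noncomputable def qCocone : Cocone D where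
  pt := Qs G x
  ι :=
    { app := fun k => ObjectProperty.homMk (leg G x k ≫ toSheafify J (Qp G x))
      naturality := by
        intro k k' φ
        apply Sheaf.hom_ext
        simp only [Functor.const_obj_obj, Functor.const_obj_map, Category.comp_id]
        show (D.map φ).hom ≫ leg G x k' ≫ toSheafify J (Qp G x) = leg G x k ≫ toSheafify J (Qp G x)
        rw [← Category.assoc, leg_comp G x hx] }

variable {c : Cocone D} (hc : IsColimit c)

include hx hc in
/-- sections identified in the colimit have the same value -/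
lemma key_rel (W : Cᵒᵖ) (p q : Σ k, (D.obj k).obj.obj W)
    (hG : Presieve.IsSheaf (Sheaf.canonicalTopology (Sheaf J (Type u))) G)
    (h : (c.ι.app p.1).hom.app W p.2 = (c.ι.app q.1).hom.app W q.2) :
    val G x W p = val G x W q := by
  let θ : c.pt ⟶ Qs G x := hc.desc (qCocone G x hx)
  have hθ : ∀ k, c.ι.app k ≫ θ = (qCocone G x hx).ι.app k := fun k => hc.fac _ k
  have h1 : (toSheafify J (Qp G x)).app W (Quotient.mk'' p) =
      (toSheafify J (Qp G x)).app W (Quotient.mk'' q) := by
    have hp := ConcreteCategory.congr_hom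
      (NatTrans.congr_app (congrArg InducedCategory.Hom.hom (hθ p.1)) W) p.2
    have hq := ConcreteCategory.congr_hom
      (NatTrans.congr_app (congrArg InducedCategory.Hom.hom (hθ q.1)) W) q.2
    have hp' : θ.hom.app W ((c.ι.app p.1).hom.app W p.2) =
        (toSheafify J (Qp G x)).app W (Quotient.mk'' p) := hp
    have hq' : θ.hom.app W ((c.ι.app q.1).hom.app W q.2) =
        (toSheafify J (Qp G x)).app W (Quotient.mk'' q) := hq
    rw [← hp', ← hq', h]
  have h2 := Presheaf.equalizerSieve_mem J (toSheafify J (Qp G x))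
    (Quotient.mk'' p : (Qp G x).obj W) (Quotient.mk'' q) h1
  refine sep_y G hG _ h2 _ _ (fun d φ hφ => ?_)
  have h3 : (Qp G x).map φ.op (Quotient.mk'' p) = (Qp G x).map φ.op (Quotient.mk'' q) := hφ
  rw [Qp_map_mk, Qp_map_mk] at h3
  have h4 := (Qp_mk_eq_iff G x (op d) (sigMap φ.op p) (sigMap φ.op q)).1 h3
  rw [val_sigMap, val_sigMap] at h4
  exact h4

/-- the sieve generated by the legs of a cocone -/
def legSieve (c : Cocone D) : Sieve c.pt where
  arrows Y f := ∃ (k : K) (g : Y ⟶ D.obj k), f = g ≫ c.ι.app k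
  downward_closed := by
    rintro Y Y' f ⟨k, g, rfl⟩ h
    exact ⟨k, h ≫ g, by rw [Category.assoc]⟩

include hc in
lemma legSieve_locSurj : LocSurj (legSieve c) := by
  apply JE.locSurj
  intro Z g h H
  exact hc.hom_ext (fun k => H _ _ ⟨k, 𝟙 _, by rw [Category.id_comp]⟩)

include hx hc in
lemma wd (hG : Presieve.IsSheaf (Sheaf.canonicalTopology (Sheaf J (Type u))) G)
    {Y : Sheaf J (Type u)} {k k' : K} (g : Y ⟶ D.obj k) (g' : Y ⟶ D.obj k')
    (e : g ≫ c.ι.app k = g' ≫ c.ι.app k') : G.map g.op (x k) = G.map g'.op (x k') := by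
  apply sep_hat G hG
  intro W r
  rw [← Functor.map_comp_apply, ← Functor.map_comp_apply, ← op_comp, ← op_comp, hat_comp, hat_comp]
  exact key_rel G x hx hc W ⟨k, g.hom.app W r⟩ ⟨k', g'.hom.app W r⟩ hG
    (ConcreteCategory.congr_hom (NatTrans.congr_app (congrArg InducedCategory.Hom.hom e) W) r)

include hx hc in
/-- a sheaf for the canonical topology turns small colimits into limits: elementwise form -/
theorem existsUnique_of_sheaf
    (hG : Presieve.IsSheaf (Sheaf.canonicalTopology (Sheaf J (Type u))) G) :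
    ∃! t : G.obj (op c.pt), ∀ k, G.map (c.ι.app k).op t = x k := by
  have hS := legSieve_locSurj (J := J) hc
  let fam : Presieve.FamilyOfElements G (legSieve c).arrows :=
    fun Y f hf => G.map (hf.choose_spec.choose).op (x hf.choose)
  have hfam : ∀ {Y : Sheaf J (Type u)} (f : Y ⟶ c.pt) (hf : legSieve c f) (k : K)
      (g : Y ⟶ D.obj k), f = g ≫ c.ι.app k → fam f hf = G.map g.op (x k) := by
    intro Y f hf k g e
    exact wd G x hx hc hG _ _ (hf.choose_spec.choose_spec.symm.trans e)
  have hcomp : fam.Compatible := by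
    rw [Presieve.compatible_iff_sieveCompatible]
    intro Y Z f h hf
    obtain ⟨k, g, rfl⟩ := hf
    rw [hfam (h ≫ g ≫ c.ι.app k) _ k (h ≫ g) (by rw [Category.assoc]),
      hfam (g ≫ c.ι.app k) _ k g rfl, op_comp, Functor.map_comp_apply]
  have hsh := hG (legSieve c) hS.mem_canonical
  refine ⟨hsh.amalgamate fam hcomp, ?_, ?_⟩
  · intro k
    have h1 : legSieve c (c.ι.app k) := ⟨k, 𝟙 _, by rw [Category.id_comp]⟩
    have := hsh.valid_glue hcomp (c.ι.app k) h1
    rw [this, hfam (c.ι.app k) h1 k (𝟙 _) (by rw [Category.id_comp]), op_id]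
    exact Functor.map_id_apply _ _ _
  · intro t' ht'
    refine hsh.isSeparatedFor.ext ?_
    rintro Y f ⟨k, g, rfl⟩
    have h1 : legSieve c (g ≫ c.ι.app k) := ⟨k, g, rfl⟩
    rw [hsh.valid_glue hcomp _ h1, hfam _ h1 k g rfl, op_comp, Functor.map_comp_apply, ht']

end key

end Groth.Agent.H60.Canon
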