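import Mathlib
import Groth.Prelude.Def_SGA4a
import Groth.Agent.H60.Canon4

set_option autoImplicit false
open CategoryTheory CategoryTheory.Limits Opposite
universe w' v' w v u

namespace Groth.Agent.H60.Canon

variable {C : Type u} [SmallCategory C] {J : GrothendieckTopology C}

/-- a sheaf of types for the canonical topology of `Sh(C,J)` preserves small limits -/
theorem preservesLimitsOfSize_of_isSheaf (G : (Sheaf J (Type u))ᵒᵖ ⥤ Type w)
    (hG : Presieve.IsSheaf (Sheaf.canonicalTopology (Sheaf J (Type u))) G) :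
    PreservesLimitsOfSize.{u, u} G := by
  refine ⟨fun {K} _ => ⟨fun {D} => ⟨fun {c} hc => ⟨?_⟩⟩⟩⟩
  refine ((Types.isLimit_iff _).2 ?_).some
  intro s hs
  obtain ⟨t, ht, hu⟩ := existsUnique_of_sheaf (J := J) G (K := Kᵒᵖ) (D := D.leftOp)
    (fun k => s k.unop) (fun k k' φ => hs φ.unop) (c := coconeLeftOpOfCone c)
    (isColimitCoconeLeftOpOfCone D hc) hG
  exact ⟨t, fun j => ht (op j), fun t' ht' => hu t' (fun k => ht' k.unop)⟩

/-- a functor out of `Sh(C,J)` whose composites with representables are canonical sheaves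
preserves small colimits -/
theorem preservesColimitsOfSize_of_isSheaf_yoneda {E : Type v'} [Category.{w'} E]
    (f : Sheaf J (Type u) ⥤ E)
    (h : ∀ Z : E, Presieve.IsSheaf (Sheaf.canonicalTopology (Sheaf J (Type u)))
      (f.op ⋙ yoneda.obj Z)) :
    PreservesColimitsOfSize.{u, u} f := by
  refine ⟨fun {K'} _ => ⟨fun {D'} => ⟨fun {c} hc => ⟨?_⟩⟩⟩⟩
  have key : ∀ z : Cocone (D' ⋙ f), ∃! t : f.obj c.pt ⟶ z.pt,
      ∀ k, f.map (c.ι.app k) ≫ t = z.ι.app k := by
    intro z
    exact existsUnique_of_sheaf (J := J) (f.op ⋙ yoneda.obj z.pt) (fun k => z.ι.app k)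
      (fun k k' φ => z.w φ) hc (h z.pt)
  exact
    { desc := fun z => (key z).choose
      fac := fun z k => (key z).choose_spec.1 k
      uniq := fun z m hm => (key z).choose_spec.2 m hm }

end Groth.Agent.H60.Canon
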