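import Mathlib
import Groth.Prelude.Def_SGA4a
import Groth.Agent.H60.Canon5

set_option autoImplicit false
open CategoryTheory CategoryTheory.Limits Opposite
universe w' v' w v u

namespace Groth.Agent.H60.Canon

variable {C : Type u} [SmallCategory C] (J : GrothendieckTopology C)

lemma W_functorInclusion {V : C} (S : Sieve V) (hS : S ∈ J V) :
    J.W (A := Type u) S.functorInclusion := by
  intro P hP
  rw [isSheaf_iff_isSheaf_of_type] at hP
  have := (Presieve.isSheafFor_iff_yonedaSheafCondition (P := P) (S := S)).1 (hP S hS)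
  exact (Function.bijective_iff_existsUnique _).2 this

/-- the right adjoint of a functor inverting `J.W` takes values in sheaves -/
theorem isSheaf_rightAdjoint_obj {E : Type v'} [Category.{w'} E] (L : (Cᵒᵖ ⥤ Type u) ⥤ E)
    (R : E ⥤ (Cᵒᵖ ⥤ Type u)) (adj : L ⊣ R)
    (hL : ∀ {P Q : Cᵒᵖ ⥤ Type u} (g : P ⟶ Q), J.W g → IsIso (L.map g)) (Z : E) :
    Presheaf.IsSheaf J (R.obj Z) := by
  rw [isSheaf_iff_isSheaf_of_type]
  intro V S hS
  rw [Presieve.isSheafFor_iff_yonedaSheafCondition]
  have h1 : IsIso (L.map S.functorInclusion) := hL _ (W_functorInclusion J S hS)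
  have h2 : Function.Bijective (fun (g : L.obj (yoneda.obj V) ⟶ Z) => L.map S.functorInclusion ≫ g) :=
    ((asIso (L.map S.functorInclusion)).symm.homFromEquiv).bijective
  have h3 := (adj.map_comp_bijective_iff S.functorInclusion Z).1 h2
  exact (Function.bijective_iff_existsUnique _).1 h3

/-- a functor from a sheaf topos preserving small colimits is a left adjoint -/
theorem isLeftAdjoint_of_preservesColimitsOfSize {D : Type u} [SmallCategory D]
    (K : GrothendieckTopology D) (f : Sheaf J (Type u) ⥤ Sheaf K (Type u))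
    [PreservesColimitsOfSize.{u, u} f] : f.IsLeftAdjoint := by
  let L : (Cᵒᵖ ⥤ Type u) ⥤ Sheaf K (Type u) := presheafToSheaf J (Type u) ⋙ f
  haveI : PreservesColimitsOfSize.{u, u} L := inferInstance
  haveI hL : L.IsLeftAdjoint := Presheaf.isLeftAdjoint_of_preservesColimits.{u} L
  let R' := L.rightAdjoint
  let adj : L ⊣ R' := Adjunction.ofIsLeftAdjoint L
  have hsh : ∀ Z, Presheaf.IsSheaf J (R'.obj Z) := by
    intro Z
    refine isSheaf_rightAdjoint_obj J L R' adj ?_ Z
    intro P Q g hg
    have : IsIso ((presheafToSheaf J (Type u)).map g) := (J.W_iff g).1 hg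
    show IsIso (f.map ((presheafToSheaf J (Type u)).map g))
    infer_instance
  let R : Sheaf K (Type u) ⥤ Sheaf J (Type u) := ObjectProperty.lift _ R' hsh
  let comm1 : sheafToPresheaf J (Type u) ⋙ L ≅ f ⋙ 𝟭 _ :=
    (Functor.associator _ _ _).symm ≪≫
      Functor.isoWhiskerRight (asIso (sheafificationAdjunction J (Type u)).counit) f ≪≫
      f.leftUnitor ≪≫ f.rightUnitor.symm
  let comm2 : 𝟭 _ ⋙ R' ≅ R ⋙ sheafToPresheaf J (Type u) := Functor.leftUnitor _
  exact ⟨R, ⟨adj.restrictFullyFaithful (fullyFaithfulSheafToPresheaf J _)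
    (Functor.FullyFaithful.id _) comm1 comm2⟩⟩

end Groth.Agent.H60.Canon
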