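import Groth.Agent.H31.CechConverse

open CategoryTheory Limits Opposite AlgebraicTopology Simplicial Abelian

universe u

namespace Groth.Agent.H60.RelCartan

open Groth.Agent.H31 Groth.Agent.H31.CechAcyc Groth.Agent.H31.SieveExt Groth.Agent.H31.LocTriv

variable {C : Type u} [SmallCategory C] {J : GrothendieckTopology C}

lemma ZsMap_comp {K'' K' K : Sheaf J (Type u)} (k : K'' ⟶ K') (f : K' ⟶ K) :
    ZsMap (k ≫ f) = ZsMap k ≫ ZsMap f := by
  show (presheafToSheaf J AddCommGrpCat.{u}).map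
      (Functor.whiskerRight (k.hom ≫ f.hom) AddCommGrpCat.free.{u}) = _
  rw [Functor.whiskerRight_comp, Functor.map_comp]

variable (F : Sheaf J AddCommGrpCat.{u})

/-- Relative Cartan criterion: a class `𝒦` of objects with a class `Cov` of epimorphic covers
refining every epimorphism onto a member of `𝒦`, such that the Čech complexes of `F` along covers are
exact in positive degrees and the vanishing of `H^i(-, F)`, `0 < i ≤ p`, on `𝒦` propagates to the terms
of the Čech nerves of covers.  Then `H^p(K, F) = 0` for all `K ∈ 𝒦` and `p > 0`. -/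
theorem acyclic_of_cech (𝒦 : Sheaf J (Type u) → Prop)
    (Cov : ∀ {K' K : Sheaf J (Type u)}, (K' ⟶ K) → Prop)
    (hepi : ∀ {K' K : Sheaf J (Type u)} (f : K' ⟶ K), Cov f → Epi f)
    (href : ∀ (K : Sheaf J (Type u)), 𝒦 K → ∀ (L : Sheaf J (Type u)) (g : L ⟶ K), Epi g →
      ∃ (K' : Sheaf J (Type u)) (f : K' ⟶ K) (k : K' ⟶ L), Cov f ∧ k ≫ g = f)
    (hnerve : ∀ {K' K : Sheaf J (Type u)} (f : K' ⟶ K), Cov f → ∀ p : ℕ,
      (∀ i, i < p → ∀ K₀, 𝒦 K₀ → Subsingleton (CohCx.HK K₀ F (i + 1))) →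
      ∀ k i, i < p → Subsingleton (Ext ((PP f).X k) F (i + 1)))
    (hcech : ∀ {K' K : Sheaf J (Type u)} (f : K' ⟶ K), Cov f →
      ∀ q : ℕ, IsZero ((CohCx.cechNerveCx F f).homology (q + 1))) :
    ∀ (p : ℕ) (K : Sheaf J (Type u)), 𝒦 K → Subsingleton (CohCx.HK K F (p + 1)) := by
  intro p
  induction p using Nat.strong_induction_on with
  | _ p ih =>
    intro K hK
    refine subsingleton_of_forall_eq 0 fun ξ => ?_
    obtain ⟨L, g, hg, h0'⟩ := exists_epi_comp_eq_zero p F K ξ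
    obtain ⟨K', f, k, hf, hkf⟩ := href K hK L g hg
    have hfe : Epi f := hepi f hf
    have h0 : (Ext.mk₀ (ZsMap f)).comp (ξ : Ext (Zs J K.obj) F (p + 1)) (zero_add _) = 0 := by
      rw [← hkf, ZsMap_comp, ← Ext.mk₀_comp_mk₀, Ext.comp_assoc_of_second_deg_zero, h0',
        Ext.comp_zero]
    have hq : QuasiIso (AlternatingFaceMapComplex.ε.app (WW f)) := CechRes.quasiIso_free_cechNerve f
    have hsurj : ∀ (k : ℕ) (ψ : ResShift.Cob (AlternatingFaceMapComplex.ε.app (WW f)) (k + 1) ⟶ F),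
        ∃ χ : (PP f).X k ⟶ F, ResShift.ii (AlternatingFaceMapComplex.ε.app (WW f)) k ≫ χ = ψ := by
      intro k ψ
      obtain ⟨χ, hχ⟩ := exact_of_homology_isZero F f k (hcech f hf k)
        ((PP f).pOpcycles (k + 1) ≫ ψ) (by rw [HomologicalComplex.d_pOpcycles_assoc, zero_comp])
      refine ⟨χ, ?_⟩
      show (PP f).fromOpcycles (k + 1) k ≫ χ = ψ
      rw [← cancel_epi ((PP f).pOpcycles (k + 1))]
      refine Eq.trans ?_ hχ
      exact (HomologicalComplex.p_fromOpcycles_assoc _ _ _ _)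
    have hP : ∀ (k i : ℕ), i < p → Subsingleton (Ext ((PP f).X k) F (i + 1)) :=
      hnerve f hf p (fun i hi K₀ hK₀ => ih i hi K₀ hK₀)
    refine ResShift.restr_injective (AlternatingFaceMapComplex.ε.app (WW f)) p hsurj hP p le_rfl 0 ξ ?_
    have h1 : ResShift.qq (AlternatingFaceMapComplex.ε.app (WW f)) 0 =
        ZsMap (WidePullback.π (fun _ : Fin (0 + 1) => (Arrow.mk f).hom) 0) ≫ ZsMap f := by
      show (AlternatingFaceMapComplex.ε.app (WW f)).f 0 = _
      rw [AlternatingFaceMapComplex.ε_app_f_zero]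
      have h2 : WidePullback.π (fun _ : Fin (0 + 1) => (Arrow.mk f).hom) 0 ≫ f =
          WidePullback.base (fun _ : Fin (0 + 1) => (Arrow.mk f).hom) :=
        WidePullback.π_arrow (fun _ : Fin (0 + 1) => (Arrow.mk f).hom) 0
      show (Sheaf.composeAndSheafify J AddCommGrpCat.free.{u}).map
        (WidePullback.base (fun _ : Fin (0 + 1) => (Arrow.mk f).hom)) ≫ 𝟙 _ = _
      rw [Category.comp_id, ← h2, Functor.map_comp]
      rfl
    have h3 : (Ext.mk₀ (ZsMap (WidePullback.π (fun _ : Fin (0 + 1) => (Arrow.mk f).hom) 0) ≫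
        ZsMap f)).comp (ξ : Ext (Zs J K.obj) F (p + 1)) (zero_add _) = 0 := by
      rw [← Ext.mk₀_comp_mk₀, Ext.comp_assoc_of_second_deg_zero, h0, Ext.comp_zero]
    rw [h1]
    exact h3

end Groth.Agent.H60.RelCartan
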