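import Groth.Agent.H60.HomColim
import Groth.Agent.H60.RelCartan

open CategoryTheory Limits Opposite AlgebraicTopology Simplicial Abelian

universe u

namespace Groth.Agent.H60.CechColim

open Groth.Agent.H31 Groth.Agent.H31.CechAcyc Groth.Agent.H31.SieveExt Groth.Agent.H31.LocTriv
  Groth.Agent.H28 ToposFin Groth.Agent.H60.HomColim

variable {C : Type u} [SmallCategory C] {J : GrothendieckTopology C}

/-- the `n`-th term of the Čech nerve of `f`. -/
noncomputable abbrev nerve {K' K : Sh J} (f : K' ⟶ K) (n : ℕ) : Sh J :=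
  (Arrow.mk f).cechNerve.obj (op (SimplexCategory.mk n))

/-- Čech complexes along an epimorphism are exact in positive degrees as soon as `F` is acyclic on the
terms of the Čech nerve and on the base. -/
theorem cechNerve_acyclic' (F : Sheaf J AddCommGrpCat.{u}) {K' K : Sh J} (f : K' ⟶ K) [Epi f]
    (hN : ∀ n j : ℕ, Subsingleton (CohCx.HK (nerve f n) F (j + 1)))
    (hK : ∀ j : ℕ, Subsingleton (CohCx.HK K F (j + 1))) (q : ℕ) :
    IsZero ((CohCx.cechNerveCx F f).homology (q + 1)) := by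
  rw [← HomologicalComplex.exactAt_iff_isZero_homology,
    HomologicalComplex.exactAt_iff' _ q (q + 1) (q + 2) (by simp) (by simp),
    ShortComplex.ab_exact_iff]
  intro x hx
  have hq : QuasiIso (AlternatingFaceMapComplex.ε.app (WW f)) := CechRes.quasiIso_free_cechNerve f
  have hP : ∀ n, ResShift.Acyc F ((PP f).X n) := fun n j => hN n j
  have hM : ResShift.Acyc F (WW f).right := fun j => hK j
  obtain ⟨ψ, hψ⟩ := ResShift.exists_factor (AlternatingFaceMapComplex.ε.app (WW f)) hP hM q x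
    ((d_apply F f (q + 1) x).symm.trans hx)
  exact ⟨ψ, (d_apply F f q ψ).trans hψ⟩

/-- converse packaging: the lifting property gives vanishing of Čech cohomology. -/
lemma homology_isZero_of_exact (F : Sheaf J AddCommGrpCat.{u}) {K' K : Sh J} (f : K' ⟶ K) (q : ℕ)
    (h : ∀ (x : (PP f).X (q + 1) ⟶ F), (PP f).d (q + 2) (q + 1) ≫ x = 0 →
      ∃ ψ : (PP f).X q ⟶ F, (PP f).d (q + 1) q ≫ ψ = x) :
    IsZero ((CohCx.cechNerveCx F f).homology (q + 1)) := by
  rw [← HomologicalComplex.exactAt_iff_isZero_homology,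
    HomologicalComplex.exactAt_iff' _ q (q + 1) (q + 2) (by simp) (by simp),
    ShortComplex.ab_exact_iff]
  intro x hx
  obtain ⟨ψ, hψ⟩ := h x ((d_apply F f (q + 1) x).symm.trans hx)
  exact ⟨ψ, (d_apply F f q ψ).trans hψ⟩

variable {Λ : Type u} [SmallCategory Λ] [IsFiltered Λ] {D : Λ ⥤ Sheaf J AddCommGrpCat.{u}}
  {c : Cocone D} (hc : IsColimit c)

include hc in
/-- Exactness of Čech complexes in positive degrees passes to filtered colimits when the terms of
the Čech nerve are finitely presented. -/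
theorem cech_exact_colim {K' K : Sh J} (f : K' ⟶ K) (hfp : ∀ n, IsFP (nerve f n))
    (hD : ∀ (i : Λ) (q : ℕ), IsZero ((CohCx.cechNerveCx (D.obj i) f).homology (q + 1))) (q : ℕ) :
    IsZero ((CohCx.cechNerveCx c.pt f).homology (q + 1)) := by
  refine homology_isZero_of_exact c.pt f q (fun x hx => ?_)
  obtain ⟨i, xi, hxi⟩ : ∃ (i : Λ) (xi : (PP f).X (q + 1) ⟶ D.obj i), xi ≫ c.ι.app i = x :=
    hom_surj hc (hfp (q + 1)) x
  have h1 : ((PP f).d (q + 2) (q + 1) ≫ xi) ≫ c.ι.app i = 0 := by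
    rw [Category.assoc, hxi, hx]
  obtain ⟨j, a, ha⟩ : ∃ (j : Λ) (a : i ⟶ j), ((PP f).d (q + 2) (q + 1) ≫ xi) ≫ D.map a = 0 :=
    hom_inj hc (hfp (q + 2)) ((PP f).d (q + 2) (q + 1) ≫ xi) h1
  obtain ⟨ψ, hψ⟩ := exact_of_homology_isZero (D.obj j) f q (hD j q) (xi ≫ D.map a)
    (by rw [← Category.assoc]; exact ha)
  refine ⟨ψ ≫ c.ι.app j, ?_⟩
  rw [← Category.assoc, hψ, Category.assoc, c.w a, hxi]

include hc in
/-- Acyclicity relative to a class `𝒦` of objects passes to filtered colimits. -/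
theorem acyclic_colim (𝒦 𝒦' : Sh J → Prop)
    (Cov : ∀ {K' K : Sh J}, (K' ⟶ K) → Prop)
    (hfp : ∀ N, 𝒦' N → IsFP N)
    (hprop : ∀ (F : Sheaf J AddCommGrpCat.{u}) (i : ℕ),
      (∀ K, 𝒦 K → Subsingleton (CohCx.HK K F (i + 1))) →
      ∀ N, 𝒦' N → Subsingleton (CohCx.HK N F (i + 1)))
    (hcov : ∀ {K' K : Sh J} (f : K' ⟶ K), Cov f → Epi f ∧ 𝒦 K ∧ ∀ n, 𝒦' (nerve f n))
    (href : ∀ (K : Sh J), 𝒦 K → ∀ (L : Sh J) (g : L ⟶ K), Epi g →
      ∃ (K' : Sh J) (f : K' ⟶ K) (k : K' ⟶ L), Cov f ∧ k ≫ g = f)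
    (hD : ∀ (i : Λ) (K : Sh J), 𝒦 K → ∀ q : ℕ, Subsingleton (CohCx.HK K (D.obj i) (q + 1))) :
    ∀ (K : Sh J), 𝒦 K → ∀ q : ℕ, Subsingleton (CohCx.HK K c.pt (q + 1)) := by
  intro K hK q
  refine RelCartan.acyclic_of_cech c.pt 𝒦 Cov (fun f hf => (hcov f hf).1) href ?_ ?_ q K hK
  · intro K' K f hf p hp k i hi
    exact hprop c.pt i (fun K₀ hK₀ => hp i hi K₀ hK₀) _ ((hcov f hf).2.2 k)
  · intro K' K f hf q
    have := (hcov f hf).1
    refine cech_exact_colim hc f (fun n => hfp _ ((hcov f hf).2.2 n)) (fun i q => ?_) q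
    exact cechNerve_acyclic' (D.obj i) f
      (fun n j => hprop (D.obj i) j (fun K₀ hK₀ => hD i K₀ hK₀ j) _ ((hcov f hf).2.2 n))
      (fun j => hD i K (hcov f hf).2.1 j) q

end Groth.Agent.H60.CechColim
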