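import Groth.Agent.H60.CechFree
import Groth.Prelude.Def_DeltaF

/-!
# The Čech δ-functor on presheaves (universe-general)

The Čech cohomology functors `P ↦ Ȟ^n(Y, P)` on `Cᵒᵖ ⥤ AddCommGrpCat.{w}` form a cohomological
δ-functor in the sense of `DeltaF.CohDeltaFunctor`; it is effaceable when there are enough
injectives.  (helper60; the product lemmas are adapted from helper43's `CechDelta`.)
-/

set_option autoImplicit false
universe w v u
open CategoryTheory Limits Opposite Simplicial

namespace Groth.Agent.H60.CechDeltaF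

section Pi

variable {I : Type w} {A₁ A₂ A₃ : I → AddCommGrpCat.{w}} (f : ∀ x, A₁ x ⟶ A₂ x)
  (g : ∀ x, A₂ x ⟶ A₃ x)

lemma π_map_apply (x : I) (c : (∏ᶜ A₁ : AddCommGrpCat.{w})) :
    (Pi.π A₂ x).hom ((Limits.Pi.map f).hom c) = (f x).hom ((Pi.π A₁ x).hom c) :=
  ConcreteCategory.congr_hom (Pi.map_π f x) c

lemma pi_ext {c c' : (∏ᶜ A₁ : AddCommGrpCat.{w})}
    (h : ∀ x, (Pi.π A₁ x).hom c = (Pi.π A₁ x).hom c') : c = c' := by
  apply (Concrete.productEquiv A₁).injective
  funext x
  rw [Concrete.productEquiv_apply_apply, Concrete.productEquiv_apply_apply]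
  exact h x

lemma pi_shortExact (w : ∀ x, f x ≫ g x = 0)
    (h : ∀ x, (ShortComplex.mk (f x) (g x) (w x)).ShortExact) :
    (ShortComplex.mk (Limits.Pi.map f) (Limits.Pi.map g) (by
      apply Pi.hom_ext
      intro x
      rw [Category.assoc, Limits.Pi.map_π, Limits.Pi.map_π_assoc, w, comp_zero, zero_comp])).ShortExact := by
  have hmono : ∀ x, Function.Injective (f x).hom := fun x =>
    (AddCommGrpCat.mono_iff_injective _).1 (h x).mono_f
  have hepi : ∀ x, Function.Surjective (g x).hom := fun x =>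
    (AddCommGrpCat.epi_iff_surjective _).1 (h x).epi_g
  have hex : ∀ x (b : A₂ x), (g x).hom b = 0 → ∃ a, (f x).hom a = b := fun x =>
    (ShortComplex.ab_exact_iff _).1 (h x).exact
  refine ShortComplex.ShortExact.mk' ?_ ?_ ?_
  · rw [ShortComplex.ab_exact_iff]
    intro c hc
    have hc' : ∀ x, (g x).hom ((Pi.π A₂ x).hom c) = 0 := fun x => by
      rw [← π_map_apply]
      have : (Limits.Pi.map g).hom c = 0 := hc
      rw [this, map_zero]
    choose b hb using fun x => hex x _ (hc' x)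
    refine ⟨(Concrete.productEquiv A₁).symm b, ?_⟩
    apply pi_ext
    intro x
    change (Pi.π A₂ x).hom ((Limits.Pi.map f).hom _) = _
    rw [π_map_apply, Concrete.productEquiv_symm_apply_π]
    exact hb x
  · rw [AddCommGrpCat.mono_iff_injective]
    intro c c' hcc'
    apply pi_ext
    intro x
    apply hmono x
    rw [← π_map_apply, ← π_map_apply]
    exact congrArg _ hcc'
  · rw [AddCommGrpCat.epi_iff_surjective]
    intro c
    choose b hb using fun x => hepi x ((Pi.π A₃ x).hom c)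
    refine ⟨(Concrete.productEquiv A₂).symm b, ?_⟩
    apply pi_ext
    intro x
    change (Pi.π A₃ x).hom ((Limits.Pi.map g).hom _) = _
    rw [π_map_apply, Concrete.productEquiv_symm_apply_π]
    exact hb x

end Pi

variable {C : Type u} [Category.{v} C] {X : C} [HasFiniteProducts (Over X)] {ι : Type w}
  (Y : ι → Over X)

/-- The Čech complex functor on presheaves. -/
noncomputable def CC : (Cᵒᵖ ⥤ AddCommGrpCat.{w}) ⥤ CochainComplex AddCommGrpCat.{w} ℕ :=
  (Functor.whiskeringLeft _ _ _).obj (Over.forget X).op ⋙ cechComplexFunctor Y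

lemma CC_map_f {P P' : Cᵒᵖ ⥤ AddCommGrpCat.{w}} (φ : P ⟶ P') (n : ℕ) :
    ((CC Y).map φ).f n =
      Limits.Pi.map (fun x : Fin (n + 1) → ι => φ.app (op (∏ᶜ (Y ∘ x)).left)) := rfl

instance : (CC Y).Additive where
  map_add {P P'} {φ ψ} := by
    ext n : 1
    change Limits.Pi.map (fun x : Fin (n + 1) → ι => (φ + ψ).app (op (∏ᶜ (Y ∘ x)).left)) =
      Limits.Pi.map (fun x : Fin (n + 1) → ι => φ.app (op (∏ᶜ (Y ∘ x)).left)) +
        Limits.Pi.map (fun x : Fin (n + 1) → ι => ψ.app (op (∏ᶜ (Y ∘ x)).left))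
    apply Pi.hom_ext
    intro x
    rw [Limits.Pi.map_π, Preadditive.add_comp, Limits.Pi.map_π, Limits.Pi.map_π,
      ← Preadditive.comp_add]
    rfl

/-- evaluation of a short exact sequence of presheaves is short exact -/
lemma shortExact_app {S : ShortComplex (Cᵒᵖ ⥤ AddCommGrpCat.{w})} (hS : S.ShortExact) (V : Cᵒᵖ) :
    (ShortComplex.mk (S.f.app V) (S.g.app V)
      (congrArg (fun m => m.app V) S.zero)).ShortExact :=
  hS.map_of_exact ((evaluation _ _).obj V)

lemma shortExact_map_CC {S : ShortComplex (Cᵒᵖ ⥤ AddCommGrpCat.{w})} (hS : S.ShortExact) :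
    (S.map (CC Y)).ShortExact := by
  apply HomologicalComplex.shortExact_of_degreewise_shortExact
  intro n
  exact pi_shortExact (fun x : Fin (n + 1) → ι => S.f.app (op (∏ᶜ (Y ∘ x)).left))
    (fun x => S.g.app (op (∏ᶜ (Y ∘ x)).left)) _
    (fun x => shortExact_app hS (op (∏ᶜ (Y ∘ x)).left))

/-- The Čech δ-functor. -/
noncomputable def cechDelta :
    DeltaF.CohDeltaFunctor (Cᵒᵖ ⥤ AddCommGrpCat.{w}) AddCommGrpCat.{w} ℕ where
  F n := CC Y ⋙ HomologicalComplex.homologyFunctor _ _ n
  additive _ := inferInstance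
  δ _ hS n₀ n₁ h := (shortExact_map_CC Y hS).δ n₀ n₁ h
  δ_natural hS hS' φ n₀ n₁ h :=
    (HomologicalComplex.HomologySequence.δ_naturality ((CC Y).mapShortComplex.map φ)
      (shortExact_map_CC Y hS) (shortExact_map_CC Y hS') n₀ n₁ h).symm
  exact₂ _ hS n := (shortExact_map_CC Y hS).homology_exact₂ n
  comp_δ _ hS n₀ n₁ h := (shortExact_map_CC Y hS).comp_δ n₀ n₁ h
  exact₃ _ hS n₀ n₁ h := (shortExact_map_CC Y hS).homology_exact₃ n₀ n₁ h
  δ_comp _ hS n₀ n₁ h := (shortExact_map_CC Y hS).δ_comp n₀ n₁ h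
  exact₁ _ hS n₀ n₁ h := (shortExact_map_CC Y hS).homology_exact₁ n₀ n₁ h

lemma cechDelta_F (n : ℕ) :
    (cechDelta Y).F n = CC Y ⋙ HomologicalComplex.homologyFunctor _ _ n := rfl

/-- the Čech δ-functor is effaceable -/
theorem isEffaceable [LocallySmall.{w} C] [EnoughInjectives (Cᵒᵖ ⥤ AddCommGrpCat.{w})] :
    (cechDelta Y).IsEffaceable := by
  intro n P
  refine ⟨Injective.under P, Injective.ι P, inferInstance, ?_⟩
  exact (CechFree.isZero_homology_of_injective Y (Injective.under P) n).eq_of_tgt _ _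

instance : PreservesFiniteLimits (CC Y ⋙ HomologicalComplex.homologyFunctor _ _ 0) := by
  rw [Functor.preservesFiniteLimits_iff_forall_exact_map_and_mono]
  intro S hS
  have hS' := shortExact_map_CC Y hS
  refine ⟨hS'.homology_exact₂ 0, ?_⟩
  have : Mono (S.map (CC Y)).f := hS'.mono_f
  have h1 : Mono (HomologicalComplex.cyclesMap (S.map (CC Y)).f 0) := by
    have : Mono ((S.map (CC Y)).f.f 0) := inferInstance
    have : Mono (HomologicalComplex.cyclesMap (S.map (CC Y)).f 0 ≫ (S.map (CC Y)).X₂.iCycles 0) := by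
      rw [HomologicalComplex.cyclesMap_i]
      infer_instance
    exact mono_of_mono _ ((S.map (CC Y)).X₂.iCycles 0)
  have h2 := CochainComplex.isoHomologyπ₀_inv_naturality (S.map (CC Y)).f
  have : Mono (HomologicalComplex.homologyMap (S.map (CC Y)).f 0 ≫
      (S.map (CC Y)).X₂.isoHomologyπ₀.inv) := by
    rw [h2]
    infer_instance
  exact mono_of_mono (HomologicalComplex.homologyMap (S.map (CC Y)).f 0)
    (S.map (CC Y)).X₂.isoHomologyπ₀.inv

end Groth.Agent.H60.CechDeltaF
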