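import Groth.Agent.H43.CechPts

/-!
# Čech cohomology of injective presheaves vanishes (universe-general)

For a locally `w`-small category `C`, a family `Y : ι → Over X` (`ι : Type w`) and an injective
object `I` of `Cᵒᵖ ⥤ AddCommGrpCat.{w}`, the Čech complex of `I` is exact in positive degrees.
The proof uses the complex of free presheaves on the points of the Čech nerve.  (helper60)
-/

set_option autoImplicit false
universe w v u
open CategoryTheory Limits Opposite Simplicial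

namespace Groth.Agent.H60.CechFree

open Groth.Agent.H43.CechPts

variable {C : Type u} [Category.{v} C] {X : C} [HasFiniteProducts (Over X)] {ι : Type w}
  (Y : ι → Over X)

/-- the Čech cosimplicial abelian group of a presheaf -/
noncomputable abbrev Ξ (P : Cᵒᵖ ⥤ AddCommGrpCat.{w}) : CosimplicialObject AddCommGrpCat.{w} :=
  (FormalCoproduct.cosimplicialObjectFunctor (FormalCoproduct.mk _ Y).cech).obj
    ((Over.forget X).op ⋙ P)

lemma Ξ_map_π (P : Cᵒᵖ ⥤ AddCommGrpCat.{w}) {n m : ℕ} (θ : (⦋m⦌ : SimplexCategory) ⟶ ⦋n⦌)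
    (x : Fin (n + 1) → ι) :
    (Ξ Y P).map θ ≫ Pi.π _ x =
      Pi.π (fun x' : Fin (m + 1) → ι => P.obj (op (∏ᶜ (Y ∘ x')).left)) (x ∘ θ.toOrderHom) ≫
      P.map (Pi.lift (fun a => Pi.π (Y ∘ x) (θ.toOrderHom a)) :
        ∏ᶜ (Y ∘ x) ⟶ ∏ᶜ (Y ∘ (x ∘ θ.toOrderHom))).left.op :=
  Pi.lift_π _ _

/-! ### extra degeneracy on points -/

/-- the extra degeneracy on product points -/
noncomputable def extra {n : ℕ} {W : C} (p : A Y (Fin (n + 1)) W) : A Y (Fin (n + 2)) W :=
  toA (toB p).extra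

lemma reindex_zero_extra {n : ℕ} {W : C} (p : A Y (Fin (n + 1)) W) :
    (extra Y p).reindex (Fin.succAbove 0) = p := by
  apply toB_injective
  rw [toB_reindex, extra, toB_toA, B.reindex_zero_extra]

lemma reindex_succ_extra {n : ℕ} {W : C} (p : A Y (Fin (n + 2)) W) (i : Fin (n + 2)) :
    (extra Y p).reindex (Fin.succAbove i.succ) = extra Y (p.reindex (Fin.succAbove i)) := by
  apply toB_injective
  rw [toB_reindex, extra, toB_toA, B.reindex_succ_extra, extra, toB_toA, toB_reindex]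

lemma precomp_reindex {T T' : Type} [Finite T] [Finite T'] (θ : T' → T) {W W' : C} (k : W' ⟶ W)
    (p : A Y T W) : (p.precomp k).reindex θ = (p.reindex θ).precomp k := by
  obtain ⟨x, g⟩ := p
  dsimp [A.precomp, A.reindex]
  rw [Category.assoc]

lemma precomp_id {T : Type} [Finite T] {W : C} (p : A Y T W) : p.precomp (𝟙 W) = p := by
  obtain ⟨x, g⟩ := p
  dsimp [A.precomp]
  rw [Category.id_comp]

lemma precomp_comp {T : Type} [Finite T] {W W' W'' : C} (k : W' ⟶ W) (k' : W'' ⟶ W')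
    (p : A Y T W) : p.precomp (k' ≫ k) = (p.precomp k).precomp k' := by
  obtain ⟨x, g⟩ := p
  dsimp [A.precomp]
  rw [Category.assoc]

variable [LocallySmall.{w} C]

instance small_A (T : Type) [Finite T] (W : C) : Small.{w} (A Y T W) := by
  dsimp only [A]
  infer_instance

/-- the `w`-small type of points -/
abbrev AS (n : ℕ) (W : C) : Type w := Shrink.{w} (A Y (Fin (n + 1)) W)

/-- the free presheaf on the points of the `n`-th stage of the Čech nerve -/
noncomputable def T (n : ℕ) : Cᵒᵖ ⥤ AddCommGrpCat.{w} where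
  obj W := AddCommGrpCat.of (FreeAbelianGroup (AS Y n W.unop))
  map {W W'} k := AddCommGrpCat.ofHom (FreeAbelianGroup.map
    (fun a => equivShrink _ (((equivShrink _).symm a).precomp k.unop)))
  map_id W := by
    ext a
    simp [precomp_id]
  map_comp {W W' W''} k k' := by
    ext a
    simp [precomp_comp]

/-- the generator attached to a point -/
noncomputable def gen {n : ℕ} {W : C} (p : A Y (Fin (n + 1)) W) : FreeAbelianGroup (AS Y n W) :=
  FreeAbelianGroup.of (equivShrink _ p)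

lemma T_map_gen {n : ℕ} {W W' : C} (k : W' ⟶ W) (p : A Y (Fin (n + 1)) W) :
    ((T Y n).map k.op).hom (gen Y p) = gen Y (p.precomp k) := by
  change FreeAbelianGroup.map _ (FreeAbelianGroup.of _) = _
  rw [FreeAbelianGroup.map_of_apply, Equiv.symm_apply_apply]
  rfl

lemma addHom_ext {n : ℕ} {W : C} {M : Type*} [AddCommGroup M]
    {f g : FreeAbelianGroup (AS Y n W) →+ M}
    (h : ∀ p : A Y (Fin (n + 1)) W, f (gen Y p) = g (gen Y p)) : f = g := by
  apply FreeAbelianGroup.lift_ext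
  intro a
  obtain ⟨p, rfl⟩ := (equivShrink _).surjective a
  exact h p

lemma T_hom_ext {n : ℕ} {P : Cᵒᵖ ⥤ AddCommGrpCat.{w}} {φ ψ : T Y n ⟶ P}
    (h : ∀ (W : C) (p : A Y (Fin (n + 1)) W),
      (φ.app (op W)).hom (gen Y p) = (ψ.app (op W)).hom (gen Y p)) : φ = ψ := by
  ext W : 2
  induction W using Opposite.rec with | _ W => ?_
  apply AddCommGrpCat.hom_ext
  exact addHom_ext Y (h W)

/-- the face maps of the free presheaf complex -/
noncomputable def face {n : ℕ} (i : Fin (n + 2)) : T Y (n + 1) ⟶ T Y n where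
  app W := AddCommGrpCat.ofHom (FreeAbelianGroup.map
    (fun a => equivShrink _ (((equivShrink _).symm a).reindex (Fin.succAbove i))))
  naturality {W W'} k := by
    apply AddCommGrpCat.hom_ext
    apply addHom_ext
    intro p
    change FreeAbelianGroup.map _ (FreeAbelianGroup.map _ (FreeAbelianGroup.of _)) =
      FreeAbelianGroup.map _ (FreeAbelianGroup.map _ (FreeAbelianGroup.of _))
    simp only [FreeAbelianGroup.map_of_apply, Equiv.symm_apply_apply, precomp_reindex]

lemma face_gen {n : ℕ} (i : Fin (n + 2)) {W : C} (p : A Y (Fin (n + 2)) W) :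
    ((face Y i).app (op W)).hom (gen Y p) = gen Y (p.reindex (Fin.succAbove i)) := by
  change FreeAbelianGroup.map _ (FreeAbelianGroup.of _) = _
  rw [FreeAbelianGroup.map_of_apply, Equiv.symm_apply_apply]
  rfl

/-- the boundary of the free presheaf complex -/
noncomputable def bd (n : ℕ) : T Y (n + 1) ⟶ T Y n :=
  ∑ i : Fin (n + 2), (-1 : ℤ) ^ (i : ℕ) • face Y i

/-- evaluation of a Čech cochain at a point -/
noncomputable def E (P : Cᵒᵖ ⥤ AddCommGrpCat.{w}) {n : ℕ} {W : C} (p : A Y (Fin (n + 1)) W) :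
    (Ξ Y P).obj ⦋n⦌ ⟶ P.obj (op W) :=
  Pi.π (fun x : Fin (n + 1) → ι => P.obj (op (∏ᶜ (Y ∘ x)).left)) p.1 ≫ P.map p.2.op

omit [LocallySmall.{w} C] in
lemma E_precomp (P : Cᵒᵖ ⥤ AddCommGrpCat.{w}) {n : ℕ} {W W' : C} (k : W' ⟶ W)
    (p : A Y (Fin (n + 1)) W) : E Y P (p.precomp k) = E Y P p ≫ P.map k.op := by
  obtain ⟨x, g⟩ := p
  dsimp [E, A.precomp]
  rw [P.map_comp, Category.assoc]

omit [LocallySmall.{w} C] in
lemma δ_E (P : Cᵒᵖ ⥤ AddCommGrpCat.{w}) {n : ℕ} (i : Fin (n + 2)) {W : C}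
    (p : A Y (Fin (n + 2)) W) :
    (Ξ Y P).δ i ≫ E Y P p = E Y P (p.reindex (Fin.succAbove i)) := by
  obtain ⟨x, g⟩ := p
  have h := Ξ_map_π Y P (SimplexCategory.δ i) x
  refine (Category.assoc _ _ _).symm.trans ((congrArg (· ≫ P.map g.op) h).trans ?_)
  refine (Category.assoc _ _ _).trans ?_
  dsimp only [E, A.reindex]
  congr 1
  rw [← P.map_comp]
  rfl

/-- the morphism of presheaves attached to a Čech cochain -/
noncomputable def toHom (P : Cᵒᵖ ⥤ AddCommGrpCat.{w}) {n : ℕ} (c : (Ξ Y P).obj ⦋n⦌) :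
    T Y n ⟶ P where
  app W := AddCommGrpCat.ofHom (FreeAbelianGroup.lift
    (fun a => (E Y P ((equivShrink _).symm a)).hom c))
  naturality {W W'} k := by
    apply AddCommGrpCat.hom_ext
    apply addHom_ext
    intro p
    change FreeAbelianGroup.lift _ (FreeAbelianGroup.map _ (FreeAbelianGroup.of _)) =
      (P.map k).hom (FreeAbelianGroup.lift _ (FreeAbelianGroup.of _))
    simp only [FreeAbelianGroup.map_of_apply, FreeAbelianGroup.lift_apply_of,
      Equiv.symm_apply_apply]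
    have := E_precomp Y P k.unop p
    rw [this]
    rfl

lemma toHom_gen (P : Cᵒᵖ ⥤ AddCommGrpCat.{w}) {n : ℕ} (c : (Ξ Y P).obj ⦋n⦌) {W : C}
    (p : A Y (Fin (n + 1)) W) :
    ((toHom Y P c).app (op W)).hom (gen Y p) = (E Y P p).hom c := by
  change FreeAbelianGroup.lift _ (FreeAbelianGroup.of _) = _
  rw [FreeAbelianGroup.lift_apply_of, Equiv.symm_apply_apply]

omit [LocallySmall.{w} C] in
lemma hom_sum_apply {M N : AddCommGrpCat.{w}} {κ : Type*} (s : Finset κ) (f : κ → (M ⟶ N))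
    (x : M) : (∑ i ∈ s, f i).hom x = ∑ i ∈ s, (f i).hom x := by
  have : (∑ i ∈ s, f i).hom = ∑ i ∈ s, (f i).hom := map_sum AddCommGrpCat.homAddEquiv f s
  rw [this, AddMonoidHom.finsetSum_apply]

lemma bd_gen {n : ℕ} {W : C} (p : A Y (Fin (n + 2)) W) :
    ((bd Y n).app (op W)).hom (gen Y p) =
      ∑ i : Fin (n + 2), (-1 : ℤ) ^ (i : ℕ) • gen Y (p.reindex (Fin.succAbove i)) := by
  dsimp only [bd]
  rw [NatTrans.app_sum, hom_sum_apply]
  refine Finset.sum_congr rfl (fun i _ => ?_)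
  rw [NatTrans.app_zsmul, AddCommGrpCat.hom_zsmul, AddMonoidHom.smul_apply, face_gen]
  rfl

/-- the boundary, pointwise, as an additive map of free abelian groups -/
noncomputable def bdW (n : ℕ) (W : C) :
    FreeAbelianGroup (AS Y (n + 1) W) →+ FreeAbelianGroup (AS Y n W) :=
  ((bd Y n).app (op W)).hom

lemma bdW_gen {n : ℕ} {W : C} (p : A Y (Fin (n + 2)) W) :
    bdW Y n W (gen Y p) =
      ∑ i : Fin (n + 2), (-1 : ℤ) ^ (i : ℕ) • gen Y (p.reindex (Fin.succAbove i)) :=
  bd_gen Y p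

/-- `toHom`, pointwise, as an additive map out of a free abelian group -/
noncomputable def toHomW (P : Cᵒᵖ ⥤ AddCommGrpCat.{w}) {n : ℕ} (c : (Ξ Y P).obj ⦋n⦌) (W : C) :
    FreeAbelianGroup (AS Y n W) →+ P.obj (op W) :=
  ((toHom Y P c).app (op W)).hom

lemma toHomW_gen (P : Cᵒᵖ ⥤ AddCommGrpCat.{w}) {n : ℕ} (c : (Ξ Y P).obj ⦋n⦌) {W : C}
    (p : A Y (Fin (n + 1)) W) : toHomW Y P c W (gen Y p) = (E Y P p).hom c :=
  toHom_gen Y P c p

lemma toHom_objD (P : Cᵒᵖ ⥤ AddCommGrpCat.{w}) {n : ℕ} (c : (Ξ Y P).obj ⦋n⦌) :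
    toHom Y P ((AlgebraicTopology.AlternatingCofaceMapComplex.objD (Ξ Y P) n).hom c) =
      bd Y n ≫ toHom Y P c := by
  apply T_hom_ext
  intro W p
  rw [toHom_gen]
  have h1 : AlgebraicTopology.AlternatingCofaceMapComplex.objD (Ξ Y P) n ≫ E Y P p =
      ∑ i : Fin (n + 2), (-1 : ℤ) ^ (i : ℕ) • E Y P (p.reindex (Fin.succAbove i)) := by
    dsimp only [AlgebraicTopology.AlternatingCofaceMapComplex.objD]
    rw [Preadditive.sum_comp]
    refine Finset.sum_congr rfl (fun i _ => ?_)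
    rw [Preadditive.zsmul_comp, δ_E]
  calc (E Y P p).hom ((AlgebraicTopology.AlternatingCofaceMapComplex.objD (Ξ Y P) n).hom c)
      = (AlgebraicTopology.AlternatingCofaceMapComplex.objD (Ξ Y P) n ≫ E Y P p).hom c := rfl
    _ = ∑ i : Fin (n + 2), (-1 : ℤ) ^ (i : ℕ) • (E Y P (p.reindex (Fin.succAbove i))).hom c := by
        rw [h1, hom_sum_apply]
        rfl
    _ = toHomW Y P c W (bdW Y n W (gen Y p)) := by
        rw [bdW_gen, map_sum]
        refine Finset.sum_congr rfl (fun i _ => ?_)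
        rw [map_zsmul, toHomW_gen]
    _ = _ := rfl

/-- the Čech cochain attached to a morphism of presheaves -/
noncomputable def ev (P : Cᵒᵖ ⥤ AddCommGrpCat.{w}) {n : ℕ} (φ : T Y n ⟶ P) : (Ξ Y P).obj ⦋n⦌ :=
  (Concrete.productEquiv (fun x : Fin (n + 1) → ι => P.obj (op (∏ᶜ (Y ∘ x)).left))).symm
    (fun x => (φ.app (op (∏ᶜ (Y ∘ x)).left)).hom (gen Y ⟨x, 𝟙 _⟩))

lemma E_ev (P : Cᵒᵖ ⥤ AddCommGrpCat.{w}) {n : ℕ} (φ : T Y n ⟶ P) {W : C}
    (p : A Y (Fin (n + 1)) W) :
    (E Y P p).hom (ev Y P φ) = (φ.app (op W)).hom (gen Y p) := by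
  obtain ⟨x, g⟩ := p
  change (P.map g.op).hom ((Pi.π (fun x : Fin (n + 1) → ι => P.obj (op (∏ᶜ (Y ∘ x)).left)) x).hom
    (ev Y P φ)) = _
  rw [ev, Concrete.productEquiv_symm_apply_π]
  have := ConcreteCategory.congr_hom (φ.naturality g.op) (gen Y ⟨x, 𝟙 _⟩)
  change (φ.app (op W)).hom (((T Y n).map g.op).hom (gen Y ⟨x, 𝟙 _⟩)) = _ at this
  rw [T_map_gen] at this
  refine Eq.trans ?_ (this.symm.trans ?_)
  · rfl
  · dsimp [A.precomp]
    rw [Category.comp_id]

lemma toHom_ev (P : Cᵒᵖ ⥤ AddCommGrpCat.{w}) {n : ℕ} (φ : T Y n ⟶ P) :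
    toHom Y P (ev Y P φ) = φ :=
  T_hom_ext Y (fun W p => by rw [toHom_gen, E_ev])

lemma toHom_injective (P : Cᵒᵖ ⥤ AddCommGrpCat.{w}) {n : ℕ} :
    Function.Injective (toHom Y P (n := n)) := by
  intro c c' h
  apply (Concrete.productEquiv
    (fun x : Fin (n + 1) → ι => P.obj (op (∏ᶜ (Y ∘ x)).left))).injective
  funext x
  rw [Concrete.productEquiv_apply_apply, Concrete.productEquiv_apply_apply]
  have h1 := toHom_gen Y P c (⟨x, 𝟙 _⟩ : A Y (Fin (n + 1)) (∏ᶜ (Y ∘ x)).left)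
  have h2 := toHom_gen Y P c' (⟨x, 𝟙 _⟩ : A Y (Fin (n + 1)) (∏ᶜ (Y ∘ x)).left)
  rw [h] at h1
  have h3 := h1.symm.trans h2
  dsimp only [E] at h3
  rw [op_id, P.map_id, Category.comp_id] at h3
  exact h3

lemma toHom_zero (P : Cᵒᵖ ⥤ AddCommGrpCat.{w}) {n : ℕ} :
    toHom Y P (0 : (Ξ Y P).obj ⦋n⦌) = 0 := by
  apply T_hom_ext
  intro W p
  rw [toHom_gen, map_zero]
  rfl

/-! ### the contraction -/

/-- the contracting homotopy, pointwise -/
noncomputable def s (n : ℕ) (W : C) :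
    FreeAbelianGroup (AS Y n W) →+ FreeAbelianGroup (AS Y (n + 1) W) :=
  FreeAbelianGroup.map (fun a => equivShrink _ (extra Y ((equivShrink _).symm a)))

lemma s_gen {n : ℕ} {W : C} (p : A Y (Fin (n + 1)) W) :
    s Y n W (gen Y p) = gen Y (extra Y p) := by
  change FreeAbelianGroup.map _ (FreeAbelianGroup.of _) = _
  rw [FreeAbelianGroup.map_of_apply, Equiv.symm_apply_apply]
  rfl

lemma homotopy (n : ℕ) (W : C) (z : FreeAbelianGroup (AS Y (n + 1) W)) :
    bdW Y (n + 1) W (s Y (n + 1) W z) + s Y n W (bdW Y n W z) = z := by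
  have key : ((bdW Y (n + 1) W).comp (s Y (n + 1) W) + (s Y n W).comp (bdW Y n W)) =
      AddMonoidHom.id _ := by
    apply addHom_ext
    intro p
    rw [AddMonoidHom.add_apply, AddMonoidHom.comp_apply, AddMonoidHom.comp_apply, s_gen, bdW_gen,
      bdW_gen, map_sum, Fin.sum_univ_succ, AddMonoidHom.id_apply, Fin.val_zero, pow_zero, one_smul,
      reindex_zero_extra, add_assoc]
    have : ∀ i : Fin (n + 2), (-1 : ℤ) ^ ((i.succ : Fin (n + 3)) : ℕ) •
        gen Y ((extra Y p).reindex (Fin.succAbove i.succ)) +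
        (s Y n W) ((-1 : ℤ) ^ (i : ℕ) • gen Y (p.reindex (Fin.succAbove i))) = 0 := fun i => by
      rw [map_zsmul, s_gen, reindex_succ_extra, Fin.val_succ, pow_succ, mul_neg, mul_one, neg_smul,
        neg_add_cancel]
    rw [← Finset.sum_add_distrib, Finset.sum_congr rfl (fun i _ => this i), Finset.sum_const_zero,
      add_zero]
  exact DFunLike.congr_fun key z

/-- the lifting property giving the coboundary -/
theorem exists_factor (I : Cᵒᵖ ⥤ AddCommGrpCat.{w}) [Injective I] {n : ℕ}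
    (φ : T Y (n + 1) ⟶ I) (h : bd Y (n + 1) ≫ φ = 0) :
    ∃ ψ : T Y n ⟶ I, bd Y n ≫ ψ = φ := by
  have hk : kernel.ι (bd Y n) ≫ φ = 0 := by
    ext W : 2
    induction W using Opposite.rec with | _ W => ?_
    apply AddCommGrpCat.hom_ext
    ext z
    have hz' : ((bd Y n).app (op W)).hom (((kernel.ι (bd Y n)).app (op W)).hom z) = 0 :=
      ConcreteCategory.congr_hom (NatTrans.congr_app (kernel.condition (bd Y n)) (op W)) z
    have hh := homotopy Y n W (((kernel.ι (bd Y n)).app (op W)).hom z)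
    have hz'' : bdW Y n W (((kernel.ι (bd Y n)).app (op W)).hom z) = 0 := hz'
    rw [hz'', map_zero, add_zero] at hh
    change (φ.app (op W)).hom (((kernel.ι (bd Y n)).app (op W)).hom z) = 0
    rw [← hh]
    exact ConcreteCategory.congr_hom (NatTrans.congr_app h (op W)) _
  refine ⟨Injective.factorThru (cokernel.desc _ φ hk) (Abelian.factorThruCoimage (bd Y n)), ?_⟩
  calc bd Y n ≫ Injective.factorThru (cokernel.desc _ φ hk) (Abelian.factorThruCoimage (bd Y n))
      = (Abelian.coimage.π (bd Y n) ≫ Abelian.factorThruCoimage (bd Y n)) ≫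
          Injective.factorThru (cokernel.desc _ φ hk) (Abelian.factorThruCoimage (bd Y n)) := by
        rw [Abelian.coimage.fac]
    _ = Abelian.coimage.π (bd Y n) ≫ cokernel.desc _ φ hk := by
        rw [Category.assoc, Injective.comp_factorThru]
    _ = φ := cokernel.π_desc _ _ _

/-- **Čech cohomology of an injective presheaf vanishes in positive degrees** (for any family of
objects over `X`, in a locally `w`-small category). -/
theorem isZero_homology_of_injective (I : Cᵒᵖ ⥤ AddCommGrpCat.{w}) [Injective I] (n : ℕ) :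
    IsZero (((cechComplexFunctor Y).obj ((Over.forget X).op ⋙ I)).homology (n + 1)) := by
  change IsZero (((AlgebraicTopology.alternatingCofaceMapComplex AddCommGrpCat.{w}).obj
    (Ξ Y I)).homology (n + 1))
  rw [← HomologicalComplex.exactAt_iff_isZero_homology,
    HomologicalComplex.exactAt_iff' _ n (n + 1) (n + 2) (by simp) (by simp),
    ShortComplex.ab_exact_iff]
  intro x hx
  have hd1 : ((AlgebraicTopology.alternatingCofaceMapComplex AddCommGrpCat.{w}).obj (Ξ Y I)).d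
      (n + 1) (n + 2) = AlgebraicTopology.AlternatingCofaceMapComplex.objD (Ξ Y I) (n + 1) :=
    CochainComplex.of_d (fun n => (Ξ Y I).obj ⦋n⦌)
      (AlgebraicTopology.AlternatingCofaceMapComplex.objD (Ξ Y I)) (n + 1)
  have hd0 : ((AlgebraicTopology.alternatingCofaceMapComplex AddCommGrpCat.{w}).obj (Ξ Y I)).d
      n (n + 1) = AlgebraicTopology.AlternatingCofaceMapComplex.objD (Ξ Y I) n :=
    CochainComplex.of_d (fun n => (Ξ Y I).obj ⦋n⦌)
      (AlgebraicTopology.AlternatingCofaceMapComplex.objD (Ξ Y I)) n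
  have hx' : (AlgebraicTopology.AlternatingCofaceMapComplex.objD (Ξ Y I) (n + 1)).hom x = 0 := by
    rw [← hd1]; exact hx
  have h : bd Y (n + 1) ≫ toHom Y I x = 0 := by
    rw [← toHom_objD, hx', toHom_zero]
  obtain ⟨ψ, hψ⟩ := exists_factor Y I (toHom Y I x) h
  refine ⟨ev Y I ψ, ?_⟩
  change (((AlgebraicTopology.alternatingCofaceMapComplex AddCommGrpCat.{w}).obj (Ξ Y I)).d
      n (n + 1)).hom (ev Y I ψ) = x
  rw [hd0]
  apply toHom_injective Y I
  exact (toHom_objD Y I (ev Y I ψ)).trans (by rw [toHom_ev, hψ])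

end Groth.Agent.H60.CechFree
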