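import Mathlib

/-!
# Čech complexes and finite-product-preserving functors

(Variant of `CechPost` only assuming preservation of NONEMPTY finite products.)
For `Φ : A ⥤ B` preserving products indexed by `Fin (n+1)`, a family `Uf : κ → A` and a presheaf `Q` on `B`,
the Čech complex of `Φ.op ⋙ Q` with respect to `Uf` is isomorphic to the Čech complex of `Q` with
respect to `Φ.obj ∘ Uf`.  (helper60)
-/

set_option autoImplicit false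
universe w v₁ v₂ u₁ u₂
open CategoryTheory Limits Opposite Simplicial

namespace Groth.Agent.H60.CechPost2

variable {A : Type u₁} [Category.{v₁} A] {B : Type u₂} [Category.{v₂} B]
  [HasFiniteProducts A] [HasFiniteProducts B] (Φ : A ⥤ B)
  [hΦ : ∀ n : ℕ, PreservesLimitsOfShape (Discrete (Fin (n + 1))) Φ]
  {κ : Type w} (Uf : κ → A) (Q : Bᵒᵖ ⥤ AddCommGrpCat.{w})

/-- the Čech cosimplicial abelian group of a presheaf -/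
noncomputable abbrev Ξ {A : Type u₁} [Category.{v₁} A] [HasFiniteProducts A] {κ : Type w}
    (Uf : κ → A) (P : Aᵒᵖ ⥤ AddCommGrpCat.{w}) : CosimplicialObject AddCommGrpCat.{w} :=
  (FormalCoproduct.cosimplicialObjectFunctor (FormalCoproduct.mk _ Uf).cech).obj P

lemma Ξ_map_π {A : Type u₁} [Category.{v₁} A] [HasFiniteProducts A] {κ : Type w}
    (Uf : κ → A) (P : Aᵒᵖ ⥤ AddCommGrpCat.{w}) {n m : ℕ} (θ : (⦋m⦌ : SimplexCategory) ⟶ ⦋n⦌)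
    (x : Fin (n + 1) → κ) :
    (Ξ Uf P).map θ ≫ Pi.π _ x =
      Pi.π (fun x' : Fin (m + 1) → κ => P.obj (op (∏ᶜ (Uf ∘ x')))) (x ∘ θ.toOrderHom) ≫
      P.map (Pi.lift (fun a => Pi.π (Uf ∘ x) (θ.toOrderHom a)) :
        ∏ᶜ (Uf ∘ x) ⟶ ∏ᶜ (Uf ∘ (x ∘ θ.toOrderHom))).op :=
  Pi.lift_π _ _

instance (n : ℕ) (x : Fin (n + 1) → κ) : PreservesLimit (Discrete.functor (Uf ∘ x)) Φ := by
  have : PreservesLimitsOfShape (Discrete (Fin (n + 1))) Φ := hΦ n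
  infer_instance

/-- the comparison on `n`-cochains, as an isomorphism -/
noncomputable def τIso (n : ℕ) : (Ξ (Φ.obj ∘ Uf) Q).obj ⦋n⦌ ≅ (Ξ Uf (Φ.op ⋙ Q)).obj ⦋n⦌ :=
  Limits.Pi.mapIso (fun x : Fin (n + 1) → κ => Q.mapIso (PreservesProduct.iso Φ (Uf ∘ x)).op)

/-- the comparison on `n`-cochains -/
noncomputable def τ (n : ℕ) : (Ξ (Φ.obj ∘ Uf) Q).obj ⦋n⦌ ⟶ (Ξ Uf (Φ.op ⋙ Q)).obj ⦋n⦌ :=
  (τIso Φ Uf Q n).hom

lemma τ_π (n : ℕ) (x : Fin (n + 1) → κ) :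
    τ Φ Uf Q n ≫ Pi.π _ x =
      Pi.π (fun x' : Fin (n + 1) → κ => Q.obj (op (∏ᶜ ((Φ.obj ∘ Uf) ∘ x')))) x ≫
        Q.map (piComparison Φ (Uf ∘ x)).op := by
  change Limits.Pi.map (fun x : Fin (n + 1) → κ => Q.map (piComparison Φ (Uf ∘ x)).op) ≫ _ = _
  exact Limits.Pi.map_π _ _

omit hΦ in
lemma comparison_comm {n m : ℕ} (θ : (⦋m⦌ : SimplexCategory) ⟶ ⦋n⦌) (x : Fin (n + 1) → κ) :
    piComparison Φ (Uf ∘ x) ≫ (Pi.lift (fun a => Pi.π ((Φ.obj ∘ Uf) ∘ x) (θ.toOrderHom a)) :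
        ∏ᶜ ((Φ.obj ∘ Uf) ∘ x) ⟶ ∏ᶜ ((Φ.obj ∘ Uf) ∘ (x ∘ θ.toOrderHom))) =
      Φ.map (Pi.lift (fun a => Pi.π (Uf ∘ x) (θ.toOrderHom a)) :
        ∏ᶜ (Uf ∘ x) ⟶ ∏ᶜ (Uf ∘ (x ∘ θ.toOrderHom))) ≫ piComparison Φ (Uf ∘ (x ∘ θ.toOrderHom)) := by
  apply Pi.hom_ext
  intro a
  rw [Category.assoc, Category.assoc, Pi.lift_π]
  erw [piComparison_comp_π, piComparison_comp_π]
  rw [← Φ.map_comp, Pi.lift_π]

omit hΦ in
lemma key {n m : ℕ} (θ : (⦋m⦌ : SimplexCategory) ⟶ ⦋n⦌) (x : Fin (n + 1) → κ) :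
    (Pi.π (fun x' : Fin (m + 1) → κ => Q.obj (op (∏ᶜ ((Φ.obj ∘ Uf) ∘ x')))) (x ∘ θ.toOrderHom) ≫
        Q.map (Pi.lift (fun a => Pi.π ((Φ.obj ∘ Uf) ∘ x) (θ.toOrderHom a)) :
          ∏ᶜ ((Φ.obj ∘ Uf) ∘ x) ⟶ ∏ᶜ ((Φ.obj ∘ Uf) ∘ (x ∘ θ.toOrderHom))).op) ≫
      Q.map (piComparison Φ (Uf ∘ x)).op =
    (Pi.π (fun x' : Fin (m + 1) → κ => Q.obj (op (∏ᶜ ((Φ.obj ∘ Uf) ∘ x')))) (x ∘ θ.toOrderHom) ≫
        Q.map (piComparison Φ (Uf ∘ (x ∘ θ.toOrderHom))).op) ≫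
      Q.map (Φ.map (Pi.lift (fun a => Pi.π (Uf ∘ x) (θ.toOrderHom a)) :
        ∏ᶜ (Uf ∘ x) ⟶ ∏ᶜ (Uf ∘ (x ∘ θ.toOrderHom)))).op := by
  rw [Category.assoc, Category.assoc, ← Q.map_comp, ← Q.map_comp, ← op_comp, ← op_comp,
    comparison_comm Φ Uf θ x]

lemma τ_naturality {n m : ℕ} (θ : (⦋m⦌ : SimplexCategory) ⟶ ⦋n⦌) :
    (Ξ (Φ.obj ∘ Uf) Q).map θ ≫ τ Φ Uf Q n = τ Φ Uf Q m ≫ (Ξ Uf (Φ.op ⋙ Q)).map θ := by
  apply Pi.hom_ext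
  intro x
  have h1 := Ξ_map_π (Φ.obj ∘ Uf) Q θ x
  have h2 := Ξ_map_π Uf (Φ.op ⋙ Q) θ x
  have h3 := τ_π Φ Uf Q n x
  have h4 := τ_π Φ Uf Q m (x ∘ θ.toOrderHom)
  refine (Category.assoc _ _ _).trans ?_
  refine (congrArg (fun t => (Ξ (Φ.obj ∘ Uf) Q).map θ ≫ t) h3).trans ?_
  refine (Category.assoc _ _ _).symm.trans ?_
  refine (congrArg (fun t => t ≫ Q.map (piComparison Φ (Uf ∘ x)).op) h1).trans ?_
  refine Eq.trans ?_ (Category.assoc _ _ _).symm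
  refine Eq.trans ?_ (congrArg (fun t => τ Φ Uf Q m ≫ t) h2).symm
  refine Eq.trans ?_ (Category.assoc _ _ _)
  refine Eq.trans ?_ (congrArg (fun t => t ≫ (Φ.op ⋙ Q).map (Pi.lift (fun a => Pi.π (Uf ∘ x) (θ.toOrderHom a)) :
        ∏ᶜ (Uf ∘ x) ⟶ ∏ᶜ (Uf ∘ (x ∘ θ.toOrderHom))).op) h4).symm
  exact key Φ Uf Q θ x

/-- the isomorphism of Čech cosimplicial groups -/
noncomputable def ΞIso : Ξ (Φ.obj ∘ Uf) Q ≅ Ξ Uf (Φ.op ⋙ Q) :=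
  NatIso.ofComponents (fun n => by
    induction n using SimplexCategory.rec with | _ n => exact τIso Φ Uf Q n)
    (by
      intro n m θ
      induction n using SimplexCategory.rec with | _ n =>
      induction m using SimplexCategory.rec with | _ m =>
      exact τ_naturality Φ Uf Q θ)

/-- the isomorphism of Čech complexes -/
noncomputable def cechComplexIso :
    (cechComplexFunctor (Φ.obj ∘ Uf)).obj Q ≅ (cechComplexFunctor Uf).obj (Φ.op ⋙ Q) :=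
  (AlgebraicTopology.alternatingCofaceMapComplex AddCommGrpCat.{w}).mapIso (ΞIso Φ Uf Q)

lemma isZero_homology_iff (p : ℕ) :
    IsZero (((cechComplexFunctor Uf).obj (Φ.op ⋙ Q)).homology p) ↔
      IsZero (((cechComplexFunctor (Φ.obj ∘ Uf)).obj Q).homology p) :=
  Iso.isZero_iff ((HomologicalComplex.homologyFunctor _ _ p).mapIso (cechComplexIso Φ Uf Q)).symm

end Groth.Agent.H60.CechPost2
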