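import Mathlib
import Groth.Prelude.Def_SGA4a

set_option autoImplicit false
open CategoryTheory CategoryTheory.Limits Opposite
universe u

namespace Groth.Agent.H60.Closed

variable {C : Type u} [SmallCategory C]

section T
variable (V : Cᵒᵖ ⥤ Type u)

/-- `T P (W) := IsEmpty (V W) → P W` -/
def Tobj (P : Cᵒᵖ ⥤ Type u) : Cᵒᵖ ⥤ Type u where
  obj W := IsEmpty (V.obj W) → P.obj W
  map {W W'} g := ↾fun f h' => P.map g (f ⟨fun x => h'.false (V.map g x)⟩)
  map_id W := by
    refine ConcreteCategory.hom_ext _ _ (fun f => ?_)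
    funext h'
    simp
  map_comp g g' := by
    refine ConcreteCategory.hom_ext _ _ (fun f => ?_)
    funext h'
    simp

def Tmap {P Q : Cᵒᵖ ⥤ Type u} (α : P ⟶ Q) : Tobj V P ⟶ Tobj V Q where
  app W := ↾fun f h => α.app W (f h)
  naturality W W' g := by
    refine ConcreteCategory.hom_ext _ _ (fun f => ?_)
    funext h'
    exact ConcreteCategory.congr_hom (α.naturality g) _

/-- the functor `T` -/
def T : (Cᵒᵖ ⥤ Type u) ⥤ (Cᵒᵖ ⥤ Type u) where
  obj P := Tobj V P
  map α := Tmap V α
  map_id P := by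
    ext W f
    rfl
  map_comp α β := by
    ext W f
    rfl

def ν : 𝟭 (Cᵒᵖ ⥤ Type u) ⟶ T V where
  app P := { app := fun W => ↾fun x _ => x
             naturality := fun W W' g => by
               refine ConcreteCategory.hom_ext _ _ (fun f => ?_)
               rfl }
  naturality P Q α := by
    ext W f
    rfl

@[simp] lemma T_obj_obj (P : Cᵒᵖ ⥤ Type u) (W : Cᵒᵖ) :
    ((T V).obj P).obj W = (IsEmpty (V.obj W) → P.obj W) := rfl

lemma T_obj_map_apply (P : Cᵒᵖ ⥤ Type u) {W W' : Cᵒᵖ} (g : W ⟶ W')
    (f : ((T V).obj P).obj W) (h' : IsEmpty (V.obj W')) :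
    (((T V).obj P).map g f : IsEmpty (V.obj W') → P.obj W') h' =
      P.map g (f ⟨fun x => h'.false (V.map g x)⟩) := rfl

lemma T_map_app_apply {P Q : Cᵒᵖ ⥤ Type u} (α : P ⟶ Q) (W : Cᵒᵖ)
    (f : ((T V).obj P).obj W) (h : IsEmpty (V.obj W)) :
    ((((T V).map α).app W f : ((T V).obj Q).obj W) : IsEmpty (V.obj W) → Q.obj W) h =
      α.app W (f h) := rfl

lemma ν_app_app_apply (P : Cᵒᵖ ⥤ Type u) (W : Cᵒᵖ) (x : P.obj W) (h : IsEmpty (V.obj W)) :
    ((((ν V).app P).app W x : ((T V).obj P).obj W) : IsEmpty (V.obj W) → P.obj W) h = x := rfl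

/-- `P` is trivial on the objects where `V` has a section. -/
def Triv (P : Cᵒᵖ ⥤ Type u) : Prop := ∀ W, Nonempty (V.obj W) → Nonempty (Unique (P.obj W))

lemma triv_T (P : Cᵒᵖ ⥤ Type u) : Triv V ((T V).obj P) := by
  intro W ⟨v⟩
  exact ⟨{ default := fun h => (h.false v).elim
           uniq := fun f => by funext h; exact (h.false v).elim }⟩

lemma ν_app_bijective_of_triv {Q : Cᵒᵖ ⥤ Type u} (hQ : Triv V Q) (W : Cᵒᵖ) :
    Function.Bijective (((ν V).app Q).app W) := by
  by_cases hW : Nonempty (V.obj W)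
  · obtain ⟨hu⟩ := hQ W hW
    obtain ⟨hu'⟩ := triv_T V Q W hW
    constructor
    · intro a b _
      exact (hu.uniq a).trans (hu.uniq b).symm
    · intro b
      exact ⟨hu.default, (hu'.uniq _).trans (hu'.uniq b).symm⟩
  · have hW' : IsEmpty (V.obj W) := not_nonempty_iff.1 hW
    constructor
    · intro a b hab
      have := congrFun hab hW'
      exact this
    · intro f
      refine ⟨f hW', ?_⟩
      funext h
      rfl

lemma isIso_ν_of_triv {Q : Cᵒᵖ ⥤ Type u} (hQ : Triv V Q) : IsIso ((ν V).app Q) := by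
  have : ∀ W, IsIso (((ν V).app Q).app W) := fun W =>
    (isIso_iff_bijective _).2 (ν_app_bijective_of_triv V hQ W)
  exact NatIso.isIso_of_isIso_app _

lemma hom_bijective_of_triv (P : Cᵒᵖ ⥤ Type u) {Q : Cᵒᵖ ⥤ Type u} (hQ : Triv V Q) :
    Function.Bijective (fun f : (T V).obj P ⟶ Q => (ν V).app P ≫ f) := by
  have := isIso_ν_of_triv V hQ
  constructor
  · intro f g hfg
    ext W x
    by_cases hW : Nonempty (V.obj W)
    · obtain ⟨hu⟩ := hQ W hW
      exact (hu.uniq _).trans (hu.uniq _).symm
    · have hW' : IsEmpty (V.obj W) := not_nonempty_iff.1 hW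
      have hx : x = ((ν V).app P).app W (x hW') := by
        funext h
        rfl
      rw [hx]
      exact ConcreteCategory.congr_hom (NatTrans.congr_app hfg W) (x hW')
  · intro g
    refine ⟨(T V).map g ≫ inv ((ν V).app Q), ?_⟩
    show (ν V).app P ≫ (T V).map g ≫ inv ((ν V).app Q) = g
    have h1 : (ν V).app P ≫ (T V).map g = g ≫ (ν V).app Q := ((ν V).naturality g).symm
    rw [← Category.assoc, h1, Category.assoc, IsIso.hom_inv_id, Category.comp_id]

/-- evaluation of `T` is a corepresentable functor after evaluation -/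
def TEvalIso (W : Cᵒᵖ) :
    T V ⋙ (evaluation Cᵒᵖ (Type u)).obj W ≅
      (evaluation Cᵒᵖ (Type u)).obj W ⋙
        coyoneda.obj (op (ULift.{u} (PLift (IsEmpty (V.obj W))))) :=
  NatIso.ofComponents (fun P =>
    { hom := ↾fun (f : IsEmpty (V.obj W) → P.obj W) =>
        (↾fun (a : ULift.{u} (PLift (IsEmpty (V.obj W)))) => f a.down.down :
          ULift.{u} (PLift (IsEmpty (V.obj W))) ⟶ P.obj W)
      inv := ↾fun (φ : ULift.{u} (PLift (IsEmpty (V.obj W))) ⟶ P.obj W) =>
        (fun h => φ ⟨⟨h⟩⟩ : IsEmpty (V.obj W) → P.obj W)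
      hom_inv_id := by
        refine ConcreteCategory.hom_ext _ _ (fun f => ?_)
        rfl
      inv_hom_id := by
        refine ConcreteCategory.hom_ext _ _ (fun φ => ?_)
        refine ConcreteCategory.hom_ext _ _ (fun a => ?_)
        rfl })
    (by
      intro P Q α
      refine ConcreteCategory.hom_ext _ _ (fun f => ?_)
      refine ConcreteCategory.hom_ext _ _ (fun a => ?_)
      rfl)

instance T_preservesLimits : PreservesLimitsOfSize.{u, u} (T V) :=
  preservesLimits_of_evaluation _ fun W =>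
    preservesLimits_of_natIso (TEvalIso V W).symm

instance T_preservesFiniteLimits : PreservesFiniteLimits (T V) :=
  PreservesLimitsOfSize.preservesFiniteLimits.{u, u} (T V)

end T

section Prod

lemma isIso_map_fst_iff {D E : Type*} [Category D] [Category E] (F : D ⥤ E)
    [HasBinaryProducts D] [HasBinaryProducts E] (A B : D) [PreservesLimit (pair A B) F] :
    IsIso (F.map (prod.fst : A ⨯ B ⟶ A)) ↔ IsIso (prod.fst : F.obj A ⨯ F.obj B ⟶ F.obj A) := by
  rw [← prodComparison_fst]
  constructor
  · intro h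
    exact IsIso.of_isIso_comp_left (prodComparison F A B) _
  · intro h
    infer_instance

lemma isIso_fst_of_iso {D : Type*} [Category D] [HasBinaryProducts D] {A A' : D} (e : A ≅ A')
    (B : D) (h : IsIso (prod.fst : A ⨯ B ⟶ A)) : IsIso (prod.fst : A' ⨯ B ⟶ A') := by
  have : (prod.fst : A' ⨯ B ⟶ A') = prod.map e.inv (𝟙 B) ≫ (prod.fst : A ⨯ B ⟶ A) ≫ e.hom := by
    rw [← Category.assoc, prod.map_fst, Category.assoc, e.inv_hom_id, Category.comp_id]
  rw [this]
  infer_instance

lemma triv_iff (V P : Cᵒᵖ ⥤ Type u) :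
    IsIso (prod.fst : V ⨯ P ⟶ V) ↔ Triv V P := by
  have h1 : (prod.fst : V ⨯ P ⟶ V) =
      (FunctorToTypes.binaryProductIso V P).hom ≫ FunctorToTypes.prod.fst := rfl
  rw [h1]
  constructor
  · intro h
    have h2 : IsIso (FunctorToTypes.prod.fst : FunctorToTypes.prod V P ⟶ V) :=
      IsIso.of_isIso_comp_left (FunctorToTypes.binaryProductIso V P).hom _
    intro W ⟨v⟩
    have h3 : IsIso ((FunctorToTypes.prod.fst : FunctorToTypes.prod V P ⟶ V).app W) :=
      inferInstance
    rw [isIso_iff_bijective] at h3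
    obtain ⟨⟨v', p⟩, -⟩ := h3.2 v
    refine ⟨{ default := p, uniq := fun q => ?_ }⟩
    have : ((v, q) : V.obj W × P.obj W) = (v, p) := h3.1 rfl
    exact (Prod.ext_iff.1 this).2
  · intro h
    have : ∀ W, IsIso ((FunctorToTypes.prod.fst : FunctorToTypes.prod V P ⟶ V).app W) := by
      intro W
      rw [isIso_iff_bijective]
      constructor
      · rintro ⟨v, p⟩ ⟨v', p'⟩ (hvv : v = v')
        subst hvv
        obtain ⟨hu⟩ := h W ⟨v⟩
        exact Prod.ext rfl ((hu.uniq p).trans (hu.uniq p').symm)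
      · intro v
        obtain ⟨hu⟩ := h W ⟨v⟩
        exact ⟨(v, hu.default), rfl⟩
    have : IsIso (FunctorToTypes.prod.fst : FunctorToTypes.prod V P ⟶ V) :=
      NatIso.isIso_of_isIso_app _
    infer_instance

end Prod

section Sheaf

variable (J : GrothendieckTopology C) (U : Sheaf J (Type u))

lemma closedCompl_iff (X : Sheaf J (Type u)) :
    SGA4.closedCompl U X ↔ Triv U.obj X.obj := by
  unfold SGA4.closedCompl
  rw [← isIso_iff_of_reflects_iso _ (sheafToPresheaf J (Type u)), isIso_map_fst_iff]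
  exact triv_iff U.obj X.obj

lemma closedCompl_sheafify {P : Cᵒᵖ ⥤ Type u} (hP : Triv U.obj P) :
    SGA4.closedCompl U ((presheafToSheaf J (Type u)).obj P) := by
  unfold SGA4.closedCompl
  have h1 : IsIso (prod.fst : U.obj ⨯ P ⟶ U.obj) := (triv_iff U.obj P).2 hP
  have h2 : IsIso ((presheafToSheaf J (Type u)).map (prod.fst : U.obj ⨯ P ⟶ U.obj)) :=
    inferInstance
  rw [isIso_map_fst_iff] at h2
  exact isIso_fst_of_iso (asIso ((sheafificationAdjunction J (Type u)).counit.app U)) _ h2

/-- `L₀ = a ∘ T ∘ i` -/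
noncomputable def L₀ : Sheaf J (Type u) ⥤ Sheaf J (Type u) :=
  sheafToPresheaf J (Type u) ⋙ T U.obj ⋙ presheafToSheaf J (Type u)

lemma L₀_mem (X : Sheaf J (Type u)) : SGA4.closedCompl U ((L₀ J U).obj X) :=
  closedCompl_sheafify J U (triv_T U.obj X.obj)

instance L₀_preservesFiniteLimits : PreservesFiniteLimits (L₀ J U) := by
  unfold L₀
  infer_instance

/-- the reflector onto the closed complement -/
noncomputable def L : Sheaf J (Type u) ⥤ (SGA4.closedCompl U).FullSubcategory :=
  ObjectProperty.lift _ (L₀ J U) (L₀_mem J U)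

/-- the unit `X ⟶ L₀ X` -/
noncomputable def η : 𝟭 (Sheaf J (Type u)) ⟶ L₀ J U where
  app X := ObjectProperty.homMk ((ν U.obj).app X.obj ≫
    (sheafificationAdjunction J (Type u)).unit.app ((T U.obj).obj X.obj))
  naturality X Y f := by
    apply Sheaf.hom_ext
    show f.hom ≫ (ν U.obj).app Y.obj ≫
        (sheafificationAdjunction J (Type u)).unit.app ((T U.obj).obj Y.obj) =
      ((ν U.obj).app X.obj ≫
        (sheafificationAdjunction J (Type u)).unit.app ((T U.obj).obj X.obj)) ≫
        (sheafToPresheaf J (Type u)).map ((presheafToSheaf J (Type u)).map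
          ((T U.obj).map f.hom))
    have h1 : f.hom ≫ (ν U.obj).app Y.obj = (ν U.obj).app X.obj ≫ (T U.obj).map f.hom :=
      (ν U.obj).naturality f.hom
    have h2 := (sheafificationAdjunction J (Type u)).unit.naturality ((T U.obj).map f.hom)
    rw [← Category.assoc, h1, Category.assoc, Category.assoc]
    congr 1

lemma η_comp_bijective (X : Sheaf J (Type u)) {Y : Sheaf J (Type u)}
    (hY : SGA4.closedCompl U Y) :
    Function.Bijective (fun g : (L₀ J U).obj X ⟶ Y => (η J U).app X ≫ g) := by
  have hY' : Triv U.obj Y.obj := (closedCompl_iff J U Y).1 hY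
  have e1 := ((sheafificationAdjunction J (Type u)).homEquiv ((T U.obj).obj X.obj) Y).bijective
  have e2 := hom_bijective_of_triv U.obj X.obj hY'
  have e3 := (Sheaf.homEquiv (X := X) (Y := Y)).symm.bijective
  have := e3.comp (e2.comp e1)
  have heq : (fun g : (L₀ J U).obj X ⟶ Y => (η J U).app X ≫ g) =
      (Sheaf.homEquiv (X := X) (Y := Y)).symm ∘ (fun f => (ν U.obj).app X.obj ≫ f) ∘
        ((sheafificationAdjunction J (Type u)).homEquiv ((T U.obj).obj X.obj) Y) := by
    funext g
    apply Sheaf.hom_ext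
    show ((ν U.obj).app X.obj ≫
      (sheafificationAdjunction J (Type u)).unit.app ((T U.obj).obj X.obj)) ≫ g.hom = _
    rw [Category.assoc]
    rfl
  rw [heq]
  exact this

/-- hom-set bijection of the adjunction -/
noncomputable def homEquiv (X : Sheaf J (Type u)) (Y : (SGA4.closedCompl U).FullSubcategory) :
    ((L J U).obj X ⟶ Y) ≃ (X ⟶ (SGA4.closedCompl U).ι.obj Y) :=
  ((SGA4.closedCompl U).fullyFaithfulι.homEquiv (X := (L J U).obj X) (Y := Y)).trans
    (Equiv.ofBijective _ (η_comp_bijective J U X Y.property))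

lemma homEquiv_apply (X : Sheaf J (Type u)) (Y : (SGA4.closedCompl U).FullSubcategory)
    (g : (L J U).obj X ⟶ Y) : homEquiv J U X Y g = (η J U).app X ≫ g.hom := rfl

/-- the adjunction `L ⊣ ι` -/
noncomputable def adj : L J U ⊣ (SGA4.closedCompl U).ι :=
  Adjunction.mkOfHomEquiv
    { homEquiv := homEquiv J U
      homEquiv_naturality_left_symm := by
        intro X' X Y f g
        apply (homEquiv J U X' Y).injective
        rw [Equiv.apply_symm_apply, homEquiv_apply]
        have h1 : ((L J U).map f ≫ (homEquiv J U X Y).symm g).hom =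
            (L₀ J U).map f ≫ ((homEquiv J U X Y).symm g).hom := rfl
        rw [h1, ← Category.assoc]
        have h2 : (η J U).app X' ≫ (L₀ J U).map f = f ≫ (η J U).app X :=
          ((η J U).naturality f).symm
        rw [h2, Category.assoc, ← homEquiv_apply, Equiv.apply_symm_apply]
      homEquiv_naturality_right := by
        intro X Y Y' f g
        rw [homEquiv_apply, homEquiv_apply]
        show (η J U).app X ≫ f.hom ≫ g.hom = ((η J U).app X ≫ f.hom) ≫ g.hom
        rw [Category.assoc] }

lemma adj_unit_app (X : Sheaf J (Type u)) : (adj J U).unit.app X = (η J U).app X := by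
  have := (adj J U).homEquiv_unit (X := X) (Y := (L J U).obj X) (f := 𝟙 _)
  rw [CategoryTheory.Functor.map_id] at this
  have h2 : (adj J U).unit.app X = (adj J U).homEquiv X ((L J U).obj X) (𝟙 _) := by
    rw [this]; exact (Category.comp_id _).symm
  rw [h2]
  show homEquiv J U X _ (𝟙 _) = _
  rw [homEquiv_apply]
  exact Category.comp_id _

instance L_preservesFiniteLimits : PreservesFiniteLimits (L J U) := by
  have : PreservesFiniteLimits (L J U ⋙ (SGA4.closedCompl U).ι) :=
    inferInstanceAs (PreservesFiniteLimits (L₀ J U))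
  exact ⟨fun K _ _ => ⟨fun {F} =>
    preservesLimit_of_reflects_of_preserves (L J U) (SGA4.closedCompl U).ι⟩⟩

end Sheaf

section Pushout

variable (V : Cᵒᵖ ⥤ Type u)

/-- the canonical map `V ⟶ T V P` -/
def τ (P : Cᵒᵖ ⥤ Type u) : V ⟶ (T V).obj P where
  app W := ↾fun v h => (h.false v).elim
  naturality W W' g := by
    refine ConcreteCategory.hom_ext _ _ (fun v => ?_)
    funext h
    exact (h.false (V.map g v)).elim

lemma isIso_fst_app_of_isEmpty (P : Cᵒᵖ ⥤ Type u) (W : Cᵒᵖ) (hW : IsEmpty (V.obj W)) :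
    IsIso ((prod.fst : V ⨯ P ⟶ V).app W) := by
  rw [isIso_iff_bijective]
  constructor
  · intro a b _
    exact (hW.false ((prod.fst : V ⨯ P ⟶ V).app W a)).elim
  · intro v
    exact (hW.false v).elim

lemma isIso_snd_app_of_unique (P : Cᵒᵖ ⥤ Type u) (W : Cᵒᵖ) (hW : Nonempty (V.obj W))
    (hs : Subsingleton (V.obj W)) :
    IsIso ((prod.snd : V ⨯ P ⟶ P).app W) := by
  have h1 : (prod.snd : V ⨯ P ⟶ P) =
      (FunctorToTypes.binaryProductIso V P).hom ≫ FunctorToTypes.prod.snd := rfl
  rw [h1, NatTrans.comp_app]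
  have : IsIso ((FunctorToTypes.prod.snd : FunctorToTypes.prod V P ⟶ P).app W) := by
    rw [isIso_iff_bijective]
    constructor
    · rintro ⟨v, p⟩ ⟨v', p'⟩ (hpp : p = p')
      exact Prod.ext (Subsingleton.elim _ _) hpp
    · intro p
      obtain ⟨v⟩ := hW
      exact ⟨(v, p), rfl⟩
  infer_instance

end Pushout

section Sheaf2

variable (J : GrothendieckTopology C) (U : Sheaf J (Type u))

lemma subsingleton_of_isOpen (hU : SGA4.IsOpen U) (W : Cᵒᵖ) : Subsingleton (U.obj.obj W) := by
  have hU' : Mono (terminal.from U) := hU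
  have h1 : ∀ (Z : Sheaf J (Type u)), Subsingleton (Z ⟶ U) := fun Z =>
    ⟨fun f g => (cancel_mono (terminal.from U)).1 (Subsingleton.elim _ _)⟩
  have e := ((sheafificationAdjunction J (Type u)).homEquiv (yoneda.obj W.unop) U).symm.trans
    (Equiv.refl _)
  have e2 : (yoneda.obj W.unop ⟶ U.obj) ≃ U.obj.obj W := yonedaEquiv
  exact (e2.symm.trans e).injective.subsingleton

lemma isPushout_presheaf (hU : SGA4.IsOpen U) (X : Sheaf J (Type u)) :
    IsPushout ((sheafToPresheaf J (Type u)).map (prod.fst : U ⨯ X ⟶ U))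
      ((sheafToPresheaf J (Type u)).map (prod.snd : U ⨯ X ⟶ X))
      (τ U.obj X.obj) ((ν U.obj).app X.obj) := by
  apply IsPushout.of_forall_isPushout_app
  intro W
  have hsq : CommSq (((sheafToPresheaf J (Type u)).map (prod.fst : U ⨯ X ⟶ U)).app W)
      (((sheafToPresheaf J (Type u)).map (prod.snd : U ⨯ X ⟶ X)).app W)
      ((τ U.obj X.obj).app W) (((ν U.obj).app X.obj).app W) := by
    refine ⟨?_⟩
    refine ConcreteCategory.hom_ext _ _ (fun z => ?_)
    funext h
    exact (h.false (((sheafToPresheaf J (Type u)).map (prod.fst : U ⨯ X ⟶ U)).app W z)).elim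
  have hfst : (sheafToPresheaf J (Type u)).map (prod.fst : U ⨯ X ⟶ U) =
      prodComparison (sheafToPresheaf J (Type u)) U X ≫ prod.fst :=
    (prodComparison_fst _ _ _).symm
  have hsnd : (sheafToPresheaf J (Type u)).map (prod.snd : U ⨯ X ⟶ X) =
      prodComparison (sheafToPresheaf J (Type u)) U X ≫ prod.snd :=
    (prodComparison_snd _ _ _).symm
  by_cases hW : Nonempty (U.obj.obj W)
  · have hs := subsingleton_of_isOpen J U hU W
    have h1 : IsIso (((sheafToPresheaf J (Type u)).map (prod.snd : U ⨯ X ⟶ X)).app W) := by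
      rw [hsnd, NatTrans.comp_app]
      have ha := isIso_snd_app_of_unique U.obj X.obj W hW hs
      have h0 : IsIso (prodComparison (sheafToPresheaf J (Type u)) U X) := inferInstance
      have hb : IsIso ((prodComparison (sheafToPresheaf J (Type u)) U X).app W) := inferInstance
      exact IsIso.comp_isIso' hb ha
    have h2 : IsIso ((τ U.obj X.obj).app W) := by
      rw [isIso_iff_bijective]
      obtain ⟨hu'⟩ := triv_T U.obj X.obj W hW
      constructor
      · intro a b _
        exact Subsingleton.elim _ _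
      · intro b
        obtain ⟨v⟩ := hW
        exact ⟨v, (hu'.uniq _).trans (hu'.uniq b).symm⟩
    exact IsPushout.of_vert_isIso hsq
  · have hW' : IsEmpty (U.obj.obj W) := not_nonempty_iff.1 hW
    have h1 : IsIso (((sheafToPresheaf J (Type u)).map (prod.fst : U ⨯ X ⟶ U)).app W) := by
      rw [hfst, NatTrans.comp_app]
      have ha := isIso_fst_app_of_isEmpty U.obj X.obj W hW'
      have h0 : IsIso (prodComparison (sheafToPresheaf J (Type u)) U X) := inferInstance
      have hb : IsIso ((prodComparison (sheafToPresheaf J (Type u)) U X).app W) := inferInstance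
      exact IsIso.comp_isIso' hb ha
    have h2 : IsIso (((ν U.obj).app X.obj).app W) := by
      rw [isIso_iff_bijective]
      constructor
      · intro a b hab
        exact congrFun hab hW'
      · intro f
        refine ⟨f hW', ?_⟩
        funext h
        rfl
    exact IsPushout.of_horiz_isIso hsq

lemma isPushout_sheaf (hU : SGA4.IsOpen U) (X : Sheaf J (Type u)) :
    IsPushout (prod.fst : U ⨯ X ⟶ U) (prod.snd : U ⨯ X ⟶ X)
      (inv ((sheafificationAdjunction J (Type u)).counit.app U) ≫
        (presheafToSheaf J (Type u)).map (τ U.obj X.obj))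
      (inv ((sheafificationAdjunction J (Type u)).counit.app X) ≫
        (presheafToSheaf J (Type u)).map ((ν U.obj).app X.obj)) := by
  have h := (isPushout_presheaf J U hU X).map (presheafToSheaf J (Type u))
  refine h.of_iso (asIso ((sheafificationAdjunction J (Type u)).counit.app (U ⨯ X)))
    (asIso ((sheafificationAdjunction J (Type u)).counit.app U))
    (asIso ((sheafificationAdjunction J (Type u)).counit.app X)) (Iso.refl _) ?_ ?_ ?_ ?_
  · exact (sheafificationAdjunction J (Type u)).counit.naturality _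
  · exact (sheafificationAdjunction J (Type u)).counit.naturality _
  · simp
  · simp

lemma nonempty_iso_pushout (hU : SGA4.IsOpen U) (X : Sheaf J (Type u)) :
    Nonempty (((SGA4.closedCompl U).ι).obj ((L J U).obj X) ≅
      pushout (prod.fst : U ⨯ X ⟶ U) (prod.snd : U ⨯ X ⟶ X)) :=
  ⟨(isPushout_sheaf J U hU X).isoPushout⟩

end Sheaf2

end Groth.Agent.H60.Closed
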