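import Mathlib
import Groth.Prelude.Def_SGA4a
import Groth.Agent.H60.Closed

set_option autoImplicit false
open CategoryTheory CategoryTheory.Limits Opposite
universe u

namespace Groth.Agent.H60.Closed2
open Groth.Agent.H60.Closed

variable {C : Type u} [SmallCategory C] (J : GrothendieckTopology C) (U : Sheaf J (Type u))

lemma isIso_sheaf_snd_app (hU : SGA4.IsOpen U) (X : Sheaf J (Type u)) (W : Cᵒᵖ)
    (hW : Nonempty (U.obj.obj W)) :
    IsIso (((sheafToPresheaf J (Type u)).map (prod.snd : U ⨯ X ⟶ X)).app W) := by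
  have hsnd : (sheafToPresheaf J (Type u)).map (prod.snd : U ⨯ X ⟶ X) =
      prodComparison (sheafToPresheaf J (Type u)) U X ≫ prod.snd :=
    (prodComparison_snd _ _ _).symm
  have hs := subsingleton_of_isOpen J U hU W
  rw [hsnd, NatTrans.comp_app]
  have ha := isIso_snd_app_of_unique U.obj X.obj W hW hs
  have h0 : IsIso (prodComparison (sheafToPresheaf J (Type u)) U X) := inferInstance
  have hb : IsIso ((prodComparison (sheafToPresheaf J (Type u)) U X).app W) := inferInstance
  exact IsIso.comp_isIso' hb ha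

lemma bijective_of_star (hU : SGA4.IsOpen U) {X Y : Sheaf J (Type u)} (m : X ⟶ Y)
    (h1 : IsIso ((Over.star U).map m)) (W : Cᵒᵖ) (hW : Nonempty (U.obj.obj W)) :
    Function.Bijective (m.hom.app W) := by
  have h2 : IsIso ((Over.forget U).map ((Over.star U).map m)) := inferInstance
  have h3 : IsIso (prod.map (𝟙 U) m) := by
    have : (Over.forget U).map ((Over.star U).map m) = prod.map (𝟙 U) m :=
      Over.star_map_left U m
    rw [← this]
    exact h2
  have h4 : IsIso ((sheafToPresheaf J (Type u)).map (prod.map (𝟙 U) m)) := inferInstance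
  have h5 : IsIso (((sheafToPresheaf J (Type u)).map (prod.map (𝟙 U) m)).app W) := inferInstance
  have hX := isIso_sheaf_snd_app J U hU X W hW
  have hY := isIso_sheaf_snd_app J U hU Y W hW
  have hsq : ((sheafToPresheaf J (Type u)).map (prod.map (𝟙 U) m)).app W ≫
      ((sheafToPresheaf J (Type u)).map (prod.snd : U ⨯ Y ⟶ Y)).app W =
      ((sheafToPresheaf J (Type u)).map (prod.snd : U ⨯ X ⟶ X)).app W ≫ m.hom.app W := by
    rw [← NatTrans.comp_app, ← CategoryTheory.Functor.map_comp, prod.map_snd,
      CategoryTheory.Functor.map_comp, NatTrans.comp_app]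
    rfl
  have h6 : m.hom.app W = inv (((sheafToPresheaf J (Type u)).map (prod.snd : U ⨯ X ⟶ X)).app W) ≫
      ((sheafToPresheaf J (Type u)).map (prod.map (𝟙 U) m)).app W ≫
      ((sheafToPresheaf J (Type u)).map (prod.snd : U ⨯ Y ⟶ Y)).app W := by
    rw [hsq, IsIso.inv_hom_id_assoc]
  have h7 : IsIso (m.hom.app W) := by
    rw [h6]
    infer_instance
  exact (isIso_iff_bijective _).1 h7

lemma isIso_of_star_of_L₀ (hU : SGA4.IsOpen U) {X Y : Sheaf J (Type u)} (m : X ⟶ Y)
    (h1 : IsIso ((Over.star U).map m)) (h2 : IsIso ((L₀ J U).map m)) : IsIso m := by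
  have hb := bijective_of_star J U hU m h1
  have h3 : IsIso ((presheafToSheaf J (Type u)).map ((T U.obj).map m.hom)) := h2
  rw [← J.W_iff, J.W_iff_isLocallyBijective] at h3
  obtain ⟨hinj, hsurj⟩ := h3
  suffices hm : Presheaf.IsLocallyInjective J m.hom ∧ Presheaf.IsLocallySurjective J m.hom by
    rw [← J.W_iff_isLocallyBijective, J.W_iff] at hm
    exact (NatIso.isIso_map_iff (asIso (sheafificationAdjunction J (Type u)).counit) m).1 hm
  constructor
  · -- locally injective
    refine ⟨fun {W} x x' hxx' => ?_⟩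
    have h4 : ((T U.obj).map m.hom).app W (((ν U.obj).app X.obj).app W x) =
        ((T U.obj).map m.hom).app W (((ν U.obj).app X.obj).app W x') := by
      funext h
      exact hxx'
    have h5 := Presheaf.equalizerSieve_mem J ((T U.obj).map m.hom) _ _ h4
    refine J.superset_covering ?_ h5
    intro W' g hg
    show X.obj.map g.op x = X.obj.map g.op x'
    have hg' : ((T U.obj).obj X.obj).map g.op (((ν U.obj).app X.obj).app W x) =
        ((T U.obj).obj X.obj).map g.op (((ν U.obj).app X.obj).app W x') := hg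
    by_cases hW' : Nonempty (U.obj.obj (op W'))
    · apply (hb (op W') hW').1
      have n1 := ConcreteCategory.congr_hom (m.hom.naturality g.op) x
      have n2 := ConcreteCategory.congr_hom (m.hom.naturality g.op) x'
      simp only [ConcreteCategory.comp_apply] at n1 n2
      rw [n1, n2]
      exact congrArg _ hxx'
    · have hW'' : IsEmpty (U.obj.obj (op W')) := not_nonempty_iff.1 hW'
      exact congrFun hg' hW''
  · -- locally surjective
    refine ⟨fun {W} y => ?_⟩
    have h5 := Presheaf.imageSieve_mem J ((T U.obj).map m.hom)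
      (((ν U.obj).app Y.obj).app (op W) y)
    refine J.superset_covering ?_ h5
    rintro W' g ⟨t, ht⟩
    show ∃ t' : X.obj.obj (op W'), m.hom.app _ t' = Y.obj.map g.op y
    by_cases hW' : Nonempty (U.obj.obj (op W'))
    · exact (hb (op W') hW').2 _
    · have hW'' : IsEmpty (U.obj.obj (op W')) := not_nonempty_iff.1 hW'
      refine ⟨t hW'', ?_⟩
      exact congrFun ht hW''

theorem isIso_iff_star_L (hU : SGA4.IsOpen U)
    (L' : Sheaf J (Type u) ⥤ (SGA4.closedCompl U).FullSubcategory)
    (adj' : L' ⊣ (SGA4.closedCompl U).ι) {X Y : Sheaf J (Type u)} (m : X ⟶ Y) :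
    IsIso m ↔ IsIso ((Over.star U).map m) ∧ IsIso (L'.map m) := by
  constructor
  · intro h
    exact ⟨inferInstance, inferInstance⟩
  · rintro ⟨h1, h2⟩
    have e : L' ≅ L J U := adj'.leftAdjointUniq (adj J U)
    have h3 : IsIso ((L J U).map m) := (NatIso.isIso_map_iff e m).1 h2
    have h4 : IsIso ((SGA4.closedCompl U).ι.map ((L J U).map m)) := inferInstance
    exact isIso_of_star_of_L₀ J U hU m h1 h4

end Groth.Agent.H60.Closed2
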