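import Mathlib

set_option autoImplicit false
open CategoryTheory CategoryTheory.Limits

namespace Groth.Agent.H60.Glue

universe v₁ v₂ v₃ u₁ u₂ u₃
variable {E : Type u₁} [Category.{v₁} E] {F : Type u₂} [Category.{v₂} F]
  {O : Type u₃} [Category.{v₃} O]
variable {ι : F ⥤ E} {L : E ⥤ F} (adjL : L ⊣ ι) {Jf : E ⥤ O} {R : O ⥤ E} (adjJ : Jf ⊣ R)

/-- the gluing functor -/
def Φ : E ⥤ Comma (𝟭 F) (R ⋙ L) where
  obj X := { left := L.obj X, right := Jf.obj X, hom := L.map (adjJ.unit.app X) }
  map {X X'} f :=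
    { left := L.map f
      right := Jf.map f
      w := by
        show L.map f ≫ L.map (adjJ.unit.app X') = L.map (adjJ.unit.app X) ≫ L.map (R.map (Jf.map f))
        rw [← L.map_comp, ← L.map_comp]
        congr 1
        exact adjJ.unit.naturality f }
  map_id X := by
    ext
    · exact L.map_id X
    · exact Jf.map_id X
  map_comp f g := by
    ext
    · exact L.map_comp f g
    · exact Jf.map_comp f g

section Clean

variable {A B : Type*} [Category A] [Category B] {G₁ : A ⥤ B} {G₂ : B ⥤ A} (ad : G₁ ⊣ G₂)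

lemma unit_nat {X X' : A} (f : X ⟶ X') :
    (f ≫ ad.unit.app X' : X ⟶ G₂.obj (G₁.obj X')) = ad.unit.app X ≫ G₂.map (G₁.map f) :=
  (ad.unit_naturality f).symm

lemma counit_nat {Y Y' : B} (f : Y ⟶ Y') :
    (G₁.map (G₂.map f) ≫ ad.counit.app Y' : G₁.obj (G₂.obj Y) ⟶ Y') = ad.counit.app Y ≫ f :=
  ad.counit_naturality f

lemma hom_inj {X : A} {Y : B} (f g : G₁.obj X ⟶ Y)
    (h : (ad.unit.app X ≫ G₂.map f : X ⟶ G₂.obj Y) = ad.unit.app X ≫ G₂.map g) : f = g := by
  apply (ad.homEquiv _ _).injective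
  rw [ad.homEquiv_unit, ad.homEquiv_unit]
  exact h

lemma left_tri (X : A) :
    (G₁.map (ad.unit.app X) ≫ ad.counit.app (G₁.obj X) : G₁.obj X ⟶ G₁.obj X) = 𝟙 _ :=
  ad.left_triangle_components X

lemma right_tri (Y : B) :
    (ad.unit.app (G₂.obj Y) ≫ G₂.map (ad.counit.app Y) : G₂.obj Y ⟶ G₂.obj Y) = 𝟙 _ :=
  ad.right_triangle_components Y

end Clean

section

variable [ι.Full] [ι.Faithful] [R.Full] [R.Faithful]

include adjL in
lemma isIso_L_unit (X : E) : IsIso (L.map (adjL.unit.app X)) := by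
  have h := adjL.left_triangle_components X
  have h1 : IsIso (adjL.counit.app (L.obj X)) := inferInstance
  have h2 : IsIso (L.map (adjL.unit.app X) ≫ adjL.counit.app (L.obj X)) := by
    rw [h]; exact IsIso.id _
  exact IsIso.of_isIso_comp_right _ (adjL.counit.app (L.obj X))

include adjJ in
lemma isIso_J_unit (X : E) : IsIso (Jf.map (adjJ.unit.app X)) := by
  have h := adjJ.left_triangle_components X
  have h1 : IsIso (adjJ.counit.app (Jf.obj X)) := inferInstance
  have h2 : IsIso (Jf.map (adjJ.unit.app X) ≫ adjJ.counit.app (Jf.obj X)) := by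
    rw [h]; exact IsIso.id _
  exact IsIso.of_isIso_comp_right _ (adjJ.counit.app (Jf.obj X))

variable [HasPullbacks E] [PreservesLimitsOfShape WalkingCospan L]
  [PreservesLimitsOfShape WalkingCospan Jf]
  (hcons : ∀ {X Y : E} (m : X ⟶ Y), IsIso (Jf.map m) → IsIso (L.map m) → IsIso m)
  (hJι : ∀ {Y Y' : F} (g : Y ⟶ Y'), IsIso (Jf.map (ι.map g)))

include hcons hJι in
/-- the fracture square -/
lemma fracture (X : E) :
    IsPullback (adjL.unit.app X) (adjJ.unit.app X) (ι.map (L.map (adjJ.unit.app X)))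
      (adjL.unit.app (R.obj (Jf.obj X))) := by
  have w : adjL.unit.app X ≫ ι.map (L.map (adjJ.unit.app X)) =
      adjJ.unit.app X ≫ adjL.unit.app (R.obj (Jf.obj X)) :=
    (adjL.unit.naturality (adjJ.unit.app X)).symm
  set f := ι.map (L.map (adjJ.unit.app X)) with hf
  set g := adjL.unit.app (R.obj (Jf.obj X)) with hg
  let c : X ⟶ pullback f g := pullback.lift (adjL.unit.app X) (adjJ.unit.app X) w
  have hP : IsPullback (pullback.fst f g) (pullback.snd f g) f g := IsPullback.of_hasPullback f g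
  have hLc : IsIso (L.map c) := by
    have hLP := hP.map L
    have hLg : IsIso (L.map g) := isIso_L_unit adjL _
    have h1 : IsIso (L.map (pullback.fst f g)) := hLP.isIso_fst_of_isIso
    have h2 : IsIso (L.map c ≫ L.map (pullback.fst f g)) := by
      rw [← L.map_comp, pullback.lift_fst]
      exact isIso_L_unit adjL X
    exact IsIso.of_isIso_comp_right _ (L.map (pullback.fst f g))
  have hJc : IsIso (Jf.map c) := by
    have hJP := hP.map Jf
    have hJf : IsIso (Jf.map f) := hJι _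
    have h1 : IsIso (Jf.map (pullback.snd f g)) := hJP.isIso_snd_of_isIso
    have h2 : IsIso (Jf.map c ≫ Jf.map (pullback.snd f g)) := by
      rw [← Jf.map_comp, pullback.lift_snd]
      exact isIso_J_unit adjJ X
    exact IsIso.of_isIso_comp_right _ (Jf.map (pullback.snd f g))
  have hc : IsIso c := hcons c hJc hLc
  exact IsPullback.of_iso_pullback ⟨w⟩ (asIso c) (pullback.lift_fst _ _ _) (pullback.lift_snd _ _ _)

include adjL hcons hJι in
lemma Φ_faithful : (Φ (L := L) adjJ).Faithful := by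
  refine ⟨fun {X X'} f g h => ?_⟩
  have hl : L.map f = L.map g := congrArg CommaMorphism.left h
  have hr : Jf.map f = Jf.map g := congrArg CommaMorphism.right h
  apply (fracture adjL adjJ hcons hJι X').hom_ext
  · rw [unit_nat adjL f, unit_nat adjL g, hl]
  · rw [unit_nat adjJ f, unit_nat adjJ g, hr]

include adjL hcons hJι in
lemma Φ_full : (Φ (L := L) adjJ).Full := by
  refine ⟨fun {X X'} φ => ?_⟩
  obtain ⟨α, β, hw⟩ : ∃ (α : L.obj X ⟶ L.obj X') (β : Jf.obj X ⟶ Jf.obj X')
      (_ : α ≫ L.map (adjJ.unit.app X') = L.map (adjJ.unit.app X) ≫ L.map (R.map β)),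
      φ.left = α ∧ φ.right = β := ⟨φ.left, φ.right, φ.w, rfl, rfl⟩
  obtain ⟨hα, hβ⟩ := hw.2
  have hw := hw.1
  have hfr := fracture adjL adjJ hcons hJι X'
  have hcompat : (adjL.unit.app X ≫ ι.map α) ≫ ι.map (L.map (adjJ.unit.app X')) =
      (adjJ.unit.app X ≫ R.map β) ≫ adjL.unit.app (R.obj (Jf.obj X')) := by
    rw [Category.assoc, ← ι.map_comp, hw, ← L.map_comp, unit_nat adjL]
    rfl
  refine ⟨hfr.lift _ _ hcompat, ?_⟩
  ext
  · show L.map (hfr.lift _ _ hcompat) = φ.left
    rw [hα]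
    apply hom_inj adjL
    exact (unit_nat adjL _).symm.trans (hfr.lift_fst _ _ _)
  · show Jf.map (hfr.lift _ _ hcompat) = φ.right
    rw [hβ]
    apply hom_inj adjJ
    exact (unit_nat adjJ _).symm.trans (hfr.lift_snd _ _ _)

include adjL hJι in
lemma Φ_essSurj : (Φ (L := L) adjJ).EssSurj := by
  refine ⟨fun A => ?_⟩
  obtain ⟨Y, X', φ, hA⟩ : ∃ (Y : F) (X' : O) (φ : Y ⟶ L.obj (R.obj X')),
      A = ⟨Y, X', φ⟩ := ⟨A.left, A.right, A.hom, rfl⟩
  subst hA
  set f : ι.obj Y ⟶ ι.obj (L.obj (R.obj X')) := ι.map φ with hf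
  set g : R.obj X' ⟶ ι.obj (L.obj (R.obj X')) := adjL.unit.app (R.obj X') with hg
  have hP : IsPullback (pullback.fst f g) (pullback.snd f g) f g := IsPullback.of_hasPullback f g
  have hLg : IsIso (L.map g) := isIso_L_unit adjL _
  have h1 : IsIso (L.map (pullback.fst f g)) := (hP.map L).isIso_fst_of_isIso
  have hJf : IsIso (Jf.map f) := hJι _
  have h2 : IsIso (Jf.map (pullback.snd f g)) := (hP.map Jf).isIso_snd_of_isIso
  have h3 : IsIso (adjL.counit.app Y) := inferInstance
  have h4 : IsIso (adjJ.counit.app X') := inferInstance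
  let a : L.obj (pullback f g) ≅ Y :=
    asIso (L.map (pullback.fst f g)) ≪≫ asIso (adjL.counit.app Y)
  let b : Jf.obj (pullback f g) ≅ X' :=
    asIso (Jf.map (pullback.snd f g)) ≪≫ asIso (adjJ.counit.app X')
  refine ⟨pullback f g, ⟨Comma.isoMk a b ?_⟩⟩
  show (L.map (pullback.fst f g) ≫ adjL.counit.app Y) ≫ φ =
    L.map (adjJ.unit.app (pullback f g)) ≫
      L.map (R.map (Jf.map (pullback.snd f g) ≫ adjJ.counit.app X'))
  have r1 : adjJ.unit.app (pullback f g) ≫
      R.map (Jf.map (pullback.snd f g) ≫ adjJ.counit.app X') = pullback.snd f g := by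
    rw [R.map_comp, ← Category.assoc, ← unit_nat adjJ, Category.assoc,
      right_tri adjJ, Category.comp_id]
  have l1 : (L.map (pullback.fst f g) ≫ adjL.counit.app Y) ≫ φ =
      L.map (pullback.snd f g) := by
    rw [Category.assoc, ← counit_nat adjL φ, ← Category.assoc, ← L.map_comp]
    have n2 : pullback.fst f g ≫ ι.map φ = pullback.snd f g ≫ g := pullback.condition
    rw [n2, L.map_comp, Category.assoc, left_tri adjL, Category.comp_id]
  rw [l1, ← L.map_comp, r1]

include adjL hcons hJι in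
theorem Φ_isEquivalence : (Φ (L := L) adjJ).IsEquivalence := by
  have := Φ_faithful adjL adjJ hcons hJι
  have := Φ_full adjL adjJ hcons hJι
  have := Φ_essSurj adjL adjJ hJι
  exact { }

end

end Groth.Agent.H60.Glue
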