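import Mathlib
import Groth.Prelude.Def_SGA4a
import Groth.Agent.H60.Closed2
import Groth.Agent.H60.Glue

set_option autoImplicit false
open CategoryTheory CategoryTheory.Limits Opposite
universe u

namespace Groth.Agent.H60.Closed3
open Groth.Agent.H60.Closed Groth.Agent.H60.Closed2 Groth.Agent.H60.Glue

variable {C : Type u} [SmallCategory C] (J : GrothendieckTopology C) (U : Sheaf J (Type u))

/-- the forgetful functor from the slice over a subterminal object is fully faithful -/
def forgetFF (hU : SGA4.IsOpen U) : (Over.forget U).FullyFaithful where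
  preimage {A B} f := Over.homMk f (by
    have hU' : Mono (terminal.from U) := hU
    apply (cancel_mono (terminal.from U)).1
    exact Subsingleton.elim _ _)
  map_preimage := by intros; rfl
  preimage_map := by intros; ext; rfl

lemma isIso_star_map_ι {Y Y' : (SGA4.closedCompl U).FullSubcategory} (g : Y ⟶ Y') :
    IsIso ((Over.star U).map ((SGA4.closedCompl U).ι.map g)) := by
  have hY : IsIso (prod.fst : U ⨯ Y.obj ⟶ U) := Y.property
  have hY' : IsIso (prod.fst : U ⨯ Y'.obj ⟶ U) := Y'.property
  have h1 : prod.map (𝟙 U) g.hom ≫ (prod.fst : U ⨯ Y'.obj ⟶ U) = (prod.fst : U ⨯ Y.obj ⟶ U) := by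
    rw [prod.map_fst, Category.comp_id]
  have h2 : IsIso (prod.map (𝟙 U) g.hom) := by
    have : IsIso (prod.map (𝟙 U) g.hom ≫ (prod.fst : U ⨯ Y'.obj ⟶ U)) := by rw [h1]; exact hY
    exact IsIso.of_isIso_comp_right _ (prod.fst : U ⨯ Y'.obj ⟶ U)
  have h3 : IsIso ((Over.forget U).map ((Over.star U).map ((SGA4.closedCompl U).ι.map g))) := by
    have : (Over.forget U).map ((Over.star U).map ((SGA4.closedCompl U).ι.map g)) =
        prod.map (𝟙 U) g.hom := Over.star_map_left U _
    rw [this]
    exact h2
  exact isIso_of_reflects_iso _ (Over.forget U)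

theorem glue (hU : SGA4.IsOpen U) [(Over.star U).IsLeftAdjoint]
    (L' : Sheaf J (Type u) ⥤ (SGA4.closedCompl U).FullSubcategory)
    (adj' : L' ⊣ (SGA4.closedCompl U).ι) :
    Nonempty (Sheaf J (Type u) ≌
      Comma (𝟭 (SGA4.closedCompl U).FullSubcategory) ((Over.star U).rightAdjoint ⋙ L')) := by
  let adjJ : Over.star U ⊣ (Over.star U).rightAdjoint := Adjunction.ofIsLeftAdjoint (Over.star U)
  let t : Adjunction.Triple (Over.forget U) (Over.star U) (Over.star U).rightAdjoint :=
    ⟨Over.forgetAdjStar U, adjJ⟩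
  have hR : ((Over.star U).rightAdjoint).FullyFaithful := t.fullyFaithfulEquiv (forgetFF J U hU)
  have := hR.full
  have := hR.faithful
  have e : L' ≅ L J U := adj'.leftAdjointUniq (adj J U)
  have : PreservesFiniteLimits L' := preservesFiniteLimits_of_natIso e.symm
  have : PreservesLimitsOfShape WalkingCospan (Over.star U) :=
    (Over.forgetAdjStar U).rightAdjoint_preservesLimits.preservesLimitsOfShape
  have hequiv : (Φ (L := L') adjJ).IsEquivalence :=
    Φ_isEquivalence adj' adjJ
      (fun m h1 h2 => (isIso_iff_star_L J U hU L' adj' m).2 ⟨h1, h2⟩)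
      (fun g => isIso_star_map_ι J U g)
  exact ⟨(Φ (L := L') adjJ).asEquivalence⟩

end Groth.Agent.H60.Closed3
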