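import Groth.Agent.H69.IntegralPushH
import Groth.Agent.H69.EtFiniteHensel
import Groth.Agent.H4.ClosedSupp
import Mathlib.AlgebraicGeometry.AlgClosed.Basic

/-!
# Sheaves supported at closed points of schemes of finite type over a separably closed field
(helper60)
-/

set_option autoImplicit false
open CategoryTheory CategoryTheory.Limits AlgebraicGeometry Opposite
universe u

namespace Groth.Agent.H60.ClosedPt

section PushAcyclic

variable {K : Type u} [Field K] [IsSepClosed K]

omit [IsSepClosed K] in
theorem isSepClosed_of_ringEquiv {K' : Type u} [Field K'] (E : K ≃+* K')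
    [IsSepClosed K] : IsSepClosed K' := by
  refine ⟨fun p hp => ?_⟩
  have h1 : (p.map E.symm.toRingHom).Separable := hp.map
  have h2 := IsSepClosed.splits_of_separable _ h1
  have h3 := h2.map E.toRingHom
  rw [Polynomial.map_map] at h3
  have h4 : E.toRingHom.comp E.symm.toRingHom = RingHom.id K' := by
    ext x
    simp
  rwa [h4, Polynomial.map_id] at h3

instance : IsSepClosed (IsLocalRing.ResidueField K) := by
  have e : K ≃+* IsLocalRing.ResidueField K :=
    RingEquiv.ofBijective (IsLocalRing.residue K)
      ⟨(IsLocalRing.residue K).injective, IsLocalRing.residue_surjective⟩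
  exact isSepClosed_of_ringEquiv e

/-- the direct image of any sheaf from a closed point of a scheme locally of finite type over a
separably closed field has no higher cohomology -/
theorem H_push_subsingleton (X : Scheme.{u}) (a : X ⟶ Spec (CommRingCat.of K))
    [LocallyOfFiniteType a] (x : X) (hx : IsClosed ({x} : Set X))
    (G : EtCoh.Ab (Spec (X.residueField x))) (q : ℕ) (hq : 0 < q) :
    Subsingleton (EtCoh.H X ((EtCoh.push (X.fromSpecResidueField x)).obj G) q) := by
  have h1 : IsClosedImmersion (X.fromSpecResidueField x) :=
    isClosed_singleton_iff_isClosedImmersion.mp hx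
  have h2 : IsFinite (X.fromSpecResidueField x ≫ a) := by
    rw [isFinite_iff_locallyOfFiniteType_of_jacobsonSpace]
    infer_instance
  have h3 : Subsingleton (EtCoh.H (Spec (X.residueField x)) G q) :=
    Groth.Agent.H69.EtFiniteHensel.H_subsingleton K (Spec (X.residueField x))
      (X.fromSpecResidueField x ≫ a) G q hq
  have hb := Groth.Agent.H69.IntegralPushH.toPush_bijective (X.fromSpecResidueField x) G q
  exact hb.2.subsingleton

end PushAcyclic

end Groth.Agent.H60.ClosedPt
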