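import Groth.Agent.H60.ClosedPt3
import Groth.Agent.H69.EtColimH

/-!
# Sheaves supported in closed points over a separably closed field are acyclic (helper60)
-/

set_option autoImplicit false
open CategoryTheory CategoryTheory.Limits AlgebraicGeometry Opposite Abelian
universe u

namespace Groth.Agent.H60.ClosedPt

open Groth.Agent.H4.Stalks Groth.Agent.H4.ClosedStalk Groth.Agent.H60.ConstrDense
open Groth.Agent.H60.ConstrGeneric Groth.Agent.H21.ConstrGen Groth.Agent.H60.LocColim

variable {X : Scheme.{u}}

section Dir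

variable (F : EtCoh.Ab X)

/-- subsheaves of `F` with finite support -/
abbrev FinSub : Type (u + 2) := {M : Subobject F // (EtPBC.supp (M : EtCoh.Ab X)).Finite}

lemma supp_eq_empty_of_isZero {M : EtCoh.Ab X} (h : IsZero M) : EtPBC.supp M = ∅ := by
  ext y
  simp only [Set.mem_empty_iff_false, iff_false]
  rintro ⟨Ω, _, _, ξ, -, hnz⟩
  exact hnz (Functor.map_isZero (EtCoh.stalk ξ) h)

instance : Nonempty (FinSub F) := by
  refine ⟨⟨⊥, ?_⟩⟩
  have hz : IsZero ((⊥ : Subobject F) : EtCoh.Ab X) :=
    (isZero_zero _).of_iso Subobject.botCoeIsoZero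
  rw [supp_eq_empty_of_isZero hz]
  exact Set.finite_empty

lemma supp_image_desc_subset {M₁ M₂ : EtCoh.Ab X} (f₁ : M₁ ⟶ F) (f₂ : M₂ ⟶ F) :
    EtPBC.supp (Limits.image (biprod.desc f₁ f₂)) ⊆ EtPBC.supp M₁ ∪ EtPBC.supp M₂ := by
  intro y hy
  by_contra hcon
  rw [Set.mem_union, not_or] at hcon
  have h1 : ZeroAt y (M₁ ⊞ M₂) := (zeroAt_hyp y).biprod M₁ M₂ hcon.1 hcon.2
  have h2 : ZeroAt y (Limits.image (biprod.desc f₁ f₂)) :=
    zeroAt_of_epi y (factorThruImage (biprod.desc f₁ f₂)) h1
  exact h2 hy

instance : IsDirected (FinSub F) (· ≤ ·) := by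
  refine ⟨fun M₁ M₂ => ?_⟩
  let d := biprod.desc M₁.1.arrow M₂.1.arrow
  have hfin : (EtPBC.supp ((Subobject.mk (Limits.image.ι d) : Subobject F) : EtCoh.Ab X)).Finite := by
    apply Set.Finite.subset (M₁.2.union M₂.2)
    refine (supp_subset_of_mono (Subobject.underlyingIso (Limits.image.ι d)).hom).trans ?_
    exact supp_image_desc_subset F _ _
  refine ⟨⟨Subobject.mk (Limits.image.ι d), hfin⟩, ?_, ?_⟩
  · show M₁.1 ≤ Subobject.mk (Limits.image.ι d)
    exact Subobject.le_mk_of_comm (biprod.inl ≫ factorThruImage d) (by simp [d])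
  · show M₂.1 ≤ Subobject.mk (Limits.image.ι d)
    exact Subobject.le_mk_of_comm (biprod.inr ≫ factorThruImage d) (by simp [d])

/-- the diagram of finitely supported subsheaves -/
noncomputable abbrev finDiag : FinSub F ⥤ EtCoh.Ab X :=
  (Subtype.mono_coe (fun M : Subobject F => (EtPBC.supp (M : EtCoh.Ab X)).Finite)).functor ⋙
    Subobject.underlying

/-- the cocone of inclusions -/
noncomputable def finCocone : Cocone (finDiag F) where
  pt := F
  ι := { app := fun M => M.1.arrow
         naturality := fun M N h => by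
          simp only [Functor.const_obj_obj, Functor.const_obj_map, Category.comp_id]
          exact Subobject.underlying_arrow _ }

end Dir

section Main

variable {K : Type u} [Field K] [IsSepClosed K] (a : X ⟶ Spec (CommRingCat.of K))
  [LocallyOfFiniteType a] [QuasiCompact a]

omit [IsSepClosed K] [LocallyOfFiniteType a] [QuasiCompact a] in
instance (F : EtCoh.Ab X) : Small.{u + 1} (FinSub F) := by
  have : Small.{u + 1} (Subobject F) := WellPowered.subobject_small F
  infer_instance

theorem preservesColimitsOfShape_HF_finSub [CompactSpace X] [QuasiSeparatedSpace X]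
    (F : EtCoh.Ab X) (q : ℕ) : PreservesColimitsOfShape (FinSub F) (EtCoh.HF X q) := by
  let e : FinSub F ≌ SmallModel.{u + 1} (FinSub F) := equivSmallModel.{u + 1} _
  have : IsFiltered (SmallModel.{u + 1} (FinSub F)) := IsFiltered.of_equivalence e
  have := Groth.Agent.H69.EtColimH.preservesColimitsOfShape_HF
    (Λ := SmallModel.{u + 1} (FinSub F)) X q
  exact preservesColimitsOfShape_of_equiv e.symm (EtCoh.HF X q)

include a in
/-- **vanishing for sheaves supported in closed points** -/
theorem H_subsingleton_of_supp_closedPoints (F : EtCoh.Ab X)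
    (hF : ∀ x ∈ EtPBC.supp F, IsClosed ({x} : Set X)) (q : ℕ) (hq : 0 < q) :
    Subsingleton (EtCoh.H X F q) := by
  have hLN : IsLocallyNoetherian X := LocallyOfFiniteType.isLocallyNoetherian a
  have hC : CompactSpace X := QuasiCompact.compactSpace_of_compactSpace a
  have hQS : QuasiSeparatedSpace X := inferInstance
  have : HasColimitsOfShape (FinSub F) (EtCoh.Ab X) :=
    hasColimitsOfShape_of_essentiallySmall.{u + 1} _ _
  -- the colimit
  obtain ⟨hcol⟩ : Nonempty (IsColimit (finCocone F)) := by
    apply isColimit_of_sections'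
    · intro U hU t
      have h0 : 0 • t = 0 := zero_nsmul t
      set φ := secMap U 0 F t h0 with hφ
      have hfin : (EtPBC.supp ((Subobject.mk (Limits.image.ι φ) : Subobject F) :
          EtCoh.Ab X)).Finite := by
        have h1 := sectSupp_finite F hF U t
        apply Set.Finite.subset (h1.image (U.hom : U.left ⟶ X))
        refine (supp_subset_of_mono (Subobject.underlyingIso (Limits.image.ι φ)).hom).trans ?_
        exact supp_image_secMap_subset F U t h0
      refine ⟨⟨Subobject.mk (Limits.image.ι φ), hfin⟩,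
        (Subobject.underlyingIso (Limits.image.ι φ)).inv.hom.app (op U)
          ((factorThruImage φ).hom.app (op U) (one U 0)), ?_⟩
      show (Subobject.mk (Limits.image.ι φ)).arrow.hom.app (op U)
        ((Subobject.underlyingIso (Limits.image.ι φ)).inv.hom.app (op U)
          ((factorThruImage φ).hom.app (op U) (one U 0))) = t
      have h2 : (factorThruImage φ ≫ (Subobject.underlyingIso (Limits.image.ι φ)).inv ≫
          (Subobject.mk (Limits.image.ι φ)).arrow) = φ := by
        rw [Subobject.underlyingIso_arrow, Limits.image.fac]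
      have h3 := congrArg (fun k => k.hom.app (op U) (one U 0)) h2
      refine Eq.trans ?_ (h3.trans ?_)
      · rfl
      · rw [hφ, secMap_one]
    · intro U hU i s hs
      refine ⟨i, 𝟙 i, ?_⟩
      have hinj := injective_app_of_mono i.1.arrow U
      have hs' : i.1.arrow.hom.app (op U) s = 0 := hs
      have : s = 0 := hinj (hs'.trans (map_zero _).symm)
      rw [this, map_zero]
  have := preservesColimitsOfShape_HF_finSub F q
  have hcH : IsColimit ((EtCoh.HF X q).mapCocone (finCocone F)) :=
    isColimitOfPreserves (EtCoh.HF X q) hcol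
  have := preservesColimitsOfShape_forget'.{u + 2, u + 2, u} (FinSub F)
  suffices h : ∀ y : EtCoh.H X F q, y = 0 from ⟨fun y y' => (h y).trans (h y').symm⟩
  intro y
  obtain ⟨M, z, hz⟩ := Concrete.isColimit_exists_rep (finDiag F ⋙ EtCoh.HF X q) hcH y
  have hsub : Subsingleton (EtCoh.H X ((M.1 : Subobject F) : EtCoh.Ab X) q) := by
    classical
    apply H_subsingleton_of_supp_finite a _ M.2.toFinset _ _ q hq
    · intro x hx
      rw [Set.Finite.mem_toFinset] at hx
      exact hF x (supp_subset_of_mono M.1.arrow hx)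
    · intro x hx
      simpa using hx
  have hz0 : z = 0 := Subsingleton.elim (α := EtCoh.H X ((M.1 : Subobject F) : EtCoh.Ab X) q) _ _
  rw [← hz, hz0]
  exact map_zero _

end Main

end Groth.Agent.H60.ClosedPt
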