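import Groth.Agent.H60.ClosedPt4
import Mathlib.Topology.KrullDimension

/-!
# Curves: sheaves vanishing at the maximal points (helper60)
-/

set_option autoImplicit false
open CategoryTheory CategoryTheory.Limits AlgebraicGeometry Opposite Abelian
universe u

namespace Groth.Agent.H60.ClosedPt

section Top

open TopologicalSpace

/-- in a quasi-compact `T₀` space of Krull dimension at most one, a point with a proper
generalization is closed -/
theorem isClosed_singleton_of_specializes {α : Type*} [TopologicalSpace α] [T0Space α]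
    [CompactSpace α] (hdim : topologicalKrullDim α ≤ 1) (x y : α) (hyx : y ⤳ x) (hne : y ≠ x) :
    IsClosed ({x} : Set α) := by
  obtain ⟨c, hc, hccl⟩ := IsClosed.exists_closed_singleton (isClosed_closure (s := ({x} : Set α)))
    ⟨x, subset_closure rfl⟩
  by_cases hcx : c = x
  · rwa [hcx] at hccl
  exfalso
  let cx : IrreducibleCloseds α :=
    ⟨closure {x}, isIrreducible_singleton.closure, isClosed_closure⟩
  let cy : IrreducibleCloseds α :=
    ⟨closure {y}, isIrreducible_singleton.closure, isClosed_closure⟩
  let cc : IrreducibleCloseds α :=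
    ⟨closure {c}, isIrreducible_singleton.closure, isClosed_closure⟩
  have hxc : x ⤳ c := specializes_iff_mem_closure.2 hc
  have h1 : cc ≤ cx := specializes_iff_closure_subset.1 hxc
  have h2 : cx ≤ cy := specializes_iff_closure_subset.1 hyx
  rcases (Order.krullDim_le_one_iff.1 hdim) cx with hmin | hmax
  · have h3 : cx ≤ cc := hmin h1
    have h4 : c ⤳ x := specializes_iff_closure_subset.2 h3
    exact hcx ((hxc.antisymm h4).eq).symm
  · have h3 : cy ≤ cx := hmax h2
    have h4 : x ⤳ y := specializes_iff_closure_subset.2 h3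
    exact hne ((hyx.antisymm h4).eq)

end Top

section Curve

variable {k : Type u} [Field k] [IsSepClosed k] {C : Scheme.{u}}
  (f : C ⟶ Spec (CommRingCat.of k)) [LocallyOfFiniteType f] [QuasiCompact f]

include f in
/-- on a curve over a separably closed field, a sheaf whose stalks at the maximal points vanish
is supported in closed points -/
theorem isClosed_of_mem_supp_of_curve (hdim : topologicalKrullDim C ≤ 1) (F : EtCoh.Ab C)
    (hgen : ∀ (Ω : Type u) [Field Ω] [IsSepClosed Ω] (ξ : Spec (CommRingCat.of Ω) ⟶ C),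
      (∀ x ∈ Set.range ξ.base, ∀ y : C, y ⤳ x → y = x) → IsZero ((EtCoh.stalk ξ).obj F)) :
    ∀ x ∈ EtPBC.supp F, IsClosed ({x} : Set C) := by
  have hC : CompactSpace C := QuasiCompact.compactSpace_of_compactSpace f
  rintro x ⟨Ω, _, _, ξ, hξ, hnz⟩
  by_contra hx
  apply hnz
  apply hgen Ω ξ
  intro x' hx' y hy
  have hx'' : x' ∈ Set.range ξ := hx'
  rw [hξ] at hx''
  have hxx : x' = x := hx''
  subst hxx
  by_contra hne
  exact hx (isClosed_singleton_of_specializes hdim x' y hy hne)

include f in
theorem H_subsingleton_of_curve (hdim : topologicalKrullDim C ≤ 1) (F : EtCoh.Ab C)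
    (hgen : ∀ (Ω : Type u) [Field Ω] [IsSepClosed Ω] (ξ : Spec (CommRingCat.of Ω) ⟶ C),
      (∀ x ∈ Set.range ξ.base, ∀ y : C, y ⤳ x → y = x) → IsZero ((EtCoh.stalk ξ).obj F))
    (q : ℕ) (hq : 0 < q) : Subsingleton (EtCoh.H C F q) :=
  H_subsingleton_of_supp_closedPoints f F (isClosed_of_mem_supp_of_curve f hdim F hgen) q hq

end Curve

end Groth.Agent.H60.ClosedPt
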