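import Groth.Agent.H60.ClosedPt5

/-!
# Curves: morphisms of sheaves which are isomorphisms at the maximal points (helper60)
-/

set_option autoImplicit false
open CategoryTheory CategoryTheory.Limits AlgebraicGeometry Opposite Abelian
universe u

namespace Groth.Agent.H60.ClosedPt

variable {X : Scheme.{u}}

section LES

lemma HF_map_apply (q : ℕ) {A B : EtCoh.Ab X} (g : A ⟶ B) (x : EtCoh.H X A q) :
    ((EtCoh.HF X q).map g).hom x = x.comp (Ext.mk₀ g) (add_zero q) := rfl

lemma bijective_HF_map_g {S : ShortComplex (EtCoh.Ab X)} (hS : S.ShortExact) (q : ℕ)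
    (h1 : Subsingleton (EtCoh.H X S.X₁ q)) (h2 : Subsingleton (EtCoh.H X S.X₁ (q + 1))) :
    Function.Bijective ((EtCoh.HF X q).map S.g).hom := by
  constructor
  · rw [injective_iff_map_eq_zero]
    intro x hx
    rw [HF_map_apply] at hx
    obtain ⟨x₁, hx₁⟩ := Ext.covariant_sequence_exact₂ _ hS x hx
    rw [← hx₁, Subsingleton.elim (α := EtCoh.H X S.X₁ q) x₁ 0, Ext.zero_comp]
    rfl
  · intro x₃
    have h0 : x₃.comp hS.extClass (rfl : q + 1 = q + 1) = 0 :=
      Subsingleton.elim (α := EtCoh.H X S.X₁ (q + 1)) _ _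
    obtain ⟨x₂, hx₂⟩ := Ext.covariant_sequence_exact₃ _ hS x₃ rfl h0
    exact ⟨x₂, hx₂⟩

lemma bijective_HF_map_f {S : ShortComplex (EtCoh.Ab X)} (hS : S.ShortExact) (q : ℕ)
    (h1 : Subsingleton (EtCoh.H X S.X₃ q)) (h2 : Subsingleton (EtCoh.H X S.X₃ (q + 1))) :
    Function.Bijective ((EtCoh.HF X (q + 1)).map S.f).hom := by
  constructor
  · rw [injective_iff_map_eq_zero]
    intro x hx
    rw [HF_map_apply] at hx
    obtain ⟨x₃, hx₃⟩ := Ext.covariant_sequence_exact₁ _ hS x hx rfl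
    rw [← hx₃, Subsingleton.elim (α := EtCoh.H X S.X₃ q) x₃ 0, Ext.zero_comp]
    rfl
  · intro x₂
    have h0 : x₂.comp (Ext.mk₀ S.g) (add_zero (q + 1)) = 0 :=
      Subsingleton.elim (α := EtCoh.H X S.X₃ (q + 1)) _ _
    obtain ⟨x₁, hx₁⟩ := Ext.covariant_sequence_exact₂ _ hS x₂ h0
    exact ⟨x₁, hx₁⟩

end LES

section Iso

variable {k : Type u} [Field k] [IsSepClosed k] {C : Scheme.{u}}
  (f : C ⟶ Spec (CommRingCat.of k)) [LocallyOfFiniteType f] [QuasiCompact f]

include f in
theorem isIso_HF_map_of_curve (hdim : topologicalKrullDim C ≤ 1) {F G : EtCoh.Ab C} (φ : F ⟶ G)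
    (hgen : ∀ (Ω : Type u) [Field Ω] [IsSepClosed Ω] (ξ : Spec (CommRingCat.of Ω) ⟶ C),
      (∀ x ∈ Set.range ξ.base, ∀ y : C, y ⤳ x → y = x) → IsIso ((EtCoh.stalk ξ).map φ)) :
    (∀ q : ℕ, 1 < q → IsIso ((EtCoh.HF C q).map φ)) ∧
      (Epi φ → IsIso ((EtCoh.HF C 1).map φ)) := by
  -- kernel and cokernel are acyclic
  have hK : ∀ q : ℕ, 0 < q → Subsingleton (EtCoh.H C (kernel φ) q) := by
    intro q hq
    apply H_subsingleton_of_curve f hdim _ _ q hq
    intro Ω _ _ ξ hξ
    have := hgen Ω ξ hξ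
    have h0 : (EtCoh.stalk ξ).map (kernel.ι φ) ≫ (EtCoh.stalk ξ).map φ = 0 := by
      rw [← Functor.map_comp, kernel.condition, Functor.map_zero]
    have h1 : (EtCoh.stalk ξ).map (kernel.ι φ) = 0 := by
      rw [← cancel_mono ((EtCoh.stalk ξ).map φ), h0, zero_comp]
    exact IsZero.of_mono_eq_zero _ h1
  have hQ : ∀ q : ℕ, 0 < q → Subsingleton (EtCoh.H C (cokernel φ) q) := by
    intro q hq
    apply H_subsingleton_of_curve f hdim _ _ q hq
    intro Ω _ _ ξ hξ
    have := hgen Ω ξ hξ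
    have h0 : (EtCoh.stalk ξ).map φ ≫ (EtCoh.stalk ξ).map (cokernel.π φ) = 0 := by
      rw [← Functor.map_comp, cokernel.condition, Functor.map_zero]
    have h1 : (EtCoh.stalk ξ).map (cokernel.π φ) = 0 := by
      rw [← cancel_epi ((EtCoh.stalk ξ).map φ), h0, comp_zero]
    have : Epi ((EtCoh.stalk ξ).map (cokernel.π φ)) := inferInstance
    exact IsZero.of_epi_eq_zero _ h1
  -- the two short exact sequences
  let SA : ShortComplex (EtCoh.Ab C) :=
    ShortComplex.mk (kernel.ι φ) (Abelian.coimage.π φ) (cokernel.condition _)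
  have hSA : SA.ShortExact := by
    have : Mono SA.f := inferInstanceAs (Mono (kernel.ι φ))
    have : Epi SA.g := inferInstanceAs (Epi (cokernel.π (kernel.ι φ)))
    exact ShortComplex.ShortExact.mk
      (ShortComplex.exact_of_g_is_cokernel _ (cokernelIsCokernel (kernel.ι φ)))
  let SB : ShortComplex (EtCoh.Ab C) :=
    ShortComplex.mk (Abelian.image.ι φ) (cokernel.π φ) (kernel.condition _)
  have hSB : SB.ShortExact := by
    have : Mono SB.f := inferInstanceAs (Mono (kernel.ι (cokernel.π φ)))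
    have : Epi SB.g := inferInstanceAs (Epi (cokernel.π φ))
    exact ShortComplex.ShortExact.mk
      (ShortComplex.exact_of_f_is_kernel _ (kernelIsKernel (cokernel.π φ)))
  have hfac : Abelian.coimage.π φ ≫ Abelian.coimageImageComparison φ ≫ Abelian.image.ι φ = φ :=
    Abelian.coimage_image_factorisation φ
  have hA : ∀ q : ℕ, 0 < q → IsIso ((EtCoh.HF C q).map (Abelian.coimage.π φ)) := by
    intro q hq
    rw [ConcreteCategory.isIso_iff_bijective]
    exact bijective_HF_map_g hSA q (hK q hq) (hK (q + 1) (Nat.succ_pos q))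
  constructor
  · intro q hq
    obtain ⟨q₀, rfl⟩ : ∃ q₀, q = q₀ + 1 := ⟨q - 1, by omega⟩
    have h1 := hA (q₀ + 1) (Nat.succ_pos _)
    have h3 : IsIso ((EtCoh.HF C (q₀ + 1)).map (Abelian.image.ι φ)) := by
      rw [ConcreteCategory.isIso_iff_bijective]
      exact bijective_HF_map_f hSB q₀ (hQ q₀ (by omega)) (hQ (q₀ + 1) (Nat.succ_pos _))
    rw [← hfac, Functor.map_comp, Functor.map_comp]
    infer_instance
  · intro hepi
    have h1 := hA 1 Nat.one_pos
    have hz : IsZero (cokernel φ) := isZero_cokernel_of_epi φ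
    have : Epi (Abelian.image.ι φ) := by
      have h4 : Epi (Abelian.coimage.π φ ≫ Abelian.coimageImageComparison φ ≫
          Abelian.image.ι φ) := by rw [hfac]; exact hepi
      have h5 : Epi ((Abelian.coimage.π φ ≫ Abelian.coimageImageComparison φ) ≫
          Abelian.image.ι φ) := by rwa [Category.assoc]
      exact epi_of_epi (Abelian.coimage.π φ ≫ Abelian.coimageImageComparison φ) _
    have : IsIso (Abelian.image.ι φ) := isIso_of_mono_of_epi _
    rw [← hfac, Functor.map_comp, Functor.map_comp]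
    infer_instance

end Iso

end Groth.Agent.H60.ClosedPt
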