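import Groth.Agent.H60.CechPost2
import Groth.Agent.S0455

/-!
# Čech vanishing via a coarser topology (helper60)

For a family of opens `U_i` of `X`, `Yc U` is the set `⋃ U_i` with the topology whose opens are the
unions of finite intersections `U_{i_0} ∩ … ∩ U_{i_p}`; `Φ U : Opens (Y U) ⥤ Opens X` views such an open
as an open of `X` (preserves nonempty finite intersections); `F' U F` is `F` as a sheaf on `Y U`.
If `F(⋃ U_i) → F(U')` is onto for all such unions `U'` then `F'` is flasque (`isFlasque`), and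
`main` deduces the vanishing of the Čech cohomology of `F` w.r.t. `U` from S0455 (flasque case).
-/

set_option autoImplicit false
universe u
open CategoryTheory CategoryTheory.Limits TopologicalSpace Opposite

namespace Groth.Agent.H60.CoarseTop

variable {X : TopCat.{u}} {ι : Type u} (U : ι → Opens X)

/-- the set `⋃ U_i`, to be given the topology generated by the finite intersections of the `U_i` -/
def Yc : Type u := ↥(iSup U)

/-- the inclusion into `X` -/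
def toX : Yc U → X := Subtype.val

lemma toX_injective : Function.Injective (toX U) := Subtype.val_injective

lemma toX_mem (y : Yc U) : toX U y ∈ iSup U := y.2

/-- basic sets: traces of finite intersections -/
def basic (σ : Σ p : ℕ, Fin (p + 1) → ι) : Set (Yc U) := {y | ∀ j, toX U y ∈ U (σ.2 j)}

lemma forall_append {m n : ℕ} (a : Fin m → ι) (b : Fin n → ι) (P : ι → Prop) :
    (∀ j, P (Fin.append a b j)) ↔ (∀ i, P (a i)) ∧ (∀ i, P (b i)) := by
  constructor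
  · intro h
    refine ⟨fun i => ?_, fun i => ?_⟩
    · have := h (Fin.castAdd n i)
      rwa [Fin.append_left] at this
    · have := h (Fin.natAdd m i)
      rwa [Fin.append_right] at this
  · rintro ⟨h1, h2⟩ j
    refine Fin.addCases (fun i => ?_) (fun i => ?_) j
    · rw [Fin.append_left]; exact h1 i
    · rw [Fin.append_right]; exact h2 i

lemma basic_append (σ₁ σ₂ : Σ p : ℕ, Fin (p + 1) → ι) :
    basic U ⟨σ₁.1 + 1 + σ₂.1, @Fin.append (σ₁.1 + 1) (σ₂.1 + 1) ι σ₁.2 σ₂.2⟩ =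
      basic U σ₁ ∩ basic U σ₂ := by
  ext y
  exact forall_append σ₁.2 σ₂.2 (fun i => toX U y ∈ U i)

instance : TopologicalSpace (Yc U) where
  IsOpen s := ∀ y ∈ s, ∃ σ, y ∈ basic U σ ∧ basic U σ ⊆ s
  isOpen_univ := by
    intro y _
    obtain ⟨i, hi⟩ := Opens.mem_iSup.1 (toX_mem U y)
    exact ⟨⟨0, fun _ => i⟩, fun _ => hi, Set.subset_univ _⟩
  isOpen_inter := by
    intro s t hs ht y hy
    obtain ⟨σ₁, h1, h1'⟩ := hs y hy.1
    obtain ⟨σ₂, h2, h2'⟩ := ht y hy.2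
    refine ⟨⟨σ₁.1 + 1 + σ₂.1, @Fin.append (σ₁.1 + 1) (σ₂.1 + 1) ι σ₁.2 σ₂.2⟩, ?_, ?_⟩
    · rw [basic_append]; exact ⟨h1, h2⟩
    · rw [basic_append]; exact Set.inter_subset_inter h1' h2'
  isOpen_sUnion := by
    intro S hS y hy
    obtain ⟨s, hs, hys⟩ := hy
    obtain ⟨σ, h1, h2⟩ := hS s hs y hys
    exact ⟨σ, h1, h2.trans (Set.subset_sUnion_of_mem hs)⟩

lemma isOpen_iff (s : Set (Yc U)) :
    IsOpen s ↔ ∀ y ∈ s, ∃ σ, y ∈ basic U σ ∧ basic U σ ⊆ s := Iff.rfl

lemma isOpen_basic (σ : Σ p : ℕ, Fin (p + 1) → ι) : IsOpen (basic U σ) :=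
  fun _ hy => ⟨σ, hy, subset_rfl⟩

/-- the coarse space -/
abbrev Y : TopCat.{u} := TopCat.of (Yc U)

/-- the subspace -/
abbrev T : TopCat.{u} := TopCat.of ↥(iSup U)

/-- the open embedding `⋃ U_i ⟶ X` -/
def jj : T U ⟶ X := TopCat.ofHom ⟨Subtype.val, continuous_subtype_val⟩

lemma jj_isOpenEmbedding : Topology.IsOpenEmbedding (jj U) := (iSup U).isOpenEmbedding'

/-- the identity map to the coarse space -/
def toYc : ↥(iSup U) → Yc U := fun y => y

lemma continuous_toYc : Continuous (toYc U) := by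
  rw [continuous_def]
  intro s hs
  rw [isOpen_iff_forall_mem_open]
  intro y hy
  obtain ⟨σ, h1, h2⟩ := (isOpen_iff U s).1 hs (toYc U y) hy
  refine ⟨{y : ↥(iSup U) | ∀ j, (y : X) ∈ U (σ.2 j)}, fun z hz => h2 hz, ?_, h1⟩
  have : {y : ↥(iSup U) | ∀ j, (y : X) ∈ U (σ.2 j)} =
      ⋂ j, (Subtype.val : ↥(iSup U) → X) ⁻¹' (U (σ.2 j) : Set X) := by
    ext z; simp
  rw [this]
  exact isOpen_iInter_of_finite fun j => (U (σ.2 j)).isOpen.preimage continuous_subtype_val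

/-- the identity, from the subspace topology to the coarse topology -/
def cc : T U ⟶ Y U := TopCat.ofHom ⟨toYc U, continuous_toYc U⟩

/-- `W ↦ W` viewed as an open of `X` -/
def Φ : Opens (Y U) ⥤ Opens X := Opens.map (cc U) ⋙ (jj_isOpenEmbedding U).functor

lemma mem_Φ (W : Opens (Y U)) (x : X) : x ∈ (Φ U).obj W ↔ ∃ y : Yc U, y ∈ W ∧ toX U y = x := by
  constructor
  · rintro ⟨y, hy, rfl⟩
    exact ⟨y, hy, rfl⟩
  · rintro ⟨y, hy, rfl⟩
    exact ⟨y, hy, rfl⟩

variable (F : CohTop.Ab X)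

/-- the sheaf `F` on the coarse space -/
noncomputable def F' : CohTop.Ab (Y U) :=
  ⟨(Φ U).op ⋙ F.obj, TopCat.Sheaf.pushforward_sheaf_of_sheaf (cc U)
    (TopCat.Presheaf.isSheaf_of_isOpenEmbedding (jj_isOpenEmbedding U) F.2)⟩

lemma Φ_le (W : Opens (Y U)) : (Φ U).obj W ≤ iSup U := by
  intro x hx
  obtain ⟨y, -, rfl⟩ := (mem_Φ U W x).1 hx
  exact toX_mem U y

/-- every open of the coarse space is a union of finite intersections -/
lemma Φ_eq (W : Opens (Y U)) :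
    (Φ U).obj W = ⨆ k : {σ : Σ p : ℕ, Fin (p + 1) → ι // basic U σ ⊆ (W : Set (Yc U))},
      ⨅ j, U (k.1.2 j) := by
  ext x
  simp only [SetLike.mem_coe]
  rw [mem_Φ, Opens.mem_iSup]
  constructor
  · rintro ⟨y, hy, rfl⟩
    obtain ⟨σ, h1, h2⟩ := (isOpen_iff U _).1 W.2 y hy
    refine ⟨⟨σ, h2⟩, ?_⟩
    rw [← SetLike.mem_coe, Opens.coe_iInf]
    exact Set.mem_iInter.2 h1
  · rintro ⟨⟨σ, h2⟩, hx⟩
    rw [← SetLike.mem_coe, Opens.coe_iInf] at hx
    have hx' := Set.mem_iInter.1 hx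
    have hx0 : x ∈ iSup U := Opens.mem_iSup.2 ⟨σ.2 0, hx' 0⟩
    exact ⟨⟨x, hx0⟩, h2 (fun j => hx' j), rfl⟩

section Flasque

variable (h : ∀ (κ : Type u) (a : κ → Σ p : ℕ, Fin (p + 1) → ι),
      Function.Surjective (F.obj.map (homOfLE
        (iSup_le fun k => (iInf_le _ ⟨0, Nat.succ_pos _⟩).trans (le_iSup U ((a k).2 ⟨0, Nat.succ_pos _⟩)) :
          (⨆ k, ⨅ j, U ((a k).2 j)) ≤ iSup U)).op))
include h

lemma surj_of_eq (Z : Opens X) (hle : Z ≤ iSup U) (κ : Type u)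
    (a : κ → Σ p : ℕ, Fin (p + 1) → ι) (hZ : Z = ⨆ k, ⨅ j, U ((a k).2 j)) :
    Function.Surjective (F.obj.map (homOfLE hle).op) := by
  subst hZ
  exact h κ a

lemma isFlasque_a (W₂ : (Opens (Y U))ᵒᵖ) :
    Function.Surjective (F.obj.map (homOfLE (Φ_le U W₂.unop)).op) :=
  surj_of_eq U F h ((Φ U).obj W₂.unop) (Φ_le U W₂.unop)
    {σ : Σ p : ℕ, Fin (p + 1) → ι // basic U σ ⊆ (W₂.unop : Set (Yc U))} (fun k => k.1)
    (Φ_eq U W₂.unop)

omit h in
lemma isFlasque_b (W₁ W₂ : (Opens (Y U))ᵒᵖ) (i : W₁ ⟶ W₂) :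
    F.obj.map (homOfLE (Φ_le U W₂.unop)).op =
      F.obj.map (homOfLE (Φ_le U W₁.unop)).op ≫ F.obj.map ((Φ U).map i.unop).op := by
  rw [← F.obj.map_comp, ← op_comp]
  exact congrArg (fun k : (Φ U).obj W₂.unop ⟶ iSup U => F.obj.map k.op) (Subsingleton.elim _ _)

lemma isFlasque : TopCat.Sheaf.IsFlasque (F' U F) := by
  constructor
  intro W₁ W₂ i
  rw [AddCommGrpCat.epi_iff_surjective]
  intro x
  obtain ⟨y, hy⟩ := isFlasque_a U F h W₂ x
  refine ⟨(F.obj.map (homOfLE (Φ_le U W₁.unop)).op).hom y, ?_⟩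
  have h3 := congrArg (fun k => k.hom y) (isFlasque_b U F W₁ W₂ i)
  exact h3.symm.trans hy

end Flasque

/-- the cover, on the coarse space -/
def U' (i : ι) : Opens (Y U) := ⟨basic U ⟨0, fun _ => i⟩, isOpen_basic U _⟩

lemma Φ_U' : (Φ U).obj ∘ U' U = U := by
  funext i
  ext x
  simp only [Function.comp_apply, SetLike.mem_coe]
  rw [mem_Φ]
  constructor
  · rintro ⟨y, hy, rfl⟩
    exact hy 0
  · intro hx
    exact ⟨⟨x, Opens.mem_iSup.2 ⟨i, hx⟩⟩, fun _ => hx, rfl⟩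

instance preservesΦ (n : ℕ) : PreservesLimitsOfShape (Discrete (Fin (n + 1))) (Φ U) := by
  constructor
  intro K
  refine preservesLimit_of_preserves_limit_cone (CompleteLattice.limitCone K).isLimit ?_
  refine
    { lift := fun s => homOfLE ?_
      fac := fun _ _ => Subsingleton.elim _ _
      uniq := fun _ _ _ => Subsingleton.elim _ _ }
  intro x hx
  have hk : ∀ k : Fin (n + 1), ∃ y : Yc U, y ∈ K.obj ⟨k⟩ ∧ toX U y = x := fun k =>
    (mem_Φ U _ x).1 ((s.π.app ⟨k⟩).le hx)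
  obtain ⟨y, hy0, rfl⟩ := hk 0
  refine (mem_Φ U _ _).2 ⟨y, ?_, rfl⟩
  change y ∈ (⨅ k, K.obj k : Opens (Y U))
  rw [← SetLike.mem_coe, Opens.coe_iInf]
  refine Set.mem_iInter.2 fun k => ?_
  obtain ⟨y', hy', e⟩ := hk k.as
  have : y' = y := toX_injective U e
  subst this
  exact hy'

/-- Čech vanishing from surjectivity of the restrictions to unions of finite intersections. -/
theorem main (h : ∀ (κ : Type u) (a : κ → Σ p : ℕ, Fin (p + 1) → ι),
      Function.Surjective (F.obj.map (homOfLE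
        (iSup_le fun k => (iInf_le _ ⟨0, Nat.succ_pos _⟩).trans (le_iSup U ((a k).2 ⟨0, Nat.succ_pos _⟩)) :
          (⨆ k, ⨅ j, U ((a k).2 j)) ≤ iSup U)).op)) (p : ℕ) :
    IsZero (CohTop.cechH F.obj U (p + 1)) := by
  haveI := isFlasque U F h
  have h0 : IsZero (CohTop.cechH (F' U F).obj (U' U) (p + 1)) :=
    Groth.Agent.S0455.result (F' U F) (U' U) p
  have h1 := (Groth.Agent.H60.CechPost2.isZero_homology_iff (Φ U) (U' U) F.obj (p + 1)).1 h0
  rw [Φ_U'] at h1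
  exact h1

end Groth.Agent.H60.CoarseTop
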