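import Groth.Agent.H60.CocontH

set_option autoImplicit false
open CategoryTheory CategoryTheory.Limits Opposite
universe u

namespace Groth.Agent.H60.CocontH

open Groth.Agent.H30.OverShriek Groth.Agent.H31.SieveExt Groth.Agent.H31.LeraySS

variable {C D : Type u} [SmallCategory C] [SmallCategory D]
  (J : GrothendieckTopology C) (K : GrothendieckTopology D) (u : C ⥤ D)
  [HasPullbacks C] [PreservesLimitsOfShape WalkingCospan u]
  [u.IsContinuous J K] [u.IsCocontinuous J K]

theorem nonempty_HU_push_addEquiv (hu : CoverPreserving J K u)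
    (F : Sheaf K AddCommGrpCat.{u}) (U : C) (p : ℕ) :
    Nonempty (CohSite.HU ((CohSite.push K J u).obj F) p U ≃+ CohSite.HU F p (u.obj U)) := by
  obtain ⟨e⟩ := Groth.Agent.H31.DeltaComp.nonempty_addEquiv (CohSite.push K J u)
    (ZX K (u.obj U)) (ZX J U) (sigmaAdd K J u U)
    (fun {M M'} g x => by
      rw [sigmaAdd_apply, sigmaAdd_apply, Functor.map_comp, Category.assoc])
    (fun I hI m => subsingleton_HU_push_injective J K u U hu I m) p F
  exact ⟨e.symm⟩


section global

open Abelian

variable {𝒜 : Type (u + 1)} [Category.{u} 𝒜] [Abelian 𝒜] [HasExt.{u} 𝒜]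

lemma subsingleton_ext_of_iso {X X' M : 𝒜} (e : X ≅ X') (n : ℕ)
    (h : Subsingleton (Ext X' M n)) : Subsingleton (Ext X M n) := by
  refine subsingleton_of_forall_eq 0 fun x => ?_
  have h1 : (Ext.mk₀ e.inv).comp x (zero_add n) = 0 := Subsingleton.elim _ _
  have h2 : x = (Ext.mk₀ e.hom).comp ((Ext.mk₀ e.inv).comp x (zero_add n)) (zero_add n) := by
    rw [Ext.mk₀_comp_mk₀_assoc, e.hom_inv_id, Ext.mk₀_id_comp]
  rw [h2, h1, Ext.comp_zero]

end global

/-- precomposition with an isomorphism, as an additive equivalence -/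
noncomputable def precompAdd {𝒜 : Type*} [Category 𝒜] [Preadditive 𝒜] {X X' : 𝒜} (e : X ≅ X')
    (M : 𝒜) : (X' ⟶ M) ≃+ (X ⟶ M) :=
  { toFun := fun y => e.hom ≫ y
    invFun := fun y => e.inv ≫ y
    left_inv := fun y => by simp
    right_inv := fun y => by simp
    map_add' := fun y y' => Preadditive.comp_add _ _ _ _ _ _ }

variable [HasTerminal C] [PreservesLimit (Functor.empty.{0} C) u]

/-- the comparison of `Hom` groups out of the constant sheaf `ℤ` -/
noncomputable def phiG (M : Sheaf K AddCommGrpCat.{u}) :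
    ((constantSheaf K AddCommGrpCat.{u}).obj (AddCommGrpCat.of (ULift.{u} ℤ)) ⟶ M) ≃+
      ((constantSheaf J AddCommGrpCat.{u}).obj (AddCommGrpCat.of (ULift.{u} ℤ)) ⟶
        (CohSite.push K J u).obj M) :=
  ((precompAdd (Groth.Agent.H60.OverH.constIso K
      (IsTerminal.isTerminalObj u _ terminalIsTerminal)).symm M).trans
    (sigmaAdd K J u (⊤_ C) M)).trans
    (precompAdd (Groth.Agent.H60.OverH.constIso J terminalIsTerminal) _)

theorem nonempty_H_push_addEquiv (hu : CoverPreserving J K u)
    (F : Sheaf K AddCommGrpCat.{u}) (p : ℕ) :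
    Nonempty (Sheaf.H.{u} ((CohSite.push K J u).obj F) p ≃+ Sheaf.H.{u} F p) := by
  obtain ⟨e⟩ := Groth.Agent.H31.DeltaComp.nonempty_addEquiv (CohSite.push K J u)
    ((constantSheaf K AddCommGrpCat.{u}).obj (AddCommGrpCat.of (ULift.{u} ℤ)))
    ((constantSheaf J AddCommGrpCat.{u}).obj (AddCommGrpCat.of (ULift.{u} ℤ)))
    (phiG J K u)
    (fun {M M'} g x => by
      show (Groth.Agent.H60.OverH.constIso J terminalIsTerminal).hom ≫
          sigmaAdd K J u (⊤_ C) M' ((Groth.Agent.H60.OverH.constIso K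
            (IsTerminal.isTerminalObj u _ terminalIsTerminal)).symm.hom ≫ x ≫ g) =
        ((Groth.Agent.H60.OverH.constIso J terminalIsTerminal).hom ≫
          sigmaAdd K J u (⊤_ C) M ((Groth.Agent.H60.OverH.constIso K
            (IsTerminal.isTerminalObj u _ terminalIsTerminal)).symm.hom ≫ x)) ≫
          (CohSite.push K J u).map g
      rw [sigmaAdd_apply, sigmaAdd_apply, ← Category.assoc _ x g, Functor.map_comp,
        Category.assoc, Category.assoc])
    (fun I hI m => by
      have := subsingleton_HU_push_injective J K u (⊤_ C) hu I m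
      exact subsingleton_ext_of_iso (Groth.Agent.H60.OverH.constIso J terminalIsTerminal) _ this)
    p F
  exact ⟨e.symm⟩

end Groth.Agent.H60.CocontH
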