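import Mathlib

open CategoryTheory Limits Opposite

universe v u

namespace Groth.Agent.H60.NerveInd

variable {𝒞 : Type u} [Category.{v} 𝒞] {B X : 𝒞} (f : X ⟶ B)
  [∀ n : ℕ, HasWidePullback B (fun _ : Fin (n + 1) => X) (fun _ => f)]

/-- the `(n+1)`-fold fibre power of `X` over `B`. -/
noncomputable abbrev WP (n : ℕ) : 𝒞 := widePullback B (fun _ : Fin (n + 1) => X) (fun _ => f)

/-- forgetting the last factor. -/
noncomputable def init (n : ℕ) : WP f (n + 1) ⟶ WP f n :=
  WidePullback.lift (WidePullback.base _) (fun i : Fin (n + 1) => WidePullback.π _ (Fin.castSucc i))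
    (by intro i; simp)

@[reassoc (attr := simp)]
lemma init_π (n : ℕ) (i : Fin (n + 1)) :
    init f n ≫ WidePullback.π _ i = WidePullback.π (fun _ : Fin (n + 1 + 1) => f) (Fin.castSucc i) := by
  simp [init, WidePullback.lift_π, WidePullback.lift_base]

@[reassoc (attr := simp)]
lemma init_base (n : ℕ) :
    init f n ≫ WidePullback.base _ = WidePullback.base (fun _ : Fin (n + 1 + 1) => f) := by
  simp [init, WidePullback.lift_π, WidePullback.lift_base]

lemma isPullback_succ (n : ℕ) :
    IsPullback (init f n) (WidePullback.π (fun _ : Fin (n + 1 + 1) => f) (Fin.last (n + 1)))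
      (WidePullback.base (fun _ : Fin (n + 1) => f)) f := by
  refine ⟨⟨by simp⟩, ⟨PullbackCone.IsLimit.mk _
    (fun s => WidePullback.lift (s.fst ≫ WidePullback.base _)
      (Fin.lastCases s.snd (fun i => s.fst ≫ WidePullback.π _ i)) ?_) ?_ ?_ ?_⟩⟩
  · intro j
    induction j using Fin.lastCases with
    | last => simp [s.condition]
    | cast i => simp
  · intro s
    apply WidePullback.hom_ext
    · intro i
      simp [WidePullback.lift_π]
    · simp [WidePullback.lift_base]
  · intro s
    simp [WidePullback.lift_π]
  · intro s m h1 h2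
    apply WidePullback.hom_ext
    · intro j
      induction j using Fin.lastCases with
      | last => simp [h2, WidePullback.lift_π]
      | cast i => simp [← h1, WidePullback.lift_π]
    · simp [← h1, WidePullback.lift_base]

/-- the zeroth fibre power is `X`. -/
noncomputable def zeroIso : WP f 0 ≅ X where
  hom := WidePullback.π _ 0
  inv := WidePullback.lift f (fun _ => 𝟙 X) (by simp)
  hom_inv_id := by
    apply WidePullback.hom_ext
    · intro i
      obtain rfl : i = 0 := Fin.fin_one_eq_zero i
      simp [WidePullback.lift_π]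
    · simp [WidePullback.lift_base]
  inv_hom_id := by simp [WidePullback.lift_π]

/-- induction principle for properties of the terms of the Čech nerve. -/
theorem prop_WP (P : 𝒞 → Prop) (hiso : ∀ {Y Z : 𝒞}, (Y ≅ Z) → P Y → P Z) (hX : P X)
    (hstep : ∀ {W N : 𝒞} (a : W ⟶ N) (b : W ⟶ X) (g : N ⟶ B), IsPullback a b g f → P N → P W) :
    ∀ n, P (WP f n) := by
  intro n
  induction n with
  | zero => exact hiso (zeroIso f).symm hX
  | succ n ih => exact hstep _ _ _ (isPullback_succ f n) ih

end Groth.Agent.H60.NerveInd
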