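import Groth.Agent.H60.CechColim
import Groth.Agent.H60.NerveInd
import Groth.Agent.H28.ToposAlg
import Groth.Agent.H28.ToposPres

open CategoryTheory Limits Opposite Abelian

universe u

namespace Groth.Agent.H60.CohAcyc

open Groth.Agent.H28 ToposFin Groth.Agent.H60.CechColim

variable {C : Type u} [SmallCategory C] {J : GrothendieckTopology C}
  {S : Set (Sh J)} (hqc : ∀ K ∈ S, IsQC K) (hS : CoversAll S)

include hqc hS in
lemma isCoherent_of_isPullback (heq : ClosedUnderEqualizers S) {W N X B : Sh J} {a : W ⟶ N}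
    {b : W ⟶ X} {g : N ⟶ B} {f : X ⟶ B} (h : IsPullback a b g f) (hN : IsCoherent N)
    (hX : IsCoherent X) (hB : IsCoherent B) : IsCoherent W := by
  constructor
  · exact IsQC.of_iso h.isoPullback.symm (hB.2 N X g f hN.1 hX.1)
  · have hf : IsQSHom f := isQSHom_of_isQS_of_algebraic hqc hS heq hX.2 f
    have ha : IsQSHom a := IsQSHom.of_isPullback_fst hf h
    exact IsQS.of_isQSHom a ha hN.2

include hqc hS in
lemma isCoherent_nerve (heq : ClosedUnderEqualizers S) {K' K : Sh J} (f : K' ⟶ K)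
    (hK' : IsCoherent K') (hK : IsCoherent K) (n : ℕ) : IsCoherent (nerve f n) := by
  have := NerveInd.prop_WP f (fun X => IsCoherent X) (fun e h => IsCoherent.of_iso e h) hK'
    (fun a b g h hN => isCoherent_of_isPullback hqc hS heq h hN hK' hK) n
  exact this

include hqc hS in
lemma exists_refinement (hpb : ClosedUnderPullbacks S) {K : Sh J} (hK : IsCoherent K) (L : Sh J)
    (g : L ⟶ K) (hg : Epi g) :
    ∃ (K' : Sh J) (f : K' ⟶ K) (k : K' ⟶ L), (Epi f ∧ IsCoherent K' ∧ IsCoherent K) ∧ k ≫ g = f := by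
  obtain ⟨ι, F, π, hF, hπ⟩ := hS L
  have hcomp := ((isCover_single_iff_epi.{u, u} g).2 hg).comp (fun _ i => π i) (fun _ => hπ)
  obtain ⟨s, hs⟩ := IsQC.exists_finset hK.1 _ hcomp
  refine ⟨∐ (fun x : s => F x.1.2), Sigma.desc (fun x : s => π x.1.2 ≫ g),
    Sigma.desc (fun x : s => π x.1.2), ⟨?_, ?_, hK⟩, ?_⟩
  · exact (isCover_iff_epi_sigmaDesc _).1 hs
  · exact isCoherent_sigma_of_finite _ (fun x => isCoherent_of_mem hqc hS hpb (hF _))
  · apply Sigma.hom_ext
    intro x
    simp

include hqc hS in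
/-- In an algebraic topos, acyclicity with respect to all coherent objects passes to filtered
colimits. -/
theorem coherent_acyclic_colim (hpb : ClosedUnderPullbacks S) (heq : ClosedUnderEqualizers S)
    {Λ : Type u} [SmallCategory Λ] [IsFiltered Λ] {D : Λ ⥤ Sheaf J AddCommGrpCat.{u}}
    {c : Cocone D} (hc : IsColimit c)
    (hD : ∀ (i : Λ) (K : Sh J), IsCoherent K → ∀ q : ℕ, Subsingleton (CohCx.HK K (D.obj i) (q + 1))) :
    ∀ (K : Sh J), IsCoherent K → ∀ q : ℕ, Subsingleton (CohCx.HK K c.pt (q + 1)) := by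
  have hE : HasQCGenerators J := coversAll_qc_iff.1 (coversAll_qc_of_subset hS hqc)
  refine acyclic_colim hc (fun K => IsCoherent K) (fun K => IsCoherent K)
    (fun {K' K} f => Epi f ∧ IsCoherent K' ∧ IsCoherent K)
    (fun N hN => isFP_of_isCoherent hE hN) (fun F i h N hN => h N hN) ?_ ?_ hD
  · rintro K' K f ⟨h1, h2, h3⟩
    exact ⟨h1, h3, fun n => isCoherent_nerve hqc hS heq f h2 h3 n⟩
  · intro K hK L g hg
    exact exists_refinement hqc hS hpb hK L g hg

end Groth.Agent.H60.CohAcyc
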