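import Groth.Agent.H60.ExtColim2
import Groth.Agent.H60.CohAcyc

open CategoryTheory Limits Opposite Abelian

universe u

namespace Groth.Agent.H60.CohExt

open Groth.Agent.H28 ToposFin Groth.Agent.H31.SieveExt Groth.Agent.H60.ExtColim
  Groth.Agent.H60.HomColim Groth.Agent.H60.CohAcyc

variable {C : Type u} [SmallCategory C] {J : GrothendieckTopology C}
  {Λ : Type u} [SmallCategory Λ] [IsFiltered Λ]

lemma surj0_inj0_of_isFP {K : Sh J} (hfp : IsFP K) (D : Λ ⥤ Sheaf J AddCommGrpCat.{u}) :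
    Surj0 (Zs J K.obj) D ∧ Inj0 (Zs J K.obj) D :=
  ⟨fun φ => hom_surj (colimit.isColimit D) hfp φ,
    fun _ φi h => hom_inj (colimit.isColimit D) hfp φi h⟩

lemma acyc_of_isCoherent {S : Set (Sh J)} (hqc : ∀ K ∈ S, IsQC K) (hS : CoversAll S)
    (hpb : ClosedUnderPullbacks S) (heq : ClosedUnderEqualizers S) {K : Sh J} (hK : IsCoherent K)
    (D : Λ ⥤ Sheaf J AddCommGrpCat.{u}) (hD : ∀ i, Injective (D.obj i)) (q : ℕ)
    (x : Ext (Zs J K.obj) (colimit D) (q + 1)) : x = 0 := by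
  have hsub : Subsingleton (Ext (Zs J K.obj) (colimit D) (q + 1)) :=
    coherent_acyclic_colim hqc hS hpb heq (colimit.isColimit D)
      (fun i K' _ q => subsingleton_of_forall_eq 0 (fun y => Ext.eq_zero_of_injective y)) K hK q
  exact Subsingleton.elim _ _

end Groth.Agent.H60.CohExt
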