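import Mathlib

set_option autoImplicit false
open CategoryTheory CategoryTheory.Limits Opposite
universe u

namespace Groth.Agent.H60.CompFilt

/-- every span can be completed to a commutative square and every parallel pair can be
weakly coequalized: the connected components are filtered -/
structure WeakPO (I : Type u) [SmallCategory I] : Prop where
  span : ∀ {a b c : I} (f : c ⟶ a) (g : c ⟶ b), ∃ (d : I) (f' : a ⟶ d) (g' : b ⟶ d), f ≫ f' = g ≫ g'
  coeq : ∀ {a b : I} (f g : a ⟶ b), ∃ (d : I) (h : b ⟶ d), f ≫ h = g ≫ h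

variable {I : Type u} [SmallCategory I]

lemma WeakPO.cospan_of_zigzag (h : WeakPO I) {a b : I} (z : Zigzag a b) :
    ∃ (d : I), Nonempty (a ⟶ d) ∧ Nonempty (b ⟶ d) := by
  induction z with
  | refl => exact ⟨a, ⟨𝟙 a⟩, ⟨𝟙 a⟩⟩
  | tail _ hz ih =>
    obtain ⟨d, ⟨f⟩, ⟨g⟩⟩ := ih
    rcases hz with ⟨⟨k⟩⟩ | ⟨⟨k⟩⟩
    · obtain ⟨d', f', g', _⟩ := h.span g k
      exact ⟨d', ⟨f ≫ f'⟩, ⟨g'⟩⟩
    · exact ⟨d, ⟨f⟩, ⟨k ≫ g⟩⟩

variable (I) in
/-- the projection to the discrete category of connected components -/
def proj : I ⥤ Discrete (ConnectedComponents I) :=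
  ConnectedComponents.functorToDiscrete (ConnectedComponents I) id

lemma isFiltered_costructuredArrow (h : WeakPO I) (c : Discrete (ConnectedComponents I)) :
    IsFiltered (CostructuredArrow (proj I) c) := by
  have hsub : ∀ (X Y : Discrete (ConnectedComponents I)), Subsingleton (X ⟶ Y) :=
    fun X Y => inferInstance
  have hne : Nonempty (CostructuredArrow (proj I) c) := by
    obtain ⟨c⟩ := c
    obtain ⟨i, rfl⟩ := Quotient.exists_rep c
    exact ⟨CostructuredArrow.mk (Y := i) (𝟙 _)⟩
  have : IsFilteredOrEmpty (CostructuredArrow (proj I) c) := by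
    refine ⟨fun X Y => ?_, fun X Y f g => ?_⟩
    · have e : (⟦X.left⟧ : ConnectedComponents I) = ⟦Y.left⟧ :=
        (Discrete.eq_of_hom X.hom).trans (Discrete.eq_of_hom Y.hom).symm
      obtain ⟨d, ⟨f⟩, ⟨g⟩⟩ := h.cospan_of_zigzag (Quotient.exact e)
      let Z : CostructuredArrow (proj I) c := CostructuredArrow.mk (Y := d)
        (inv ((proj I).map g) ≫ Y.hom)
      exact ⟨Z, CostructuredArrow.homMk f (Subsingleton.elim _ _),
        CostructuredArrow.homMk g (Subsingleton.elim _ _), trivial⟩
    · obtain ⟨d, k, hk⟩ := h.coeq f.left g.left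
      let Z : CostructuredArrow (proj I) c := CostructuredArrow.mk (Y := d)
        (inv ((proj I).map k) ≫ Y.hom)
      refine ⟨Z, CostructuredArrow.homMk k (Subsingleton.elim _ _), ?_⟩
      ext
      exact hk
  exact { }


/-- left Kan extension to the discrete category of components is exact -/
lemma preservesFiniteLimits_lan_proj (h : WeakPO I) :
    PreservesFiniteLimits ((proj I).lan :
      (I ⥤ AddCommGrpCat.{u}) ⥤ (Discrete (ConnectedComponents I) ⥤ AddCommGrpCat.{u})) := by
  apply preservesFiniteLimits_of_preservesFiniteLimitsOfSize.{u}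
  intro J _ _
  apply preservesLimitsOfShape_of_evaluation ((proj I).lan :
      (I ⥤ AddCommGrpCat.{u}) ⥤ (Discrete (ConnectedComponents I) ⥤ AddCommGrpCat.{u})) J
  intro c
  have := isFiltered_costructuredArrow h c
  exact preservesLimitsOfShape_of_natIso (CategoryTheory.lanEvaluationIsoColim _ _ _).symm

/-- colimits of abelian groups over a category with filtered connected components are exact -/
theorem preservesFiniteLimits_colim (h : WeakPO I) :
    PreservesFiniteLimits (colim : (I ⥤ AddCommGrpCat.{u}) ⥤ AddCommGrpCat.{u}) := by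
  have h1 := preservesFiniteLimits_lan_proj h
  have h2 : PreservesFiniteLimits (colim :
      (Discrete (ConnectedComponents I) ⥤ AddCommGrpCat.{u}) ⥤ AddCommGrpCat.{u}) := inferInstance
  have h3 : PreservesFiniteLimits ((proj I).lan ⋙ (colim :
      (Discrete (ConnectedComponents I) ⥤ AddCommGrpCat.{u}) ⥤ AddCommGrpCat.{u})) :=
    comp_preservesFiniteLimits _ _
  exact preservesFiniteLimits_of_natIso (Functor.lanCompColimIso (proj I))

end Groth.Agent.H60.CompFilt
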