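import Groth.Agent.H60.OverH2
import Groth.Prelude.Def_ToposFin2

set_option autoImplicit false
open CategoryTheory CategoryTheory.Limits Opposite
universe u

namespace Groth.Agent.H60.ConstTop

open Groth.Agent.H31.SieveExt Groth.Agent.H60.OverH

variable {C : Type u} [SmallCategory C] (J : GrothendieckTopology C)

/-- the constant presheaf on a point is terminal. -/
def isTerminalConstPUnit : IsTerminal ((Functor.const Cᵒᵖ).obj PUnit.{u + 1} : Cᵒᵖ ⥤ Type u) :=
  IsTerminal.ofUniqueHom (fun P => { app := fun W => ↾fun _ => PUnit.unit })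
    (fun P m => by
      ext W x
      rfl)

/-- the underlying presheaf of the terminal sheaf is the constant presheaf on a point. -/
noncomputable def topIso : (⊤_ (Sheaf J (Type u))).obj ≅ (Functor.const Cᵒᵖ).obj PUnit.{u + 1} :=
  (IsTerminal.isTerminalObj (sheafToPresheaf J (Type u)) _ terminalIsTerminal).uniqueUpToIso
    isTerminalConstPUnit

/-- the constant sheaf `ℤ` is the free abelian sheaf on the terminal sheaf. -/
noncomputable def constIsoTop :
    (constantSheaf J AddCommGrpCat.{u}).obj (AddCommGrpCat.of (ULift.{u} ℤ)) ≅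
      Zs J (⊤_ (Sheaf J (Type u))).obj :=
  (presheafToSheaf J AddCommGrpCat.{u}).mapIso
    ((Functor.const Cᵒᵖ).mapIso freePUnitIso.symm ≪≫
      (Functor.constComp Cᵒᵖ PUnit.{u + 1} AddCommGrpCat.free.{u}).symm ≪≫
      Functor.isoWhiskerRight (topIso J).symm AddCommGrpCat.free.{u})

end Groth.Agent.H60.ConstTop
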