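import Mathlib

/-!
# Sections over quasi-compact objects commute with filtered colimits of sheaves

Abstract site-theoretic version.  `QC : C → Prop` is a class of "quasi-compact" objects such that every
covering sieve of a `QC` object contains a finite covering family of `QC` objects, and `QC` is stable under
fibre products.  Then for a filtered colimit `P` (computed in presheaves) of sheaves of sets, the
sheafification map `P ⟶ P^#` is bijective on sections over every `QC` object.
-/

set_option autoImplicit false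

namespace Groth.Agent.H60.QCColim

open CategoryTheory Limits Opposite

universe w v u

variable {C : Type u} [Category.{v} C] [HasPullbacks C] (J : GrothendieckTopology C)

/-- Hypotheses on a class of "quasi-compact" objects of a site. -/
structure QCClass (QC : C → Prop) : Prop where
  cov : ∀ U, QC U → ∀ S ∈ J U, ∃ (n : ℕ) (V : Fin n → C) (f : ∀ k, V k ⟶ U),
      (∀ k, QC (V k)) ∧ (∀ k, S.arrows (f k)) ∧ Sieve.ofArrows V f ∈ J U
  pb : ∀ {A B U : C} (f : A ⟶ U) (g : B ⟶ U), QC A → QC B → QC U → QC (pullback f g)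

/-- The gluing property of a presheaf of sets for finite covering families of quasi-compact objects. -/
def FinGlue (QC : C → Prop) (P : Cᵒᵖ ⥤ Type w) : Prop :=
  ∀ (U : C), QC U → ∀ (n : ℕ) (V : Fin n → C) (f : ∀ k, V k ⟶ U), (∀ k, QC (V k)) →
    Sieve.ofArrows V f ∈ J U → ∀ x : ∀ k, P.obj (op (V k)),
    (∀ k l, P.map (pullback.fst (f k) (f l)).op (x k) = P.map (pullback.snd (f k) (f l)).op (x l)) →
    ∃! t : P.obj (op U), ∀ k, P.map (f k).op t = x k

variable {J}

section LemmaA

variable {QC : C → Prop} (h : QCClass J QC) {P G : Cᵒᵖ ⥤ Type w} (hP : FinGlue J QC P)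
  (φ : P ⟶ G)

include h hP in
lemma injective_of_finGlue [Presheaf.IsLocallyInjective J φ] (U : C) (hU : QC U) :
    Function.Injective (φ.app (op U)) := by
  intro s t hst
  have hmem := Presheaf.equalizerSieve_mem J φ (X := op U) s t hst
  obtain ⟨n, V, f, hV, hf, hcov⟩ := h.cov U hU _ hmem
  obtain ⟨t0, -, huniq⟩ := hP U hU n V f hV hcov (fun k => P.map (f k).op s) (by
    intro k l
    have e : (pullback.fst (f k) (f l)) ≫ f k = (pullback.snd (f k) (f l)) ≫ f l :=
      pullback.condition
    have e1 : P.map (pullback.fst (f k) (f l)).op (P.map (f k).op s) =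
        P.map ((pullback.fst (f k) (f l)) ≫ f k).op s := by
      rw [op_comp, P.map_comp]; rfl
    have e2 : P.map (pullback.snd (f k) (f l)).op (P.map (f l).op s) =
        P.map ((pullback.snd (f k) (f l)) ≫ f l).op s := by
      rw [op_comp, P.map_comp]; rfl
    rw [e1, e2, e])
  have hs : s = t0 := huniq s (fun k => rfl)
  have ht : t = t0 := huniq t (fun k => (hf k).symm)
  rw [hs, ht]

include h hP in
theorem bijective_of_finGlue (hG : Presieve.IsSeparated J G)
    [Presheaf.IsLocallyInjective J φ] [Presheaf.IsLocallySurjective J φ] (U : C) (hU : QC U) :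
    Function.Bijective (φ.app (op U)) := by
  refine ⟨injective_of_finGlue h hP φ U hU, ?_⟩
  intro g
  have hmem := Presheaf.imageSieve_mem J φ (U := op U) g
  obtain ⟨n, V, f, hV, hf, hcov⟩ := h.cov U hU _ hmem
  choose x hx using hf
  have hcompat : ∀ k l, P.map (pullback.fst (f k) (f l)).op (x k) =
      P.map (pullback.snd (f k) (f l)).op (x l) := by
    intro k l
    apply injective_of_finGlue h hP φ _ (h.pb (f k) (f l) (hV k) (hV l) hU)
    have n1 := NatTrans.naturality_apply φ (pullback.fst (f k) (f l)).op (x k)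
    have n2 := NatTrans.naturality_apply φ (pullback.snd (f k) (f l)).op (x l)
    rw [n1, n2, hx k, hx l]
    have e : (pullback.fst (f k) (f l)) ≫ f k = (pullback.snd (f k) (f l)) ≫ f l :=
      pullback.condition
    have e1 : G.map (pullback.fst (f k) (f l)).op (G.map (f k).op g) =
        G.map ((pullback.fst (f k) (f l)) ≫ f k).op g := by
      rw [op_comp, G.map_comp]; rfl
    have e2 : G.map (pullback.snd (f k) (f l)).op (G.map (f l).op g) =
        G.map ((pullback.snd (f k) (f l)) ≫ f l).op g := by
      rw [op_comp, G.map_comp]; rfl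
    rw [e1, e2, e]
  obtain ⟨t, ht, -⟩ := hP U hU n V f hV hcov x hcompat
  refine ⟨t, ?_⟩
  apply (hG _ hcov).ext
  rintro Y _ ⟨Z, a, _, ⟨k⟩, rfl⟩
  have n1 := NatTrans.naturality_apply φ (f k).op t
  have e1 : G.map (a ≫ f k).op (φ.app (op U) t) = G.map a.op (G.map (f k).op (φ.app (op U) t)) := by
    rw [op_comp, G.map_comp]; rfl
  have e2 : G.map (a ≫ f k).op g = G.map a.op (G.map (f k).op g) := by
    rw [op_comp, G.map_comp]; rfl
  rw [e1, e2, ← n1, ht k, hx k]

end LemmaA

section LemmaB

/-- Finitely many eventually-true (and persistent) predicates on stages after `i` of a filtered category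
hold simultaneously at a common stage. -/
lemma exists_common {I : Type*} [Category I] [IsFiltered I] (i : I) {α : Type*} (s : Finset α)
    (Q : α → ∀ j, (i ⟶ j) → Prop)
    (hQ : ∀ a j (g : i ⟶ j) j' (h : j ⟶ j'), Q a j g → Q a j' (g ≫ h))
    (hex : ∀ a ∈ s, ∃ j g, Q a j g) : ∃ j g, ∀ a ∈ s, Q a j g := by
  classical
  induction s using Finset.induction_on with
  | empty => exact ⟨i, 𝟙 i, by simp⟩
  | insert a s ha ih =>
    obtain ⟨j1, g1, h1⟩ := ih (fun b hb => hex b (Finset.mem_insert_of_mem hb))
    obtain ⟨j2, g2, h2⟩ := hex a (Finset.mem_insert_self a s)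
    let u1 := g1 ≫ IsFiltered.leftToMax j1 j2
    let u2 := g2 ≫ IsFiltered.rightToMax j1 j2
    have hc : u1 ≫ IsFiltered.coeqHom u1 u2 = u2 ≫ IsFiltered.coeqHom u1 u2 :=
      IsFiltered.coeq_condition u1 u2
    refine ⟨IsFiltered.coeq u1 u2, u1 ≫ IsFiltered.coeqHom u1 u2, ?_⟩
    intro b hb
    rcases Finset.mem_insert.1 hb with rfl | hb
    · rw [hc]
      have := hQ b j2 g2 _ (IsFiltered.rightToMax j1 j2 ≫ IsFiltered.coeqHom u1 u2) h2
      simpa [u2, Category.assoc] using this
    · have := hQ b j1 g1 _ (IsFiltered.leftToMax j1 j2 ≫ IsFiltered.coeqHom u1 u2) (h1 b hb)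
      simpa [u1, Category.assoc] using this

variable {I : Type w} [Category.{w} I] [IsFiltered I] {K : I ⥤ (Cᵒᵖ ⥤ Type w)} {c : Cocone K}
  (hc : IsColimit c)

/-- The evaluated cocone is a colimit. -/
noncomputable def evalIsColimit (V : C) :
    IsColimit (((evaluation Cᵒᵖ (Type w)).obj (op V)).mapCocone c) :=
  isColimitOfPreserves _ hc

include hc in
lemma exists_rep (V : C) (x : c.pt.obj (op V)) :
    ∃ (i : I) (y : (K.obj i).obj (op V)), (c.ι.app i).app (op V) y = x :=
  Types.jointly_surjective_of_isColimit (evalIsColimit hc V) x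

lemma ι_map (V : C) {i j : I} (g : i ⟶ j) (y : (K.obj i).obj (op V)) :
    (c.ι.app j).app (op V) ((K.map g).app (op V) y) = (c.ι.app i).app (op V) y := by
  have := c.w g
  exact congrArg (fun (t : K.obj i ⟶ c.pt) => t.app (op V) y) this

lemma ι_nat {V W : C} (a : W ⟶ V) (i : I) (y : (K.obj i).obj (op V)) :
    c.pt.map a.op ((c.ι.app i).app (op V) y) = (c.ι.app i).app (op W) ((K.obj i).map a.op y) :=
  (NatTrans.naturality_apply (c.ι.app i) a.op y).symm

include hc in
lemma eventually_eq (V : C) {i : I} (a b : (K.obj i).obj (op V))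
    (hab : (c.ι.app i).app (op V) a = (c.ι.app i).app (op V) b) :
    ∃ (j : I) (g : i ⟶ j), (K.map g).app (op V) a = (K.map g).app (op V) b := by
  obtain ⟨k, f, g', hk⟩ := (Types.FilteredColimit.isColimit_eq_iff _ (evalIsColimit hc V)).1 hab
  refine ⟨IsFiltered.coeq f g', f ≫ IsFiltered.coeqHom f g', ?_⟩
  have e1 : (K.map (f ≫ IsFiltered.coeqHom f g')).app (op V) a =
      (K.map (IsFiltered.coeqHom f g')).app (op V) ((K.map f).app (op V) a) := by
    rw [K.map_comp]; rfl
  have e2 : (K.map (f ≫ IsFiltered.coeqHom f g')).app (op V) b =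
      (K.map (IsFiltered.coeqHom f g')).app (op V) ((K.map g').app (op V) b) := by
    rw [IsFiltered.coeq_condition, K.map_comp]; rfl
  rw [e1, e2]
  exact congrArg _ hk

include hc in
lemma exists_rep_family {n : ℕ} (V : Fin n → C) (x : ∀ k, c.pt.obj (op (V k))) :
    ∃ (i : I) (y : ∀ k, (K.obj i).obj (op (V k))), ∀ k, (c.ι.app i).app (op (V k)) (y k) = x k := by
  classical
  choose i0 y0 h0 using fun k => exists_rep hc (V k) (x k)
  obtain ⟨S, hS⟩ := IsFiltered.sup_objs_exists (Finset.univ.image i0)
  have hS' : ∀ k, Nonempty (i0 k ⟶ S) := fun k => hS (Finset.mem_image_of_mem i0 (Finset.mem_univ k))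
  let g := fun k => (hS' k).some
  refine ⟨S, fun k => (K.map (g k)).app (op (V k)) (y0 k), fun k => ?_⟩
  rw [ι_map, h0]

include hc in
theorem finGlue_of_isColimit {QC : C → Prop} (hK : ∀ i, Presieve.IsSheaf J (K.obj i)) :
    FinGlue J QC c.pt := by
  classical
  intro U hU n V f hV hcov x hx
  -- sheaf condition for the arrows at each stage
  have hsh : ∀ j, ∀ z : ∀ k, (K.obj j).obj (op (V k)),
      (∀ k l, (K.obj j).map (pullback.fst (f k) (f l)).op (z k) =
        (K.obj j).map (pullback.snd (f k) (f l)).op (z l)) →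
      ∃! t : (K.obj j).obj (op U), ∀ k, (K.obj j).map (f k).op t = z k := by
    intro j z hz
    have h1 : Presieve.IsSheafFor (K.obj j) (Presieve.ofArrows V f) := by
      rw [Presieve.isSheafFor_iff_generate]
      exact hK j _ hcov
    exact (Presieve.isSheafFor_arrows_iff_pullbacks (K.obj j) f).1 h1 z (fun k l => hz k l)
  obtain ⟨i, y, hy⟩ := exists_rep_family hc V x
  -- compatibility at a later stage
  have hex : ∀ p ∈ (Finset.univ : Finset (Fin n × Fin n)), ∃ (j : I) (g : i ⟶ j),
      (K.obj j).map (pullback.fst (f p.1) (f p.2)).op ((K.map g).app (op (V p.1)) (y p.1)) =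
      (K.obj j).map (pullback.snd (f p.1) (f p.2)).op ((K.map g).app (op (V p.2)) (y p.2)) := by
    rintro ⟨k, l⟩ -
    have e : (c.ι.app i).app _ ((K.obj i).map (pullback.fst (f k) (f l)).op (y k)) =
        (c.ι.app i).app _ ((K.obj i).map (pullback.snd (f k) (f l)).op (y l)) := by
      rw [← ι_nat, ← ι_nat, hy, hy]
      exact hx k l
    obtain ⟨j, g, hg⟩ := eventually_eq hc _ _ _ e
    refine ⟨j, g, ?_⟩
    rw [← NatTrans.naturality_apply (K.map g), ← NatTrans.naturality_apply (K.map g)]
    exact hg
  obtain ⟨j, g, hj⟩ := exists_common i (Finset.univ : Finset (Fin n × Fin n))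
    (fun p j g => (K.obj j).map (pullback.fst (f p.1) (f p.2)).op ((K.map g).app (op (V p.1)) (y p.1)) =
      (K.obj j).map (pullback.snd (f p.1) (f p.2)).op ((K.map g).app (op (V p.2)) (y p.2)))
    (by
      intro p j g j' h' hp
      have e1 : ∀ (W : C) (a : (K.obj i).obj (op W)), (K.map (g ≫ h')).app (op W) a =
          (K.map h').app (op W) ((K.map g).app (op W) a) := by
        intro W a; rw [K.map_comp]; rfl
      rw [e1, e1, ← NatTrans.naturality_apply (K.map h'), ← NatTrans.naturality_apply (K.map h'), hp])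
    hex
  obtain ⟨t, ht, -⟩ := hsh j (fun k => (K.map g).app (op (V k)) (y k))
    (fun k l => hj (k, l) (Finset.mem_univ _))
  refine ⟨(c.ι.app j).app (op U) t, ?_, ?_⟩
  · intro k
    rw [ι_nat, ht k, ι_map, hy]
  · -- uniqueness
    intro t' ht'
    obtain ⟨i1, a1, ha1⟩ := exists_rep hc U t'
    -- move both to a common stage
    let m := IsFiltered.max i1 j
    let b1 : (K.obj m).obj (op U) := (K.map (IsFiltered.leftToMax i1 j)).app (op U) a1
    let b2 : (K.obj m).obj (op U) := (K.map (IsFiltered.rightToMax i1 j)).app (op U) t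
    have hb1 : (c.ι.app m).app (op U) b1 = t' := by rw [ι_map, ha1]
    have hb2 : (c.ι.app m).app (op U) b2 = (c.ι.app j).app (op U) t := by rw [ι_map]
    have hex2 : ∀ k ∈ (Finset.univ : Finset (Fin n)), ∃ (j' : I) (g' : m ⟶ j'),
        (K.obj j').map (f k).op ((K.map g').app (op U) b1) =
        (K.obj j').map (f k).op ((K.map g').app (op U) b2) := by
      intro k _
      have e : (c.ι.app m).app _ ((K.obj m).map (f k).op b1) =
          (c.ι.app m).app _ ((K.obj m).map (f k).op b2) := by
        rw [← ι_nat, ← ι_nat, hb1, hb2, ht' k, ι_nat, ht k, ι_map, hy]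
      obtain ⟨j', g', hg'⟩ := eventually_eq hc _ _ _ e
      refine ⟨j', g', ?_⟩
      rw [← NatTrans.naturality_apply (K.map g'), ← NatTrans.naturality_apply (K.map g')]
      exact hg'
    obtain ⟨j', g', hj'⟩ := exists_common m (Finset.univ : Finset (Fin n))
      (fun k j' g' => (K.obj j').map (f k).op ((K.map g').app (op U) b1) =
        (K.obj j').map (f k).op ((K.map g').app (op U) b2))
      (by
        intro k j1 g1 j2 h' hp
        have e1 : ∀ (W : C) (a : (K.obj m).obj (op W)), (K.map (g1 ≫ h')).app (op W) a =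
            (K.map h').app (op W) ((K.map g1).app (op W) a) := by
          intro W a; rw [K.map_comp]; rfl
        rw [e1, e1, ← NatTrans.naturality_apply (K.map h'), ← NatTrans.naturality_apply (K.map h'), hp])
      hex2
    have hsep : (K.map g').app (op U) b1 = (K.map g').app (op U) b2 := by
      obtain ⟨t0, -, hu⟩ := hsh j' (fun k => (K.obj j').map (f k).op ((K.map g').app (op U) b1)) (by
        intro k l
        have e : (pullback.fst (f k) (f l)) ≫ f k = (pullback.snd (f k) (f l)) ≫ f l :=
          pullback.condition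
        have e1 : ∀ s, (K.obj j').map (pullback.fst (f k) (f l)).op ((K.obj j').map (f k).op s) =
            (K.obj j').map ((pullback.fst (f k) (f l)) ≫ f k).op s := by
          intro s; rw [op_comp, (K.obj j').map_comp]; rfl
        have e2 : ∀ s, (K.obj j').map (pullback.snd (f k) (f l)).op ((K.obj j').map (f l).op s) =
            (K.obj j').map ((pullback.snd (f k) (f l)) ≫ f l).op s := by
          intro s; rw [op_comp, (K.obj j').map_comp]; rfl
        rw [e1, e2, e])
      rw [hu _ (fun k => rfl), hu ((K.map g').app (op U) b2) (fun k => (hj' k (Finset.mem_univ _)).symm)]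
    rw [← hb1, ← hb2, ← ι_map (c := c) U g' b1, ← ι_map (c := c) U g' b2, hsep]

end LemmaB

section TheoremC

/-- For a filtered diagram of sheaves, the sheafification map of the presheaf colimit is an isomorphism
on sections over quasi-compact objects. -/
theorem isIso_toSheafify_app {D : Type*} [Category D] {FD : D → D → Type*} {CD : D → Type (max u v)}
    [∀ X Y, FunLike (FD X Y) (CD X) (CD Y)] [ConcreteCategory.{max u v} D FD]
    [HasWeakSheafify J D] [J.HasSheafCompose (forget D)] [J.PreservesSheafification (forget D)]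
    [(forget D).ReflectsIsomorphisms]
    {I : Type (max u v)} [Category.{max u v} I] [IsFiltered I] [HasColimitsOfShape I D]
    [PreservesColimitsOfShape I (forget D)]
    {QC : C → Prop} (h : QCClass J QC)
    (F : I ⥤ Sheaf J D) {E : Cocone (F ⋙ sheafToPresheaf J D)}
    (hE : IsColimit E) (U : C) (hU : QC U) : IsIso ((toSheafify J E.pt).app (op U)) := by
  let W := (Functor.whiskeringRight Cᵒᵖ D (Type (max u v))).obj (forget D)
  have hE0 : IsColimit (W.mapCocone E) := isColimitOfPreserves W hE
  have hK : ∀ i, Presieve.IsSheaf J (((F ⋙ sheafToPresheaf J D) ⋙ W).obj i) := by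
    intro i
    have h1 : Presheaf.IsSheaf J ((F.obj i).obj ⋙ forget D) :=
      GrothendieckTopology.HasSheafCompose.isSheaf _ (F.obj i).property
    exact (isSheaf_iff_isSheaf_of_type J _).1 h1
  have hglue : FinGlue J QC (E.pt ⋙ forget D) := finGlue_of_isColimit hE0 hK
  have hsep : Presieve.IsSeparated J (sheafify J E.pt ⋙ forget D) := by
    have h1 : Presheaf.IsSheaf J (sheafify J E.pt ⋙ forget D) :=
      GrothendieckTopology.HasSheafCompose.isSheaf _ ((presheafToSheaf J D).obj E.pt).property
    exact ((isSheaf_iff_isSheaf_of_type J _).1 h1).isSeparated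
  have hbij := bijective_of_finGlue h hglue (Functor.whiskerRight (toSheafify J E.pt) (forget D))
    hsep U hU
  have hiso : IsIso ((forget D).map ((toSheafify J E.pt).app (op U))) :=
    (isIso_iff_bijective _).2 hbij
  exact isIso_of_reflects_iso _ (forget D)

/-- Sections over a quasi-compact object commute with filtered colimits of sheaves. -/
theorem preservesColimitsOfShape_sections {D : Type*} [Category D] {FD : D → D → Type*}
    {CD : D → Type (max u v)}
    [∀ X Y, FunLike (FD X Y) (CD X) (CD Y)] [ConcreteCategory.{max u v} D FD]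
    [HasWeakSheafify J D] [J.HasSheafCompose (forget D)] [J.PreservesSheafification (forget D)]
    [(forget D).ReflectsIsomorphisms]
    (I : Type (max u v)) [Category.{max u v} I] [IsFiltered I] [HasColimitsOfShape I D]
    [PreservesColimitsOfShape I (forget D)]
    {QC : C → Prop} (h : QCClass J QC) (U : C) (hU : QC U) :
    PreservesColimitsOfShape I (sheafToPresheaf J D ⋙ (evaluation Cᵒᵖ D).obj (op U)) := by
  constructor
  intro F
  let E := colimit.cocone (F ⋙ sheafToPresheaf J D)
  have hE : IsColimit E := colimit.isColimit _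
  apply preservesColimit_of_preserves_colimit_cocone (Sheaf.isColimitSheafifyCocone E hE)
  have h1 : IsColimit (((evaluation Cᵒᵖ D).obj (op U)).mapCocone E) := isColimitOfPreserves _ hE
  have hiso : IsIso ((toSheafify J E.pt).app (op U)) := isIso_toSheafify_app h F hE U hU
  refine IsColimit.ofIsoColimit h1 (Cocone.ext (@asIso _ _ _ _ ((toSheafify J E.pt).app (op U)) hiso) ?_)
  intro k
  have := Sheaf.sheafifyCocone_ι_app_val E k
  exact (congrArg (fun t => t.app (op U)) this).symm

end TheoremC

end Groth.Agent.H60.QCColim
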