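import Groth.Agent.H60.QCEtale
import Groth.Agent.H60.QCColim
import Groth.Prelude.Def_PBC

open CategoryTheory Limits Opposite AlgebraicGeometry

universe w v u

namespace Groth.Agent.H60.ConstrCompact

section Abstract

variable {A : Type u} [Category.{v} A] [Abelian A] {J : Type w} [Category.{w} J]
  [HasColimitsOfShape J A]

/-- every morphism into the colimit comes from a stage -/
def Surj0 (Z : A) (D : J ⥤ A) : Prop :=
  ∀ φ : Z ⟶ colimit D, ∃ (i : J) (φi : Z ⟶ D.obj i), φi ≫ colimit.ι D i = φ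

/-- a morphism into a stage which vanishes in the colimit vanishes at a later stage -/
def Inj0 (Z : A) (D : J ⥤ A) : Prop :=
  ∀ (i : J) (φi : Z ⟶ D.obj i), φi ≫ colimit.ι D i = 0 → ∃ (j : J) (f : i ⟶ j), φi ≫ D.map f = 0

variable (J) in
/-- `Z` is compact with respect to colimits of shape `J` -/
def Cpt (Z : A) : Prop := ∀ D : J ⥤ A, Surj0 Z D ∧ Inj0 Z D

lemma cpt_of_iso {Z Z' : A} (e : Z ≅ Z') (h : Cpt J Z) : Cpt J Z' := by
  intro D
  refine ⟨fun φ => ?_, fun i φi hφ => ?_⟩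
  · obtain ⟨i, ψ, hψ⟩ := (h D).1 (e.hom ≫ φ)
    exact ⟨i, e.inv ≫ ψ, by rw [Category.assoc, hψ, e.inv_hom_id_assoc]⟩
  · obtain ⟨j, f, hf⟩ := (h D).2 i (e.hom ≫ φi) (by rw [Category.assoc, hφ, comp_zero])
    refine ⟨j, f, ?_⟩
    rw [← cancel_epi e.hom, ← Category.assoc, hf, comp_zero]

lemma cpt_cokernel {P₁ P₀ : A} (φ : P₁ ⟶ P₀) (h₁ : Cpt J P₁) (h₀ : Cpt J P₀) :
    Cpt J (cokernel φ) := by
  intro D
  refine ⟨fun ψ => ?_, fun i ψi hψ => ?_⟩
  · obtain ⟨i, χ, hχ⟩ := (h₀ D).1 (cokernel.π φ ≫ ψ)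
    have h0 : (φ ≫ χ) ≫ colimit.ι D i = 0 := by
      rw [Category.assoc, hχ, ← Category.assoc, cokernel.condition, zero_comp]
    obtain ⟨k, a, hk⟩ := (h₁ D).2 i (φ ≫ χ) h0
    have hk' : φ ≫ (χ ≫ D.map a) = 0 := by rw [← Category.assoc]; exact hk
    refine ⟨k, cokernel.desc φ (χ ≫ D.map a) hk', ?_⟩
    rw [← cancel_epi (cokernel.π φ), ← Category.assoc, cokernel.π_desc, Category.assoc,
      colimit.w, hχ]
  · obtain ⟨k, a, hk⟩ := (h₀ D).2 i (cokernel.π φ ≫ ψi) (by rw [Category.assoc, hψ, comp_zero])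
    refine ⟨k, a, ?_⟩
    rw [← cancel_epi (cokernel.π φ), ← Category.assoc, hk, comp_zero]

/-- Finitely many eventually-true (and persistent) predicates on stages after `i` of a filtered
category hold simultaneously at a common stage. -/
lemma exists_common {I : Type*} [Category I] [IsFiltered I] (i : I) {α : Type*} (s : Finset α)
    (Q : α → ∀ j, (i ⟶ j) → Prop)
    (hQ : ∀ a j (g : i ⟶ j) j' (h : j ⟶ j'), Q a j g → Q a j' (g ≫ h))
    (hex : ∀ a ∈ s, ∃ j g, Q a j g) : ∃ j g, ∀ a ∈ s, Q a j g := by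
  classical
  induction s using Finset.induction_on with
  | empty => exact ⟨i, 𝟙 i, by simp⟩
  | insert a s ha ih =>
    obtain ⟨j1, g1, h1⟩ := ih (fun b hb => hex b (Finset.mem_insert_of_mem hb))
    obtain ⟨j2, g2, h2⟩ := hex a (Finset.mem_insert_self a s)
    let u1 := g1 ≫ IsFiltered.leftToMax j1 j2
    let u2 := g2 ≫ IsFiltered.rightToMax j1 j2
    have hc : u1 ≫ IsFiltered.coeqHom u1 u2 = u2 ≫ IsFiltered.coeqHom u1 u2 :=
      IsFiltered.coeq_condition u1 u2
    refine ⟨IsFiltered.coeq u1 u2, u1 ≫ IsFiltered.coeqHom u1 u2, ?_⟩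
    intro b hb
    rcases Finset.mem_insert.1 hb with rfl | hb
    · rw [hc]
      have := hQ b j2 g2 _ (IsFiltered.rightToMax j1 j2 ≫ IsFiltered.coeqHom u1 u2) h2
      simpa [u2, Category.assoc] using this
    · have := hQ b j1 g1 _ (IsFiltered.leftToMax j1 j2 ≫ IsFiltered.coeqHom u1 u2) (h1 b hb)
      simpa [u1, Category.assoc] using this

lemma cpt_biproduct [IsFiltered J] {ι : Type} [Finite ι] (P : ι → A) [HasBiproduct P]
    (h : ∀ a, Cpt J (P a)) :
    Cpt J (⨁ P) := by
  classical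
  haveI := Fintype.ofFinite ι
  intro D
  refine ⟨fun φ => ?_, fun i φi hφ => ?_⟩
  · choose j ψ hψ using fun a => (h a D).1 (biproduct.ι P a ≫ φ)
    obtain ⟨S, hS⟩ := IsFiltered.sup_objs_exists (Finset.univ.image j)
    have hS' : ∀ a, Nonempty (j a ⟶ S) := fun a =>
      hS (Finset.mem_image_of_mem j (Finset.mem_univ a))
    let g := fun a => (hS' a).some
    refine ⟨S, biproduct.desc (fun a => ψ a ≫ D.map (g a)), ?_⟩
    apply biproduct.hom_ext'
    intro a
    rw [← Category.assoc, biproduct.ι_desc, Category.assoc, colimit.w, hψ]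
  · obtain ⟨k, g, hk⟩ := exists_common i (Finset.univ : Finset ι)
      (fun a k g => (biproduct.ι P a ≫ φi) ≫ D.map g = 0)
      (by
        intro a k g k' g' hg
        rw [D.map_comp, ← Category.assoc, hg, zero_comp])
      (by
        intro a _
        exact (h a D).2 i (biproduct.ι P a ≫ φi) (by rw [Category.assoc, hφ, comp_zero]))
    refine ⟨k, g, ?_⟩
    apply biproduct.hom_ext'
    intro a
    rw [← Category.assoc, hk a (Finset.mem_univ a), comp_zero]

theorem preservesColimitsOfShape_coyoneda [IsFiltered J] (Z : A) (h : Cpt J Z) :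
    PreservesColimitsOfShape J (coyoneda.obj (op Z)) := by
  constructor
  intro D
  refine preservesColimit_of_preserves_colimit_cocone (colimit.isColimit D) ?_
  refine Types.FilteredColimit.isColimitOf' _ _ ?_ ?_
  · intro x
    obtain ⟨i, xi, hxi⟩ := (h D).1 x
    exact ⟨i, xi, hxi.symm⟩
  · intro i x y hxy
    let x' : Z ⟶ D.obj i := x
    let y' : Z ⟶ D.obj i := y
    have hxy' : (x' - y') ≫ colimit.ι D i = 0 := by
      rw [Preadditive.sub_comp, sub_eq_zero]
      exact hxy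
    obtain ⟨k, f, hf⟩ := (h D).2 i (x' - y') hxy'
    refine ⟨k, f, ?_⟩
    rw [Preadditive.sub_comp, sub_eq_zero] at hf
    exact hf


lemma Cpt.surj {Z : A} (h : Cpt J Z) {D : J ⥤ A} {c : Cocone D} (hc : IsColimit c)
    (φ : Z ⟶ c.pt) : ∃ (i : J) (φi : Z ⟶ D.obj i), φi ≫ c.ι.app i = φ := by
  let e := hc.coconePointUniqueUpToIso (colimit.isColimit D)
  obtain ⟨i, φi, hφi⟩ := (h D).1 (φ ≫ e.hom)
  refine ⟨i, φi, ?_⟩
  rw [← cancel_mono e.hom, Category.assoc]
  rw [hc.comp_coconePointUniqueUpToIso_hom (colimit.isColimit D)]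
  exact hφi

lemma Cpt.inj {Z : A} (h : Cpt J Z) {D : J ⥤ A} {c : Cocone D} (hc : IsColimit c)
    (i : J) (φi : Z ⟶ D.obj i) (hφ : φi ≫ c.ι.app i = 0) :
    ∃ (j : J) (f : i ⟶ j), φi ≫ D.map f = 0 := by
  let e := hc.coconePointUniqueUpToIso (colimit.isColimit D)
  apply (h D).2 i φi
  have := hc.comp_coconePointUniqueUpToIso_hom (colimit.isColimit D) i
  change c.ι.app i ≫ e.hom = colimit.ι D i at this
  rw [← this, ← Category.assoc, hφ, zero_comp]

/-- a filtered system of compact objects with compact colimit is essentially constant -/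
theorem essentially_constant [IsFiltered J] {D : J ⥤ A} {c : Cocone D} (hc : IsColimit c)
    (hD : ∀ j, Cpt J (D.obj j)) (hF : Cpt J c.pt) :
    ∃ (i : J) (s : c.pt ⟶ D.obj i), s ≫ c.ι.app i = 𝟙 c.pt ∧
      ∀ j : J, ∃ (k : J) (a : i ⟶ k) (b : j ⟶ k), D.map b = c.ι.app j ≫ s ≫ D.map a := by
  obtain ⟨i, s, hs⟩ := hF.surj hc (𝟙 c.pt)
  refine ⟨i, s, hs, fun j => ?_⟩
  let k₀ := IsFiltered.max i j
  let a₀ : i ⟶ k₀ := IsFiltered.leftToMax i j
  let b₀ : j ⟶ k₀ := IsFiltered.rightToMax i j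
  have h0 : (D.map b₀ - c.ι.app j ≫ s ≫ D.map a₀) ≫ c.ι.app k₀ = 0 := by
    rw [Preadditive.sub_comp, Category.assoc, Category.assoc, c.w, c.w, hs]
    simp
  obtain ⟨k, f, hf⟩ := (hD j).inj hc k₀ _ h0
  refine ⟨k, a₀ ≫ f, b₀ ≫ f, ?_⟩
  rw [Preadditive.sub_comp, sub_eq_zero] at hf
  rw [D.map_comp, D.map_comp, hf]
  simp only [Category.assoc]

end Abstract

section Etale

variable {X : Scheme.{u}}

open Groth.Agent.H60.QCEtale

/-- sections over `U` -/
noncomputable abbrev secF (U : X.Etale) : EtCoh.Ab X ⥤ AddCommGrpCat.{u + 1} :=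
  sheafToPresheaf X.smallEtaleTopology AddCommGrpCat.{u + 1} ⋙
    (evaluation X.Etaleᵒᵖ AddCommGrpCat.{u + 1}).obj (op U)

theorem preservesColimitsOfShape_secF (U : X.Etale) (hU : QC U) (J : Type w) [Category.{w} J]
    [IsFiltered J] [EssentiallySmall.{u + 1} J] : PreservesColimitsOfShape J (secF U) := by
  let e : J ≌ SmallModel.{u + 1} J := equivSmallModel.{u + 1} J
  haveI : IsFiltered (SmallModel.{u + 1} J) := IsFiltered.of_equivalence e
  haveI : PreservesColimitsOfShape (SmallModel.{u + 1} J) (secF U) :=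
    QCColim.preservesColimitsOfShape_sections (J := X.smallEtaleTopology)
      (D := AddCommGrpCat.{u + 1}) _ (qcClass X) U hU
  exact preservesColimitsOfShape_of_equiv e.symm (secF U)

theorem preservesColimitsOfShape_forget (J : Type w) [Category.{w} J]
    [IsFiltered J] [EssentiallySmall.{u + 1} J] :
    PreservesColimitsOfShape J (forget AddCommGrpCat.{u + 1}) := by
  let e : J ≌ SmallModel.{u + 1} J := equivSmallModel.{u + 1} J
  haveI : IsFiltered (SmallModel.{u + 1} J) := IsFiltered.of_equivalence e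
  haveI : PreservesColimitsOfShape (SmallModel.{u + 1} J) (forget AddCommGrpCat.{u + 1}) :=
    PreservesFilteredColimitsOfSize.preserves_filtered_colimits _
  exact preservesColimitsOfShape_of_equiv e.symm _

lemma zmod_hom_ext {n : ℕ} {B : AddCommGrpCat.{u + 1}}
    (f g : AddCommGrpCat.of (ULift.{u + 1} (ZMod n)) ⟶ B)
    (h : f.hom (ULift.up 1) = g.hom (ULift.up 1)) : f = g := by
  ext ⟨x⟩
  obtain ⟨k, rfl⟩ := ZMod.intCast_surjective x
  have e : (ULift.up (k : ZMod n) : ULift.{u + 1} (ZMod n)) = k • ULift.up 1 := by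
    apply ULift.ext
    simp
  rw [e, map_zsmul, map_zsmul, h]


/-- an object whose morphisms to `G` are naturally the morphisms `ℤ/n ⟶ G(U)` with `U` qcqs is
compact -/
theorem cpt_of_homEquiv {J : Type w} [Category.{w} J] [IsFiltered J] [EssentiallySmall.{u + 1} J]
    [HasColimitsOfShape J (EtCoh.Ab X)] (U : X.Etale) (hU : QC U)
    (n : ℕ) (Z : EtCoh.Ab X)
    (e : ∀ G : EtCoh.Ab X,
      (Z ⟶ G) ≃ (AddCommGrpCat.of (ULift.{u + 1} (ZMod n)) ⟶ G.obj.obj (op U)))
    (he : ∀ {G G' : EtCoh.Ab X} (f : Z ⟶ G) (g : G ⟶ G'),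
      e G' (f ≫ g) = e G f ≫ g.hom.app (op U)) :
    Cpt J Z := by
  haveI := preservesColimitsOfShape_secF U hU J
  haveI := preservesColimitsOfShape_forget.{w, u} J
  have e0 : ∀ G : EtCoh.Ab X, e G 0 = 0 := by
    intro G
    have h := he (0 : Z ⟶ G) (0 : G ⟶ G)
    rw [comp_zero] at h
    rw [h]
    have : (0 : G ⟶ G).hom.app (op U) = 0 := rfl
    rw [this, comp_zero]
  intro D
  have hcol : IsColimit ((secF U).mapCocone (colimit.cocone D)) :=
    isColimitOfPreserves (secF U) (colimit.isColimit D)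
  refine ⟨fun φ => ?_, fun i φi hφ => ?_⟩
  · -- surjectivity
    let t := e _ φ
    obtain ⟨j, sj, hsj⟩ := Concrete.isColimit_exists_rep (D ⋙ secF U) hcol (t.hom (ULift.up 1))
    have hn : ((secF U).mapCocone (colimit.cocone D)).ι.app j (n • sj) =
        ((secF U).mapCocone (colimit.cocone D)).ι.app j (0 : ToType ((D ⋙ secF U).obj j)) := by
      rw [map_nsmul, hsj, map_zero, ← map_nsmul]
      have : (n • (ULift.up 1 : ULift.{u + 1} (ZMod n))) = 0 := by
        apply ULift.ext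
        simp
      rw [this, map_zero]
    obtain ⟨k, a, b, hk⟩ := Concrete.isColimit_exists_of_rep_eq (D ⋙ secF U) hcol _ _ hn
    let sk : ToType ((D ⋙ secF U).obj k) := (D ⋙ secF U).map a sj
    have hnk : n • sk = 0 := by
      have := hk
      rw [map_nsmul, map_zero] at this
      exact this
    let f0 : {f : ℤ →+ ↑((D.obj k).obj.obj (op U)) // f n = 0} :=
      ⟨zmultiplesHom _ sk, by simpa using hnk⟩
    let tk : AddCommGrpCat.of (ULift.{u + 1} (ZMod n)) ⟶ (D.obj k).obj.obj (op U) :=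
      AddCommGrpCat.ofHom ((ZMod.lift n f0).comp AddEquiv.ulift.toAddMonoidHom)
    have htk : tk.hom (ULift.up 1) = sk := by
      change ZMod.lift n f0 (1 : ZMod n) = sk
      have : (1 : ZMod n) = ((1 : ℤ) : ZMod n) := by simp
      rw [this, ZMod.lift_coe]
      simp [f0]
    refine ⟨k, (e _).symm tk, ?_⟩
    apply (e _).injective
    rw [he, Equiv.apply_symm_apply]
    apply zmod_hom_ext
    change (colimit.ι D k).hom.app (op U) (tk.hom (ULift.up 1)) = t.hom (ULift.up 1)
    rw [htk, ← hsj]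
    have hw := ((secF U).mapCocone (colimit.cocone D)).w a
    exact (ConcreteCategory.congr_hom hw sj)
  · -- injectivity
    let ti := e _ φi
    have h1 : ti ≫ (colimit.ι D i).hom.app (op U) = 0 := by
      rw [← he, hφ, e0]
    have h2 : ((secF U).mapCocone (colimit.cocone D)).ι.app i (ti.hom (ULift.up 1)) =
        ((secF U).mapCocone (colimit.cocone D)).ι.app i (0 : ToType ((D ⋙ secF U).obj i)) := by
      rw [map_zero]
      exact ConcreteCategory.congr_hom h1 (ULift.up 1)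
    obtain ⟨k, a, b, hk⟩ := Concrete.isColimit_exists_of_rep_eq (D ⋙ secF U) hcol _ _ h2
    refine ⟨k, a, ?_⟩
    apply (e _).injective
    rw [he, e0]
    apply zmod_hom_ext
    rw [map_zero] at hk
    exact hk.trans (by simp)


/-- morphisms out of `j_! M` -/
noncomputable def homEquiv (U : X.Etale) (M : Type) [AddCommGroup M] (G : EtCoh.Ab X) :
    (EtPBC.extZeroConst U M ⟶ G) ≃
      (AddCommGrpCat.of (ULift.{u + 1} M) ⟶ G.obj.obj (op U)) :=
  ((EtPBC.extZeroAdj U).homEquiv (EtPBC.constOver U M) G).trans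
    ((constantSheafAdj (X.smallEtaleTopology.over U) AddCommGrpCat.{u + 1}
      Over.mkIdTerminal).homEquiv (AddCommGrpCat.of (ULift.{u + 1} M))
      ((X.smallEtaleTopology.overPullback AddCommGrpCat.{u + 1} U).obj G))

lemma homEquiv_naturality (U : X.Etale) (M : Type) [AddCommGroup M] {G G' : EtCoh.Ab X}
    (f : EtPBC.extZeroConst U M ⟶ G) (g : G ⟶ G') :
    homEquiv U M G' (f ≫ g) = homEquiv U M G f ≫ g.hom.app (op U) := by
  unfold homEquiv
  simp only [Equiv.trans_apply]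
  rw [Adjunction.homEquiv_naturality_right]
  exact Adjunction.homEquiv_naturality_right _ _ _

theorem cpt_extZeroConst {J : Type w} [Category.{w} J] [IsFiltered J]
    [EssentiallySmall.{u + 1} J] [HasColimitsOfShape J (EtCoh.Ab X)] (U : X.Etale) (hU : QC U)
    (n : ℕ) : Cpt J (EtPBC.extZeroConst U (ZMod n)) :=
  cpt_of_homEquiv U hU n _ (homEquiv U (ZMod n)) (homEquiv_naturality U (ZMod n))


/-- a cokernel of a map between finite sums of `j_! ℤ/n` with affine `U` is compact -/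
theorem cpt_of_presentation {J : Type w} [Category.{w} J] [IsFiltered J]
    [EssentiallySmall.{u + 1} J] [HasColimitsOfShape J (EtCoh.Ab X)] (F : EtCoh.Ab X)
    {a b : ℕ} (U : Fin a → X.Etale) (V : Fin b → X.Etale) (n : Fin a → ℕ) (m : Fin b → ℕ)
    (hU : ∀ i, IsAffine (U i).left) (hV : ∀ j, IsAffine (V j).left)
    (φ : (⨁ fun j => EtPBC.extZeroConst (V j) (ZMod (m j))) ⟶
      (⨁ fun i => EtPBC.extZeroConst (U i) (ZMod (n i))))
    (e : F ≅ cokernel φ) : Cpt J F := by
  refine cpt_of_iso e.symm (cpt_cokernel φ ?_ ?_)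
  · exact cpt_biproduct _ (fun j => cpt_extZeroConst (V j) (qc_of_isAffine _ (hV j)) (m j))
  · exact cpt_biproduct _ (fun i => cpt_extZeroConst (U i) (qc_of_isAffine _ (hU i)) (n i))

end Etale

end Groth.Agent.H60.ConstrCompact
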