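import Groth.Agent.S3508
import Groth.Agent.H60.ConstrCompact

/-!
# Constructible abelian sheaves on a qcqs scheme are compact (helper60)
Combines helper21's finite presentation theorem S3508 with `H60/ConstrCompact`.
-/

set_option autoImplicit false
open CategoryTheory CategoryTheory.Limits AlgebraicGeometry Opposite
universe w u

namespace Groth.Agent.H60.ConstrCompact2

open Groth.Agent.H60.ConstrCompact

/-- constructible ⟹ compact (in the `Cpt` sense) for filtered shapes essentially `(u+1)`-small -/
theorem cpt_of_isConstructible (X : Scheme.{u}) [CompactSpace X] [QuasiSeparatedSpace X]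
    (F : EtCoh.Ab X) (hF : EtPBC.IsConstructible F) (J : Type w) [Category.{w} J] [IsFiltered J]
    [EssentiallySmall.{u + 1} J] [HasColimitsOfShape J (EtCoh.Ab X)] :
    Cpt J F := by
  obtain ⟨a, b, U, V, n, m, hU, hV, φ, ⟨e⟩⟩ := (Groth.Agent.S3508.result X F).1 hF
  exact cpt_of_presentation F U V n m (fun i => (hU i).2) (fun j => (hV j).2) φ e

end Groth.Agent.H60.ConstrCompact2
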