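import Mathlib

set_option autoImplicit false
open CategoryTheory CategoryTheory.Limits
open scoped ZeroObject
universe w v' u'

namespace Groth.Agent.H60.FinColimClosed

variable {A : Type u'} [Category.{v'} A] [Abelian A] (Q : ObjectProperty A)

attribute [local instance] Abelian.hasFiniteBiproducts

/-- hypotheses: closed under isos, zero objects, binary biproducts, cokernels -/
structure Hyp : Prop where
  iso : ∀ {M N : A} (_ : M ≅ N), Q M → Q N
  zero : ∀ Z : A, IsZero Z → Q Z
  biprod : ∀ M N : A, Q M → Q N → Q (M ⊞ N)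
  coker : ∀ {M N : A} (f : M ⟶ N), Q M → Q N → Q (cokernel f)

variable {Q}

theorem Hyp.isClosedUnderIsomorphisms (h : Hyp Q) : Q.IsClosedUnderIsomorphisms where
  of_iso e hM := h.iso e hM

theorem Hyp.containsZero (h : Hyp Q) : Q.ContainsZero where
  exists_zero := ⟨0, isZero_zero A, h.zero _ (isZero_zero A)⟩

theorem Hyp.binaryProducts (h : Hyp Q) : Q.IsClosedUnderBinaryProducts where
  limitsOfShape_le := by
    rintro Z ⟨p⟩
    let M := p.diag.obj ⟨WalkingPair.left⟩
    let N := p.diag.obj ⟨WalkingPair.right⟩
    have e : Z ≅ M ⊞ N :=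
      IsLimit.conePointsIsoOfNatIso p.isLimit (BinaryBiproduct.isLimit M N) (diagramIsoPair p.diag)
    exact h.iso e.symm (h.biprod M N (p.prop_diag_obj _) (p.prop_diag_obj _))

theorem Hyp.finiteProducts (h : Hyp Q) : Q.IsClosedUnderFiniteProducts := by
  have := h.isClosedUnderIsomorphisms
  have := h.containsZero
  have := h.binaryProducts
  exact ObjectProperty.IsClosedUnderFiniteProducts.mk'

theorem Hyp.sigma (h : Hyp Q) {ι : Type w} [Finite ι] (f : ι → A) (hf : ∀ i, Q (f i)) :
    Q (∐ f) := by
  have := h.finiteProducts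
  have : HasBiproductsOfShape ι A := hasBiproductsOfShape_finite A
  have h1 : Q (∏ᶜ f) := Q.prop_product hf
  exact h.iso ((biproduct.isoProduct f).symm ≪≫ biproduct.isoCoproduct f) h1

theorem Hyp.coeq (h : Hyp Q) {M N : A} (s t : M ⟶ N) (hM : Q M) (hN : Q N) :
    Q (Limits.coequalizer s t) := by
  have e : Limits.coequalizer s t ≅ cokernel (s - t) :=
    IsColimit.coconePointUniqueUpToIso (colimit.isColimit _)
      (Preadditive.isColimitCoforkOfCokernelCofork (cokernelIsCokernel (s - t)))
  exact h.iso e.symm (h.coker _ hM hN)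

theorem Hyp.finiteColimits (h : Hyp Q) (J : Type w) [SmallCategory J] [Finite (Arrow J)] :
    Q.IsClosedUnderColimitsOfShape J where
  colimitsOfShape_le := by
    rintro Z ⟨p⟩
    have : Finite J := Finite.of_injective (fun j : J => Arrow.mk (𝟙 j)) (by
      intro i j hij
      exact congrArg (fun a : Arrow J => a.left) hij)
    have : Finite (Σ p : J × J, p.1 ⟶ p.2) :=
      Finite.of_injective (fun f : Σ p : J × J, p.1 ⟶ p.2 => Arrow.mk f.2) (by
        rintro ⟨⟨a, b⟩, f⟩ ⟨⟨a', b'⟩, f'⟩ hff
        have h1 : a = a' := congrArg (fun a : Arrow J => a.left) hff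
        have h2 : b = b' := congrArg (fun a : Arrow J => a.right) hff
        subst h1 h2
        have h3 : f = f' := by
          have := (Arrow.mk_inj _ _).1 hff
          exact this
        subst h3
        rfl)
    let cc := colimitCoconeOfCoequalizerAndCoproduct p.diag
    have e : Z ≅ cc.cocone.pt := IsColimit.coconePointUniqueUpToIso p.isColimit cc.isColimit
    refine h.iso e.symm ?_
    exact h.coeq _ _ (h.sigma _ (fun f => p.prop_diag_obj _))
      (h.sigma _ (fun j => p.prop_diag_obj _))

theorem Hyp.finiteColimits' (h : Hyp Q) (J : Type w) [SmallCategory J]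
    (hJ : HasCardinalLT (Arrow J) Cardinal.aleph0) :
    Q.IsClosedUnderColimitsOfShape J := by
  have : Finite (Arrow J) := by simpa [hasCardinalLT_aleph0_iff] using hJ
  exact h.finiteColimits J

end Groth.Agent.H60.FinColimClosed
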