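import Groth.Agent.H60.ConstrCompact2
import Groth.Agent.H21.ConstrGen
import Groth.Agent.H60.FinColimClosed
import Mathlib.CategoryTheory.Presentable.StrongGenerator

/-!
# Torsion sheaves are filtered colimits of constructible sheaves (helper60)
-/

set_option autoImplicit false
open CategoryTheory CategoryTheory.Limits AlgebraicGeometry Opposite
universe w' w u

namespace Groth.Agent.H60.ConstrDense

open Groth.Agent.H60.ConstrCompact Groth.Agent.H60.QCEtale

variable {X : Scheme.{u}}

section Pres

theorem preservesColimitsOfShape_secF' (U : X.Etale) (hU : QC U) (J : Type w) [Category.{w'} J]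
    [IsFiltered J] [EssentiallySmall.{u + 1} J] : PreservesColimitsOfShape J (secF U) := by
  let e : J ≌ SmallModel.{u + 1} J := equivSmallModel.{u + 1} J
  have : IsFiltered (SmallModel.{u + 1} J) := IsFiltered.of_equivalence e
  have : PreservesColimitsOfShape (SmallModel.{u + 1} J) (secF U) :=
    preservesColimitsOfShape_secF U hU _
  exact preservesColimitsOfShape_of_equiv e.symm (secF U)

theorem preservesColimitsOfShape_forget' (J : Type w) [Category.{w'} J]
    [IsFiltered J] [EssentiallySmall.{u + 1} J] :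
    PreservesColimitsOfShape J (forget AddCommGrpCat.{u + 1}) := by
  let e : J ≌ SmallModel.{u + 1} J := equivSmallModel.{u + 1} J
  have : IsFiltered (SmallModel.{u + 1} J) := IsFiltered.of_equivalence e
  have : PreservesColimitsOfShape (SmallModel.{u + 1} J) (forget AddCommGrpCat.{u + 1}) :=
    PreservesFilteredColimitsOfSize.preserves_filtered_colimits _
  exact preservesColimitsOfShape_of_equiv e.symm _

end Pres

section Mono

/-- a morphism of abelian étale sheaves which is injective on sections over affine objects is a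
monomorphism -/
theorem mono_of_affine {T F : EtCoh.Ab X} (f : T ⟶ F)
    (h : ∀ (U : X.Etale), IsAffine U.left → ∀ s : EtCoh.sect T U, f.hom.app (op U) s = 0 → s = 0) :
    Mono f := by
  have hall : ∀ (U : X.Etale) (s : EtCoh.sect T U), f.hom.app (op U) s = 0 → s = 0 := by
    intro U s hs
    apply Groth.Agent.H4.Stalks.eq_zero_of_locally_zero
    intro p
    obtain ⟨O, hO, hpO, -⟩ :=
      Groth.Agent.H21.ConstrMain.exists_affine_nbhd (⊤ : U.left.Opens) p trivial
    let V : X.Etale := Scheme.Etale.mk (O.ι ≫ (U.hom : U.left ⟶ X))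
    let g : V ⟶ U := MorphismProperty.Over.homMk O.ι rfl trivial
    have hV : IsAffine V.left := hO
    refine ⟨V, g, ⟨p, hpO⟩, rfl, ?_⟩
    apply h V hV
    have h1 : f.hom.app (op V) (T.obj.map g.op s) = F.obj.map g.op (f.hom.app (op U) s) :=
      congrArg (fun k => k s) (congrArg (fun k => k.hom) (f.hom.naturality g.op))
    rw [h1, hs, map_zero]
  have : Mono f.hom := by
    apply (config := { allowSynthFailures := true }) NatTrans.mono_of_mono_app
    intro U
    rw [AddCommGrpCat.mono_iff_injective]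
    rw [injective_iff_map_eq_zero]
    intro s hs
    exact hall U.unop s hs
  exact Sheaf.Hom.mono_of_presheaf_mono _ _ f

end Mono

section Criterion

/-- criterion for a cocone of a filtered diagram with torsion point to be a colimit, in terms of
torsion sections over affine objects -/
theorem isColimit_of_sections {I : Type w} [Category.{w'} I] [IsFiltered I]
    [EssentiallySmall.{u + 1} I] [HasColimitsOfShape I (EtCoh.Ab X)] (Ψ : I ⥤ EtCoh.Ab X)
    (c : Cocone Ψ) (hT : EtCoh.IsTorsion c.pt)
    (S1 : ∀ (U : X.Etale), IsAffine U.left → ∀ (n : ℕ), 0 < n → ∀ t : EtCoh.sect c.pt U,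
      n • t = 0 → ∃ (i : I) (ti : EtCoh.sect (Ψ.obj i) U), (c.ι.app i).hom.app (op U) ti = t)
    (S2 : ∀ (U : X.Etale), IsAffine U.left → ∀ (i : I) (s : EtCoh.sect (Ψ.obj i) U),
      (c.ι.app i).hom.app (op U) s = 0 → ∃ (k : I) (a : i ⟶ k), (Ψ.map a).hom.app (op U) s = 0) :
    Nonempty (IsColimit c) := by
  let f : colimit Ψ ⟶ c.pt := colimit.desc Ψ c
  have hf : ∀ (i : I) (U : X.Etale) (s : EtCoh.sect (Ψ.obj i) U),
      f.hom.app (op U) ((colimit.ι Ψ i).hom.app (op U) s) = (c.ι.app i).hom.app (op U) s := by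
    intro i U s
    have h1 : colimit.ι Ψ i ≫ f = c.ι.app i := colimit.ι_desc c i
    rw [← h1]
    rfl
  have hmono : Mono f := by
    apply mono_of_affine
    intro U hU s hs
    have := preservesColimitsOfShape_secF' U (qc_of_isAffine _ hU) I
    have := preservesColimitsOfShape_forget'.{w', w, u} I
    have hcol : IsColimit ((secF U).mapCocone (colimit.cocone Ψ)) :=
      isColimitOfPreserves (secF U) (colimit.isColimit Ψ)
    obtain ⟨i, si, hsi⟩ := Concrete.isColimit_exists_rep (Ψ ⋙ secF U) hcol s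
    have hsi' : (colimit.ι Ψ i).hom.app (op U) si = s := hsi
    have h1 : (c.ι.app i).hom.app (op U) si = 0 := by
      rw [← hf, hsi', hs]
    obtain ⟨k, a, hk⟩ := S2 U hU i si h1
    rw [← hsi']
    have hw : Ψ.map a ≫ colimit.ι Ψ k = colimit.ι Ψ i := colimit.w Ψ a
    rw [← hw]
    show (colimit.ι Ψ k).hom.app (op U) ((Ψ.map a).hom.app (op U) si) = 0
    rw [hk, map_zero]
  have hepi : Epi f := by
    by_contra hne
    obtain ⟨V, hV, n, hn, s, hns, hbad⟩ :=
      Groth.Agent.H21.ConstrGen.exists_bad_section f hne hT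
    obtain ⟨i, ti, hti⟩ := S1 V hV n hn s hns
    exact hbad ⟨(colimit.ι Ψ i).hom.app (op V) ti, (hf i V ti).trans hti⟩
  have hiso : IsIso f := isIso_of_mono_of_epi f
  exact ⟨IsColimit.ofIsoColimit (colimit.isColimit Ψ) (Cocone.ext (asIso f) (fun i => by simp [f]))⟩

end Criterion

section SecMap

open Groth.Agent.H21.QFStrata Groth.Agent.H21.ConstrGen

variable (V : X.Etale) (n : ℕ)

/-- the section of `G` over `V` attached to a morphism `j_!(ℤ/n) ⟶ G` -/
noncomputable def sectionOf {G : EtCoh.Ab X} (ψ : EtPBC.extZeroConst V (ZMod n) ⟶ G) :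
    EtCoh.sect G V :=
  ((adjOver V).homEquiv _ _ ψ).hom (ULift.up 1)

lemma sectionOf_comp {G G' : EtCoh.Ab X} (ψ : EtPBC.extZeroConst V (ZMod n) ⟶ G) (a : G ⟶ G') :
    sectionOf V n (ψ ≫ a) = a.hom.app (op V) (sectionOf V n ψ) := by
  unfold sectionOf
  rw [(adjOver V).homEquiv_naturality_right ψ a]
  rfl

lemma sectionOf_secMap (F : EtCoh.Ab X) (s : EtCoh.sect F V) (hs : n • s = 0) :
    sectionOf V n (secMap V n F s hs) = s := by
  unfold sectionOf secMap
  rw [Equiv.apply_symm_apply]
  exact zmodHom_one V n F s hs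

lemma sectionOf_injective {G : EtCoh.Ab X} (ψ ψ' : EtPBC.extZeroConst V (ZMod n) ⟶ G)
    (h : sectionOf V n ψ = sectionOf V n ψ') : ψ = ψ' := by
  apply ((adjOver V).homEquiv _ _).injective
  exact zmod_hom_ext _ _ h

lemma sectionOf_zero (G : EtCoh.Ab X) :
    sectionOf V n (0 : EtPBC.extZeroConst V (ZMod n) ⟶ G) = 0 := by
  have h := sectionOf_comp V n (0 : EtPBC.extZeroConst V (ZMod n) ⟶ G) (0 : G ⟶ G)
  rw [comp_zero] at h
  rw [h]
  rfl

lemma nsmul_sectionOf {G : EtCoh.Ab X} (ψ : EtPBC.extZeroConst V (ZMod n) ⟶ G) :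
    n • sectionOf V n ψ = 0 := by
  have h0 : (n • (ULift.up 1 : ULift.{u + 1} (ZMod n))) = 0 := by
    apply ULift.ext
    simp
  have h1 := map_nsmul ((adjOver V).homEquiv _ _ ψ).hom n (ULift.up 1 : ULift.{u + 1} (ZMod n))
  rw [h0, map_zero] at h1
  exact h1.symm

lemma eq_secMap {G : EtCoh.Ab X} (ψ : EtPBC.extZeroConst V (ZMod n) ⟶ G) :
    ψ = secMap V n G (sectionOf V n ψ) (nsmul_sectionOf V n ψ) :=
  sectionOf_injective V n _ _ (sectionOf_secMap V n G _ _).symm

end SecMap

section Kil

variable {A : Type*} [Category A] [Abelian A]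

/-- objects killed by a positive integer -/
def Kil : ObjectProperty A := fun M => ∃ N : ℕ, 0 < N ∧ N • 𝟙 M = 0

theorem kil_hyp : FinColimClosed.Hyp (Kil (A := A)) where
  iso := by
    rintro M M' e ⟨N, hN, h⟩
    refine ⟨N, hN, ?_⟩
    rw [← cancel_epi e.hom, Preadditive.comp_nsmul, Category.comp_id, comp_zero]
    have : N • e.hom = (N • 𝟙 M) ≫ e.hom := by
      rw [Preadditive.nsmul_comp, Category.id_comp]
    rw [this, h, zero_comp]
  zero Z hZ := ⟨1, one_pos, hZ.eq_of_src _ _⟩
  biprod := by
    rintro M M' ⟨a, ha, h1⟩ ⟨b, hb, h2⟩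
    refine ⟨a * b, mul_pos ha hb, ?_⟩
    apply biprod.hom_ext'
    · rw [Preadditive.comp_nsmul, Category.comp_id, comp_zero]
      have : (a * b) • (biprod.inl : M ⟶ M ⊞ M') = (b • (a • 𝟙 M)) ≫ biprod.inl := by
        rw [Preadditive.nsmul_comp, Preadditive.nsmul_comp, Category.id_comp, mul_comm, mul_smul]
      rw [this, h1, smul_zero, zero_comp]
    · rw [Preadditive.comp_nsmul, Category.comp_id, comp_zero]
      have : (a * b) • (biprod.inr : M' ⟶ M ⊞ M') = (a • (b • 𝟙 M')) ≫ biprod.inr := by
        rw [Preadditive.nsmul_comp, Preadditive.nsmul_comp, Category.id_comp, mul_smul]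
      rw [this, h2, smul_zero, zero_comp]
  coker := by
    rintro M M' f - ⟨b, hb, h2⟩
    refine ⟨b, hb, ?_⟩
    rw [← cancel_epi (cokernel.π f), Preadditive.comp_nsmul, Category.comp_id, comp_zero]
    have : b • cokernel.π f = (b • 𝟙 M') ≫ cokernel.π f := by
      rw [Preadditive.nsmul_comp, Category.id_comp]
    rw [this, h2, zero_comp]

lemma nsmul_app_apply (Y : EtCoh.Ab X) (n : ℕ) (U : X.Etale) (s : EtCoh.sect Y U) :
    ((n • 𝟙 Y : Y ⟶ Y).hom.app (op U)).hom s = n • s := by
  induction n with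
  | zero => simp
  | succ n ih =>
    rw [succ_nsmul, succ_nsmul, Sheaf.Hom.add_app]
    show ((n • 𝟙 Y : Y ⟶ Y).hom.app (op U)).hom s + s = _
    rw [ih]

lemma kil_sections {Y : EtCoh.Ab X} {n : ℕ} (h : n • 𝟙 Y = 0) (U : X.Etale)
    (s : EtCoh.sect Y U) : n • s = 0 := by
  rw [← nsmul_app_apply, h]
  rfl

end Kil

section Main

open Groth.Agent.H21.QFStrata Groth.Agent.H21.ConstrGen

attribute [local instance] Cardinal.fact_isRegular_aleph0

variable (X) [CompactSpace X] [QuasiSeparatedSpace X]

/-- index type of the generators `j_! ℤ/n`, `j : U ⟶ X` étale with `U` affine, `n > 0` -/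
def GenIdx : Type (u + 1) := {p : X.Etale × ℕ // IsAffine p.1.left ∧ 0 < p.2}

/-- the generators -/
noncomputable def gen (p : GenIdx X) : EtCoh.Ab X := EtPBC.extZeroConst p.1.1 (ZMod p.1.2)

/-- the property of being one of the generators -/
def P : ObjectProperty (EtCoh.Ab X) := ObjectProperty.ofObj (gen X)

instance : ObjectProperty.Small.{u + 1} (P X) := by
  unfold P
  infer_instance

omit [CompactSpace X] [QuasiSeparatedSpace X] in
theorem P_gen (U : X.Etale) (n : ℕ) (hU : IsAffine U.left) (hn : 0 < n) :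
    P X (EtPBC.extZeroConst U (ZMod n)) :=
  ObjectProperty.ofObj.mk (X := gen X) ⟨(U, n), hU, hn⟩

/-- constructibility as an object property -/
def constr : ObjectProperty (EtCoh.Ab X) := fun F => EtPBC.IsConstructible F

omit [CompactSpace X] [QuasiSeparatedSpace X] in
theorem constr_hyp : FinColimClosed.Hyp (constr X) where
  iso e h := Groth.Agent.H21.ConstrSub.isConstructible_of_iso e h
  zero Z hZ := isConstructible_of_isZero Z hZ
  biprod M N hM hN := isConstructible_biprod M N hM hN
  coker f hM hN := (Groth.Agent.H21.ConstrSub.isConstructible_kernel_cokernel f hM hN).2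

/-- the closure of the generators under finite colimits -/
abbrev K : ObjectProperty (EtCoh.Ab X) :=
  (P X).colimitsCardinalClosure Cardinal.aleph0.{u + 1}

theorem P_le_constr : P X ≤ constr X := by
  rintro _ ⟨p⟩
  obtain ⟨⟨U, n⟩, hU, hn⟩ := p
  have : IsAffine U.left := hU
  have : NeZero n := ⟨hn.ne'⟩
  have : CompactSpace U.left := inferInstance
  have : QuasiSeparatedSpace U.left := inferInstance
  exact extZeroConst_isConstructible U (ZMod n)

omit [CompactSpace X] [QuasiSeparatedSpace X] in
theorem gen_kil (U : X.Etale) (n : ℕ) : n • 𝟙 (EtPBC.extZeroConst U (ZMod n)) = 0 := by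
  apply sectionOf_injective U n
  have h := sectionOf_comp U n (𝟙 (EtPBC.extZeroConst U (ZMod n)))
    (n • 𝟙 (EtPBC.extZeroConst U (ZMod n)))
  rw [Category.id_comp] at h
  rw [h, sectionOf_zero]
  exact (nsmul_app_apply _ n U _).trans (nsmul_sectionOf U n _)

omit [CompactSpace X] [QuasiSeparatedSpace X] in
theorem P_le_kil : P X ≤ Kil := by
  rintro _ ⟨p⟩
  obtain ⟨⟨U, n⟩, hU, hn⟩ := p
  exact ⟨n, hn, gen_kil X U n⟩

theorem K_le_constr : K X ≤ constr X := by
  have := (constr_hyp X).isClosedUnderIsomorphisms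
  exact ObjectProperty.colimitsCardinalClosure_le (P X) _
    (fun J _ hJ => (constr_hyp X).finiteColimits' J hJ) (P_le_constr X)

omit [CompactSpace X] [QuasiSeparatedSpace X] in
theorem K_le_kil : K X ≤ Kil := by
  have := (kil_hyp (A := EtCoh.Ab X)).isClosedUnderIsomorphisms
  exact ObjectProperty.colimitsCardinalClosure_le (P X) _
    (fun J _ hJ => kil_hyp.finiteColimits' J hJ) (P_le_kil X)

/-- **Torsion sheaves on a qcqs scheme are filtered colimits of constructible sheaves.** -/
theorem main (F : EtCoh.Ab X) (hF : EtCoh.IsTorsion F) :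
    ∃ (J : Type (u + 1)) (_ : SmallCategory J) (_ : IsFiltered J) (D : J ⥤ EtCoh.Ab X)
      (c : Cocone D) (_ : IsColimit c),
      (∀ j, EtPBC.IsConstructible (D.obj j)) ∧ Nonempty (c.pt ≅ F) := by
  let I := CostructuredArrow (K X).ι F
  have hfilt : IsFiltered I := inferInstance
  have hsmall : EssentiallySmall.{u + 1} I := inferInstance
  have : HasColimitsOfShape I (EtCoh.Ab X) :=
    hasColimitsOfShape_of_equivalence (equivSmallModel.{u + 1} I).symm
  let Ψ : I ⥤ EtCoh.Ab X := CostructuredArrow.proj (K X).ι F ⋙ (K X).ι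
  let c : Cocone Ψ :=
    { pt := F
      ι :=
        { app := fun i => i.hom
          naturality := fun i j f => by
            simp only [Functor.const_obj_obj, Functor.const_obj_map, Category.comp_id]
            exact CostructuredArrow.w f } }
  have S1 : ∀ (U : X.Etale), IsAffine U.left → ∀ (n : ℕ), 0 < n → ∀ t : EtCoh.sect c.pt U,
      n • t = 0 → ∃ (i : I) (ti : EtCoh.sect (Ψ.obj i) U),
        (c.ι.app i).hom.app (op U) ti = t := by
    intro U hU n hn t ht
    let Y : (K X).FullSubcategory := ⟨EtPBC.extZeroConst U (ZMod n),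
      (P X).le_colimitsCardinalClosure _ _ (P_gen X U n hU hn)⟩
    let i : I := CostructuredArrow.mk (Y := Y) (by exact secMap U n F t ht)
    refine ⟨i, sectionOf U n (𝟙 (EtPBC.extZeroConst U (ZMod n))), ?_⟩
    show (secMap U n F t ht).hom.app (op U)
      (sectionOf U n (𝟙 (EtPBC.extZeroConst U (ZMod n)))) = t
    have h1 := sectionOf_comp U n (𝟙 (EtPBC.extZeroConst U (ZMod n))) (secMap U n F t ht)
    rw [Category.id_comp, sectionOf_secMap] at h1
    exact h1.symm
  have S2 : ∀ (U : X.Etale), IsAffine U.left → ∀ (i : I) (s : EtCoh.sect (Ψ.obj i) U),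
      (c.ι.app i).hom.app (op U) s = 0 →
        ∃ (k : I) (a : i ⟶ k), (Ψ.map a).hom.app (op U) s = 0 := by
    intro U hU i s hs
    obtain ⟨N, hN, hkil⟩ := K_le_kil X _ i.left.2
    have hNs : N • s = 0 := kil_sections hkil U s
    let φ₁ : EtPBC.extZeroConst U (ZMod N) ⟶ i.left.1 := secMap U N i.left.1 s hNs
    have hclosed : (K X).IsClosedUnderColimitsOfShape WalkingParallelPair := by
      apply ObjectProperty.isClosedUnderColimitsOfShape_colimitsCardinalClosure
      simp only [hasCardinalLT_aleph0_iff]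
      infer_instance
    let obj : (K X).FullSubcategory :=
      ⟨coequalizer φ₁ 0, by
        apply ObjectProperty.prop_colimit
        rintro (_ | _)
        · exact (P X).le_colimitsCardinalClosure _ _ (P_gen X U N hU hN)
        · exact i.left.2⟩
    have hcond : φ₁ ≫ i.hom = 0 ≫ i.hom := by
      rw [zero_comp]
      apply sectionOf_injective U N
      have h2 := sectionOf_comp U N φ₁ i.hom
      rw [sectionOf_secMap] at h2
      exact h2.trans (hs.trans (sectionOf_zero U N F).symm)
    let a' : (K X).ι.obj obj ⟶ F := coequalizer.desc i.hom hcond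
    let ψ : i ⟶ CostructuredArrow.mk a' :=
      CostructuredArrow.homMk (ObjectProperty.homMk (coequalizer.π φ₁ 0)) (by simp [a'])
    refine ⟨CostructuredArrow.mk a', ψ, ?_⟩
    show (coequalizer.π φ₁ 0).hom.app (op U) s = 0
    have h2 := sectionOf_comp U N φ₁ (coequalizer.π φ₁ 0)
    rw [sectionOf_secMap] at h2
    rw [← h2]
    have h3 : φ₁ ≫ coequalizer.π φ₁ 0 = 0 := by
      rw [coequalizer.condition, zero_comp]
    rw [h3]
    exact sectionOf_zero U N _
  obtain ⟨hc⟩ := isColimit_of_sections Ψ c hF S1 S2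
  let e := equivSmallModel.{u + 1} I
  exact ⟨SmallModel.{u + 1} I, inferInstance, IsFiltered.of_equivalence e, e.inverse ⋙ Ψ,
    c.whisker e.inverse, hc.whiskerEquivalence e.symm,
    fun j => K_le_constr X _ (e.inverse.obj j).left.2, ⟨Iso.refl _⟩⟩

end Main

end Groth.Agent.H60.ConstrDense
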