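import Groth.Agent.H60.ConstrDense
import Groth.Agent.H69.EtColimH
import Groth.Agent.H39.EtTorsion
import Mathlib.CategoryTheory.Adjunction.Evaluation
import Mathlib.CategoryTheory.Preadditive.Injective.Preserves
import Mathlib.Algebra.Category.Grp.AB

/-!
# Effaceability of cohomology classes of constructible sheaves by constructible monos (helper60)
-/

set_option autoImplicit false
open CategoryTheory CategoryTheory.Limits AlgebraicGeometry Opposite
universe u

namespace Groth.Agent.H60.ConstrEfface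

open Groth.Agent.H60.ConstrCompact Groth.Agent.H60.ConstrDense

variable {X : Scheme.{u}}

section Divisible

/-- An injective abelian group is divisible. -/
lemma exists_nsmul_eq_of_injective (A : AddCommGrpCat.{u + 1}) [Injective A] (a : A) (n : ℕ)
    (hn : 0 < n) : ∃ b : A, n • b = a := by
  let Z : AddCommGrpCat.{u + 1} := AddCommGrpCat.of (ULift.{u + 1} ℤ)
  let φ : Z ⟶ A := AddCommGrpCat.ofHom
    ((zmultiplesHom A a).comp (AddEquiv.ulift (α := ℤ)).toAddMonoidHom)
  let ν : Z ⟶ Z := AddCommGrpCat.ofHom (n • AddMonoidHom.id _)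
  have : Mono ν := by
    rw [AddCommGrpCat.mono_iff_injective]
    intro x y h
    have h' : n • x = n • y := h
    apply ULift.ext
    have h'' : n • x.down = n • y.down := congrArg ULift.down h'
    rw [nsmul_eq_mul, nsmul_eq_mul] at h''
    have hn' : (n : ℤ) ≠ 0 := by exact_mod_cast hn.ne'
    exact mul_left_cancel₀ hn' h''
  refine ⟨(Injective.factorThru φ ν).hom ⟨1⟩, ?_⟩
  have h1 : ν ≫ Injective.factorThru φ ν = φ := Injective.comp_factorThru φ ν
  have h2 := congrArg (fun k => k.hom (⟨1⟩ : ULift.{u + 1} ℤ)) h1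
  simp only [AddCommGrpCat.hom_comp, AddMonoidHom.comp_apply] at h2
  have h3 : ν.hom (⟨1⟩ : ULift.{u + 1} ℤ) = n • (⟨1⟩ : ULift.{u + 1} ℤ) := rfl
  rw [h3, map_nsmul] at h2
  rw [h2]
  show (1 : ℤ) • a = a
  simp

instance (U : X.Etaleᵒᵖ) :
    (evaluationLeftAdjoint AddCommGrpCat.{u + 1} U).PreservesMonomorphisms where
  preserves {d d'} f hf := by
    rw [NatTrans.mono_iff_mono_app]
    intro V
    have : AB4OfSize.{u} AddCommGrpCat.{u + 1} := AB4OfSize_shrink.{u, u + 1} _
    have : Mono (Limits.Sigma.map (fun (_ : U ⟶ V) => f)) := inferInstance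
    exact this

/-- Sections of an injective abelian sheaf form an injective abelian group. -/
lemma injective_sections (I : EtCoh.Ab X) [Injective I] (U : X.Etaleᵒᵖ) :
    Injective (I.obj.obj U) := by
  have h1 : Injective ((sheafToPresheaf X.smallEtaleTopology AddCommGrpCat.{u + 1}).obj I) :=
    Injective.injective_of_adjoint
      (sheafificationAdjunction X.smallEtaleTopology AddCommGrpCat.{u + 1}) I
  have h2 : Injective I.obj := h1
  exact Injective.injective_of_adjoint (evaluationAdjunctionRight AddCommGrpCat.{u + 1} U) I.obj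

/-- Multiplication by a positive integer is an epimorphism on an injective abelian sheaf. -/
lemma epi_nsmul_of_injective (I : EtCoh.Ab X) [Injective I] (n : ℕ) (hn : 0 < n) :
    Epi (n • 𝟙 I : I ⟶ I) := by
  have : Epi (n • 𝟙 I : I ⟶ I).hom := by
    have : ∀ U, Epi ((n • 𝟙 I : I ⟶ I).hom.app U) := fun U => by
      rw [AddCommGrpCat.epi_iff_surjective]
      intro a
      have := injective_sections I U
      obtain ⟨b, hb⟩ := exists_nsmul_eq_of_injective (I.obj.obj U) a n hn
      exact ⟨b, by rw [← hb]; exact nsmul_app_apply I n U.unop b⟩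
    exact NatTrans.epi_of_epi_app _
  exact Sheaf.Hom.epi_of_presheaf_epi _ _ _

end Divisible

section Hull

open Groth.Agent.H69.EtSecExact CategoryTheory.Abelian

variable (F : EtCoh.Ab X) (N : ℕ)

/-- the `N`-torsion of the injective hull of `F` -/
noncomputable abbrev hull : EtCoh.Ab X := kernel (N • 𝟙 (Injective.under F))

/-- `F ⟶ hull F N` when `N` kills `F` -/
noncomputable def hullι (h : N • 𝟙 F = 0) : F ⟶ hull F N :=
  kernel.lift _ (Injective.ι F) (by
    rw [Preadditive.comp_nsmul, Category.comp_id]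
    have : N • Injective.ι F = (N • 𝟙 F) ≫ Injective.ι F := by
      rw [Preadditive.nsmul_comp, Category.id_comp]
    rw [this, h, zero_comp])

lemma hullι_ι (h : N • 𝟙 F = 0) :
    hullι F N h ≫ kernel.ι (N • 𝟙 (Injective.under F)) = Injective.ι F :=
  kernel.lift_ι _ _ _

instance (h : N • 𝟙 F = 0) : Mono (hullι F N h) :=
  mono_of_mono_fac (hullι_ι F N h)

lemma hull_kil : N • 𝟙 (hull F N) = 0 := by
  have h0 : (N • 𝟙 (hull F N)) ≫ kernel.ι (N • 𝟙 (Injective.under F)) =
      0 ≫ kernel.ι (N • 𝟙 (Injective.under F)) := by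
    rw [zero_comp, Preadditive.nsmul_comp, Category.id_comp]
    have : N • kernel.ι (N • 𝟙 (Injective.under F)) =
        kernel.ι (N • 𝟙 (Injective.under F)) ≫ (N • 𝟙 (Injective.under F)) := by
      rw [Preadditive.comp_nsmul, Category.comp_id]
    rw [this, kernel.condition]
  exact (cancel_mono (kernel.ι (N • 𝟙 (Injective.under F)))).1 h0

/-- the short exact sequence `0 ⟶ I[N] ⟶ I ⟶ I ⟶ 0` -/
noncomputable abbrev hullSC : ShortComplex (EtCoh.Ab X) :=
  ShortComplex.mk (kernel.ι (N • 𝟙 (Injective.under F))) (N • 𝟙 (Injective.under F))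
    (kernel.condition _)

lemma hullSC_shortExact (hN : 0 < N) : (hullSC F N).ShortExact := by
  have : Epi (hullSC F N).g := epi_nsmul_of_injective (Injective.under F) N hN
  have : Mono (hullSC F N).f := by
    unfold hullSC
    infer_instance
  exact ShortComplex.ShortExact.mk
    (ShortComplex.exact_of_f_is_kernel _ (kernelIsKernel (N • 𝟙 (Injective.under F))))

/-- the `N`-torsion of an injective sheaf has no higher cohomology -/
theorem hull_acyclic (hN : 0 < N) (q : ℕ) (hq : 0 < q) (β : EtCoh.H X (hull F N) q) : β = 0 := by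
  obtain ⟨n₀, rfl⟩ : ∃ n₀, q = n₀ + 1 := ⟨q - 1, by omega⟩
  have hS := hullSC_shortExact F N hN
  have : Injective (hullSC F N).X₂ := inferInstanceAs (Injective (Injective.under F))
  have : Injective (hullSC F N).X₃ := inferInstanceAs (Injective (Injective.under F))
  have h1 : β.comp (Ext.mk₀ (hullSC F N).f) (add_zero (n₀ + 1)) = 0 :=
    Ext.eq_zero_of_injective _
  obtain ⟨x₃, hx₃⟩ := Ext.covariant_sequence_exact₁ _ hS β h1 rfl
  rw [← hx₃]
  rcases Nat.eq_zero_or_pos n₀ with h0 | hpos
  · subst h0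
    obtain ⟨φ, rfl⟩ := (Ext.mk₀_bijective _ _).2 x₃
    -- `φ` is divisible by `N`
    let a := homEquivGsec X (Injective.under F) φ
    have := injective_sections (Injective.under F) (op (EtCoh.top X))
    obtain ⟨b, hb⟩ := exists_nsmul_eq_of_injective _ a N hN
    let φ' := (homEquivGsec X (Injective.under F)).symm b
    have hφ : φ = φ' ≫ (hullSC F N).g := by
      apply (homEquivGsec X (Injective.under F)).injective
      show a = _
      have h2 : φ' ≫ (hullSC F N).g = N • φ' := by
        show φ' ≫ (N • 𝟙 (Injective.under F)) = N • φ'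
        rw [Preadditive.comp_nsmul, Category.comp_id]
      rw [h2, map_nsmul, AddEquiv.apply_symm_apply, hb]
    rw [hφ, ← Ext.mk₀_comp_mk₀,
      Ext.comp_assoc (Ext.mk₀ φ') (Ext.mk₀ (hullSC F N).g) hS.extClass (add_zero 0) (zero_add 1)
        (by omega), hS.comp_extClass, Ext.comp_zero]
  · obtain ⟨m, rfl⟩ : ∃ m, n₀ = m + 1 := ⟨n₀ - 1, by omega⟩
    have : x₃ = 0 := Ext.eq_zero_of_injective _
    rw [this, Ext.zero_comp]

end Hull

section Main

open Groth.Agent.H60.ConstrCompact2

variable (X) [CompactSpace X] [QuasiSeparatedSpace X]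

attribute [local instance] Abelian.hasFiniteBiproducts in
/-- a constructible sheaf on a qcqs scheme is killed by a positive integer -/
theorem kil_of_isConstructible (F : EtCoh.Ab X) (hF : EtPBC.IsConstructible F) : Kil F := by
  obtain ⟨a, b, U, V, n, m, hU, hV, φ, ⟨e⟩⟩ := (Groth.Agent.S3508.result X F).1 hF
  have h1 : Kil (⨁ fun j => EtPBC.extZeroConst (V j) (ZMod (m j))) :=
    kil_hyp.iso (biproduct.isoCoproduct _).symm
      (kil_hyp.sigma _ (fun j => ⟨m j, (hV j).1, gen_kil X (V j) (m j)⟩))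
  have h2 : Kil (⨁ fun i => EtPBC.extZeroConst (U i) (ZMod (n i))) :=
    kil_hyp.iso (biproduct.isoCoproduct _).symm
      (kil_hyp.sigma _ (fun i => ⟨n i, (hU i).1, gen_kil X (U i) (n i)⟩))
  exact kil_hyp.iso e.symm (kil_hyp.coker φ h1 h2)

/-- **Cohomology classes of constructible sheaves are effaceable by constructible monos.** -/
theorem efface (F : EtCoh.Ab X) (hF : EtPBC.IsConstructible F) (q : ℕ) (hq : 0 < q)
    (α : EtCoh.H X F q) :
    ∃ (G : EtCoh.Ab X) (u : F ⟶ G), EtPBC.IsConstructible G ∧ Mono u ∧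
      (EtCoh.HF X q).map u α = 0 := by
  obtain ⟨N, hN, hkil⟩ := kil_of_isConstructible X F hF
  let v : F ⟶ hull F N := hullι F N hkil
  have hT : EtCoh.IsTorsion (hull F N) :=
    Groth.Agent.H39.EtTorsion.isTorsion_of_nsmul_id_eq_zero _ N hN (hull_kil F N)
  obtain ⟨J, _, _, D, c, hc, hD, ⟨e⟩⟩ := main X (hull F N) hT
  have hcpt : Cpt J F := cpt_of_isConstructible X F hF J
  obtain ⟨j₀, u₀, hu₀⟩ := hcpt.surj hc (v ≫ e.inv)
  have hmono : Mono (u₀ ≫ c.ι.app j₀) := by
    rw [hu₀]
    infer_instance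
  have := Groth.Agent.H69.EtColimH.preservesColimitsOfShape_HF (Λ := J) X q
  have hcol : IsColimit ((EtCoh.HF X q).mapCocone c) := isColimitOfPreserves _ hc
  have hv : (EtCoh.HF X q).map v α = 0 := hull_acyclic F N hN q hq _
  have hz : ((EtCoh.HF X q).mapCocone c).ι.app j₀ ((EtCoh.HF X q).map u₀ α) =
      ((EtCoh.HF X q).mapCocone c).ι.app j₀ 0 := by
    rw [map_zero]
    show ((EtCoh.HF X q).map u₀ ≫ (EtCoh.HF X q).map (c.ι.app j₀)) α = 0
    rw [← Functor.map_comp, hu₀, Functor.map_comp]
    show (EtCoh.HF X q).map e.inv ((EtCoh.HF X q).map v α) = 0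
    rw [hv, map_zero]
  obtain ⟨k, a, b, hk⟩ := Concrete.isColimit_exists_of_rep_eq (D ⋙ EtCoh.HF X q) hcol _ _ hz
  refine ⟨D.obj k, u₀ ≫ D.map a, hD k, ?_, ?_⟩
  · have h3 : (u₀ ≫ D.map a) ≫ c.ι.app k = u₀ ≫ c.ι.app j₀ := by
      rw [Category.assoc, c.w]
    have : Mono ((u₀ ≫ D.map a) ≫ c.ι.app k) := by
      rw [h3]
      exact hmono
    exact mono_of_mono _ (c.ι.app k)
  · rw [Functor.map_comp]
    have hk' : (EtCoh.HF X q).map (D.map a) ((EtCoh.HF X q).map u₀ α) =
        (EtCoh.HF X q).map (D.map b) 0 := hk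
    rw [map_zero] at hk'
    exact hk'

end Main

end Groth.Agent.H60.ConstrEfface
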