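import Groth.Agent.H43.CechContract
import Groth.Prelude.Def_DeltaF

/-!
# The δ-functor of cosimplicial objects

For an abelian category `𝒜`, the functors `F ↦ H^n(alternating coface complex of F)` on
`SimplexCategory ⥤ 𝒜` form a cohomological δ-functor, effaceable when `𝒜` has countable products
(via the cofree cosimplicial object, which has an extra codegeneracy).  In degree `0` it is the
limit functor.  (helper60)
-/

set_option autoImplicit false
universe v u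
open CategoryTheory Limits Opposite Simplicial

namespace Groth.Agent.H60.CosimpDelta

variable {𝒜 : Type u} [Category.{v} 𝒜] [Abelian 𝒜]

/-- the alternating coface map complex functor on the functor category -/
noncomputable def K : (SimplexCategory ⥤ 𝒜) ⥤ CochainComplex 𝒜 ℕ :=
  AlgebraicTopology.alternatingCofaceMapComplex 𝒜

lemma K_obj_X (F : SimplexCategory ⥤ 𝒜) (n : ℕ) : ((K (𝒜 := 𝒜)).obj F).X n = F.obj ⦋n⦌ := rfl

lemma K_map_f {F G : SimplexCategory ⥤ 𝒜} (φ : F ⟶ G) (n : ℕ) :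
    ((K (𝒜 := 𝒜)).map φ).f n = φ.app ⦋n⦌ := rfl

instance : (K (𝒜 := 𝒜)).Additive where
  map_add {F G} {φ ψ} := by
    ext n : 1
    rfl

lemma shortExact_map_K {S : ShortComplex (SimplexCategory ⥤ 𝒜)} (hS : S.ShortExact) :
    (S.map (K (𝒜 := 𝒜))).ShortExact := by
  apply HomologicalComplex.shortExact_of_degreewise_shortExact
  intro n
  exact hS.map_of_exact ((evaluation SimplexCategory 𝒜).obj ⦋n⦌)

/-- The δ-functor of cosimplicial objects. -/
noncomputable def cosimpDelta : DeltaF.CohDeltaFunctor (SimplexCategory ⥤ 𝒜) 𝒜 ℕ where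
  F n := K ⋙ HomologicalComplex.homologyFunctor _ _ n
  additive _ := inferInstance
  δ _ hS n₀ n₁ h := (shortExact_map_K hS).δ n₀ n₁ h
  δ_natural hS hS' φ n₀ n₁ h :=
    (HomologicalComplex.HomologySequence.δ_naturality ((K (𝒜 := 𝒜)).mapShortComplex.map φ)
      (shortExact_map_K hS) (shortExact_map_K hS') n₀ n₁ h).symm
  exact₂ _ hS n := (shortExact_map_K hS).homology_exact₂ n
  comp_δ _ hS n₀ n₁ h := (shortExact_map_K hS).comp_δ n₀ n₁ h
  exact₃ _ hS n₀ n₁ h := (shortExact_map_K hS).homology_exact₃ n₀ n₁ h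
  δ_comp _ hS n₀ n₁ h := (shortExact_map_K hS).δ_comp n₀ n₁ h
  exact₁ _ hS n₀ n₁ h := (shortExact_map_K hS).homology_exact₁ n₀ n₁ h

/-! ### exactness from a contraction -/

lemma exact_of_contraction {C : Type*} [Category C] [Preadditive C] (S : ShortComplex C)
    [S.HasHomology] (s₁ : S.X₂ ⟶ S.X₁) (s₂ : S.X₃ ⟶ S.X₂)
    (h : s₁ ≫ S.f + S.g ≫ s₂ = 𝟙 S.X₂) : S.Exact := by
  have hf : S.f ≫ s₁ ≫ S.f = S.f := by
    have := congrArg (fun t => S.f ≫ t) h
    simp only [Preadditive.comp_add, S.zero_assoc, zero_comp, add_zero, Category.comp_id] at this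
    exact this
  have hg : S.g ≫ s₂ ≫ S.g = S.g := by
    have := congrArg (fun t => t ≫ S.g) h
    simp only [Preadditive.add_comp, Category.assoc, S.zero, comp_zero, zero_add,
      Category.id_comp] at this
    exact this
  let H : ShortComplex.Homotopy (𝟙 S) 0 :=
    { h₀ := 𝟙 _ - S.f ≫ s₁
      h₀_f := by rw [Preadditive.sub_comp, Category.id_comp, Category.assoc, hf, sub_self]
      h₁ := s₁
      h₂ := s₂
      h₃ := 𝟙 _ - s₂ ≫ S.g
      g_h₃ := by rw [Preadditive.comp_sub, Category.comp_id, hg, sub_self]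
      comm₁ := by
        rw [ShortComplex.id_τ₁, ShortComplex.zero_τ₁, add_zero]
        abel
      comm₂ := by
        rw [ShortComplex.id_τ₂, ShortComplex.zero_τ₂, add_zero, ← h]
        abel
      comm₃ := by
        rw [ShortComplex.id_τ₃, ShortComplex.zero_τ₃, add_zero]
        abel }
  rw [ShortComplex.exact_iff_isZero_homology, IsZero.iff_id_eq_zero]
  have := H.homologyMap_congr
  rw [ShortComplex.homologyMap_id, ShortComplex.homologyMap_zero] at this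
  exact this

lemma isZero_homology_of_contraction {C : Type*} [Category C] [Abelian C]
    (L : CochainComplex C ℕ) (n : ℕ) (a : L.X (n + 1) ⟶ L.X n) (b : L.X (n + 2) ⟶ L.X (n + 1))
    (h : a ≫ L.d n (n + 1) + L.d (n + 1) (n + 2) ≫ b = 𝟙 _) : IsZero (L.homology (n + 1)) := by
  rw [← HomologicalComplex.exactAt_iff_isZero_homology,
    HomologicalComplex.exactAt_iff' _ n (n + 1) (n + 2) (by simp) (by simp)]
  exact exact_of_contraction _ a b h

/-! ### the cofree cosimplicial object -/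

section Cofree

variable [HasProducts.{0} 𝒜]

/-- the index type of the cofree object in degree `k` -/
abbrev Idx (k : SimplexCategory) : Type := Σ j : ℕ, (k ⟶ ⦋j⦌)

/-- the cofree cosimplicial object on the family `F.obj ⦋j⦌` -/
noncomputable def G (F : SimplexCategory ⥤ 𝒜) : SimplexCategory ⥤ 𝒜 where
  obj k := ∏ᶜ fun (p : Idx k) => F.obj ⦋p.1⦌
  map {k k'} θ := Pi.lift (fun (p : Idx k') => Pi.π (fun (p : Idx k) => F.obj ⦋p.1⦌) ⟨p.1, θ ≫ p.2⟩)
  map_id k := by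
    apply Pi.hom_ext
    intro p
    obtain ⟨j, a⟩ := p
    refine (Pi.lift_π _ _).trans ?_
    refine Eq.trans ?_ (Category.id_comp _).symm
    have : 𝟙 k ≫ a = a := Category.id_comp _
    rw [this]
  map_comp {k k' k''} θ θ' := by
    apply Pi.hom_ext
    intro p
    obtain ⟨j, a⟩ := p
    have h1 : Pi.lift (fun (p : Idx k'') =>
          Pi.π (fun (p : Idx k') => F.obj ⦋p.1⦌) ⟨p.1, θ' ≫ p.2⟩) ≫
        Pi.π (fun (p : Idx k'') => F.obj ⦋p.1⦌) ⟨j, a⟩ =
        Pi.π (fun (p : Idx k') => F.obj ⦋p.1⦌) ⟨j, θ' ≫ a⟩ := Pi.lift_π _ _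
    have h2 : Pi.lift (fun (p : Idx k') =>
          Pi.π (fun (p : Idx k) => F.obj ⦋p.1⦌) ⟨p.1, θ ≫ p.2⟩) ≫
        Pi.π (fun (p : Idx k') => F.obj ⦋p.1⦌) ⟨j, θ' ≫ a⟩ =
        Pi.π (fun (p : Idx k) => F.obj ⦋p.1⦌) ⟨j, θ ≫ θ' ≫ a⟩ := Pi.lift_π _ _
    have h3 : Pi.lift (fun (p : Idx k'') =>
          Pi.π (fun (p : Idx k) => F.obj ⦋p.1⦌) ⟨p.1, (θ ≫ θ') ≫ p.2⟩) ≫
        Pi.π (fun (p : Idx k'') => F.obj ⦋p.1⦌) ⟨j, a⟩ =
        Pi.π (fun (p : Idx k) => F.obj ⦋p.1⦌) ⟨j, (θ ≫ θ') ≫ a⟩ := Pi.lift_π _ _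
    rw [h3]
    refine Eq.trans ?_ (Category.assoc _ _ _).symm
    rw [h1, h2]
    have : (θ ≫ θ') ≫ a = θ ≫ θ' ≫ a := Category.assoc _ _ _
    rw [this]

/-- projections -/
noncomputable def πG (F : SimplexCategory ⥤ 𝒜) {k : SimplexCategory} (p : Idx k) :
    (G F).obj k ⟶ F.obj ⦋p.1⦌ :=
  Pi.π (fun (p : Idx k) => F.obj ⦋p.1⦌) p

/-- lifting -/
noncomputable def liftG (F : SimplexCategory ⥤ 𝒜) {k : SimplexCategory} {W : 𝒜}
    (f : ∀ p : Idx k, W ⟶ F.obj ⦋p.1⦌) : W ⟶ (G F).obj k :=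
  Pi.lift f

omit [Abelian 𝒜] in
@[reassoc (attr := simp)]
lemma liftG_π (F : SimplexCategory ⥤ 𝒜) {k : SimplexCategory} {W : 𝒜}
    (f : ∀ p : Idx k, W ⟶ F.obj ⦋p.1⦌) (p : Idx k) : liftG F f ≫ πG F p = f p :=
  Pi.lift_π _ _

omit [Abelian 𝒜] in
lemma G_hom_ext (F : SimplexCategory ⥤ 𝒜) {k : SimplexCategory} {W : 𝒜} {f g : W ⟶ (G F).obj k}
    (h : ∀ p : Idx k, f ≫ πG F p = g ≫ πG F p) : f = g :=
  Pi.hom_ext _ _ h

omit [Abelian 𝒜] in
lemma πG_congr (F : SimplexCategory ⥤ 𝒜) {k : SimplexCategory} {j : ℕ} {a b : k ⟶ ⦋j⦌}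
    (h : a = b) : πG F (⟨j, a⟩ : Idx k) = πG F ⟨j, b⟩ := by
  subst h
  rfl

omit [Abelian 𝒜] in
@[reassoc]
lemma G_map_π (F : SimplexCategory ⥤ 𝒜) {k k' : SimplexCategory} (θ : k ⟶ k') (p : Idx k') :
    (G F).map θ ≫ πG F p = πG F (⟨p.1, θ ≫ p.2⟩ : Idx k) :=
  Pi.lift_π _ _

/-- the embedding into the cofree object -/
noncomputable def η (F : SimplexCategory ⥤ 𝒜) : F ⟶ G F where
  app k := liftG F (fun (p : Idx k) => F.map p.2)
  naturality {k k'} θ := by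
    apply G_hom_ext
    intro p
    rw [Category.assoc, liftG_π, Category.assoc, G_map_π, liftG_π, ← F.map_comp]

instance (F : SimplexCategory ⥤ 𝒜) : Mono (η F) := by
  have : ∀ k, Mono ((η F).app k) := fun k => by
    induction k using SimplexCategory.rec with | _ n => ?_
    have h : (η F).app ⦋n⦌ ≫ πG F (⟨n, 𝟙 _⟩ : Idx ⦋n⦌) = 𝟙 _ := by
      dsimp only [η]
      rw [liftG_π]
      exact F.map_id _
    exact (SplitMono.mk _ h).mono
  exact NatTrans.mono_of_mono_app _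

/-- prepending `0` to a map of simplices -/
def ext0 {n j : ℕ} (φ : (⦋n⦌ : SimplexCategory) ⟶ ⦋j⦌) : (⦋n + 1⦌ : SimplexCategory) ⟶ ⦋j⦌ :=
  SimplexCategory.Hom.mk
    { toFun := Fin.cons 0 (fun i => φ.toOrderHom i)
      monotone' := by
        intro a b
        refine Fin.cases ?_ (fun a' => ?_) a
        · intro _
          exact Fin.zero_le _
        · refine Fin.cases ?_ (fun b' => ?_) b
          · intro hab
            exact absurd hab (by simp)
          · intro hab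
            simp only [Fin.cons_succ]
            exact φ.toOrderHom.monotone (Fin.succ_le_succ_iff.1 hab) }

lemma ext0_apply_zero {n j : ℕ} (φ : (⦋n⦌ : SimplexCategory) ⟶ ⦋j⦌) :
    (ext0 φ).toOrderHom 0 = 0 := rfl

lemma ext0_apply_succ {n j : ℕ} (φ : (⦋n⦌ : SimplexCategory) ⟶ ⦋j⦌) (a : Fin (n + 1)) :
    (ext0 φ).toOrderHom a.succ = φ.toOrderHom a := rfl

lemma δ_zero_ext0 {n j : ℕ} (φ : (⦋n⦌ : SimplexCategory) ⟶ ⦋j⦌) :
    SimplexCategory.δ 0 ≫ ext0 φ = φ := by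
  ext a : 3
  change (ext0 φ).toOrderHom (Fin.succAbove 0 a) = φ.toOrderHom a
  rw [Fin.succAbove_zero]
  rfl

lemma δ_succ_ext0 {n j : ℕ} (φ : (⦋n + 1⦌ : SimplexCategory) ⟶ ⦋j⦌) (i : Fin (n + 2)) :
    SimplexCategory.δ i.succ ≫ ext0 φ = ext0 (SimplexCategory.δ i ≫ φ) := by
  ext a : 3
  change (ext0 φ).toOrderHom (Fin.succAbove i.succ a) = (ext0 (SimplexCategory.δ i ≫ φ)).toOrderHom a
  refine Fin.cases ?_ (fun b => ?_) a
  · rw [Fin.succ_succAbove_zero]
    rfl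
  · rw [Fin.succ_succAbove_succ, ext0_apply_succ, ext0_apply_succ]
    rfl

/-- the extra codegeneracy of the cofree object -/
noncomputable def sG (F : SimplexCategory ⥤ 𝒜) (n : ℕ) : (G F).obj ⦋n + 1⦌ ⟶ (G F).obj ⦋n⦌ :=
  liftG F (fun (p : Idx ⦋n⦌) => πG F (⟨p.1, ext0 p.2⟩ : Idx ⦋n + 1⦌))

omit [Abelian 𝒜] in
lemma δ_zero_sG (F : SimplexCategory ⥤ 𝒜) (n : ℕ) :
    (G F).map (SimplexCategory.δ (0 : Fin (n + 2))) ≫ sG F n = 𝟙 _ := by
  apply G_hom_ext
  intro p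
  obtain ⟨j, a⟩ := p
  rw [Category.assoc, sG, liftG_π, G_map_π, Category.id_comp]
  exact πG_congr F (δ_zero_ext0 a)

omit [Abelian 𝒜] in
lemma δ_succ_sG (F : SimplexCategory ⥤ 𝒜) (n : ℕ) (i : Fin (n + 2)) :
    (G F).map (SimplexCategory.δ i.succ) ≫ sG F (n + 1) =
      sG F n ≫ (G F).map (SimplexCategory.δ i) := by
  apply G_hom_ext
  intro p
  obtain ⟨j, a⟩ := p
  rw [Category.assoc, Category.assoc, sG, liftG_π, G_map_π, G_map_π, sG, liftG_π]
  exact πG_congr F (δ_succ_ext0 a i)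

/-- the alternating coface complex of the cofree object is exact in positive degrees -/
theorem isZero_homology_G (F : SimplexCategory ⥤ 𝒜) (n : ℕ) :
    IsZero (((K (𝒜 := 𝒜)).obj (G F)).homology (n + 1)) := by
  have key := Groth.Agent.H43.CechContract.objD_comp_s (G F : CosimplicialObject 𝒜) (sG F)
    (δ_zero_sG F) (δ_succ_sG F) n
  have hd1 : ((K (𝒜 := 𝒜)).obj (G F)).d (n + 1) (n + 2) =
      AlgebraicTopology.AlternatingCofaceMapComplex.objD (G F : CosimplicialObject 𝒜) (n + 1) :=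
    CochainComplex.of_d (fun n => (G F).obj ⦋n⦌)
      (AlgebraicTopology.AlternatingCofaceMapComplex.objD (G F : CosimplicialObject 𝒜)) (n + 1)
  have hd0 : ((K (𝒜 := 𝒜)).obj (G F)).d n (n + 1) =
      AlgebraicTopology.AlternatingCofaceMapComplex.objD (G F : CosimplicialObject 𝒜) n :=
    CochainComplex.of_d (fun n => (G F).obj ⦋n⦌)
      (AlgebraicTopology.AlternatingCofaceMapComplex.objD (G F : CosimplicialObject 𝒜)) n
  refine isZero_homology_of_contraction _ n (sG F n) (sG F (n + 1)) ?_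
  rw [hd0, hd1]
  exact (add_comm _ _).trans key

/-- the δ-functor of cosimplicial objects is effaceable -/
theorem isEffaceable : (cosimpDelta (𝒜 := 𝒜)).IsEffaceable := by
  intro n F
  exact ⟨G F, η F, inferInstance, (isZero_homology_G F n).eq_of_tgt _ _⟩

end Cofree

/-! ### degree zero: the limit -/

section Zero

variable (F : SimplexCategory ⥤ 𝒜)

/-- the inclusion of the `0`-cycles -/
noncomputable def ι0 : ((K (𝒜 := 𝒜)).obj F).cycles 0 ⟶ F.obj ⦋0⦌ :=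
  ((K (𝒜 := 𝒜)).obj F).iCycles 0

instance : Mono (ι0 F) :=
  inferInstanceAs (Mono (((K (𝒜 := 𝒜)).obj F).iCycles 0))

lemma comp_d_zero_one {W : 𝒜} (k : W ⟶ F.obj ⦋0⦌) :
    (show W ⟶ ((K (𝒜 := 𝒜)).obj F).X 0 from k) ≫ ((K (𝒜 := 𝒜)).obj F).d 0 1 =
      k ≫ F.map (SimplexCategory.δ (0 : Fin 2)) - k ≫ F.map (SimplexCategory.δ (1 : Fin 2)) := by
  have h : ((K (𝒜 := 𝒜)).obj F).d 0 1 =
      AlgebraicTopology.AlternatingCofaceMapComplex.objD (F : CosimplicialObject 𝒜) 0 :=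
    CochainComplex.of_d (fun n => F.obj ⦋n⦌)
      (AlgebraicTopology.AlternatingCofaceMapComplex.objD (F : CosimplicialObject 𝒜)) 0
  rw [h]
  have h2 : AlgebraicTopology.AlternatingCofaceMapComplex.objD (F : CosimplicialObject 𝒜) 0 =
      F.map (SimplexCategory.δ (0 : Fin 2)) - F.map (SimplexCategory.δ (1 : Fin 2)) := by
    dsimp only [AlgebraicTopology.AlternatingCofaceMapComplex.objD]
    rw [Fin.sum_univ_two]
    simp only [Fin.val_zero, pow_zero, one_smul, Fin.val_one, pow_one, neg_smul]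
    rw [sub_eq_add_neg]
    rfl
  exact (congrArg (fun t => k ≫ t) h2).trans (Preadditive.comp_sub _ _ _)

lemma ι0_δ : ι0 F ≫ F.map (SimplexCategory.δ (0 : Fin 2)) =
    ι0 F ≫ F.map (SimplexCategory.δ (1 : Fin 2)) := by
  have h := ((K (𝒜 := 𝒜)).obj F).iCycles_d 0 1
  have h2 := (comp_d_zero_one F (ι0 F)).symm.trans h
  exact sub_eq_zero.1 h2

lemma ι0_map_eq_of_le {m : ℕ} (a b : Fin (m + 1)) (hab : a ≤ b) :
    ι0 F ≫ F.map (SimplexCategory.const ⦋0⦌ ⦋m⦌ a) =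
      ι0 F ≫ F.map (SimplexCategory.const ⦋0⦌ ⦋m⦌ b) := by
  have ha : SimplexCategory.δ (1 : Fin 2) ≫ SimplexCategory.mkOfLe a b hab =
      SimplexCategory.const ⦋0⦌ ⦋m⦌ a := SimplexCategory.Hom.ext_zero_left _ _
  have hb : SimplexCategory.δ (0 : Fin 2) ≫ SimplexCategory.mkOfLe a b hab =
      SimplexCategory.const ⦋0⦌ ⦋m⦌ b := SimplexCategory.Hom.ext_zero_left _ _
  rw [← ha, ← hb, F.map_comp, F.map_comp, ← Category.assoc, ← Category.assoc, ι0_δ]

lemma ι0_map_eq {m : ℕ} (a b : Fin (m + 1)) :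
    ι0 F ≫ F.map (SimplexCategory.const ⦋0⦌ ⦋m⦌ a) =
      ι0 F ≫ F.map (SimplexCategory.const ⦋0⦌ ⦋m⦌ b) := by
  rcases le_total a b with h | h
  · exact ι0_map_eq_of_le F a b h
  · exact (ι0_map_eq_of_le F b a h).symm

lemma ι0_map_eq' {m : ℕ} (f g : (⦋0⦌ : SimplexCategory) ⟶ ⦋m⦌) :
    ι0 F ≫ F.map f = ι0 F ≫ F.map g := by
  rw [SimplexCategory.eq_const_of_zero f, SimplexCategory.eq_const_of_zero g]
  exact ι0_map_eq F _ _

/-- the cone with point the `0`-cycles -/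
noncomputable def cone0 : Cone F where
  pt := ((K (𝒜 := 𝒜)).obj F).cycles 0
  π :=
    { app := fun m => ι0 F ≫ F.map (SimplexCategory.const ⦋0⦌ m 0)
      naturality := by
        intro m m' θ
        induction m using SimplexCategory.rec with | _ m => ?_
        induction m' using SimplexCategory.rec with | _ m' => ?_
        dsimp only [Functor.const_obj_obj, Functor.const_obj_map]
        rw [Category.id_comp, Category.assoc, ← F.map_comp]
        exact ι0_map_eq' F _ _ }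

/-- lifting to `0`-cycles -/
noncomputable def lift0 {W : 𝒜} (k : W ⟶ F.obj ⦋0⦌)
    (hk : k ≫ F.map (SimplexCategory.δ (0 : Fin 2)) = k ≫ F.map (SimplexCategory.δ (1 : Fin 2))) :
    W ⟶ ((K (𝒜 := 𝒜)).obj F).cycles 0 :=
  ((K (𝒜 := 𝒜)).obj F).liftCycles k 1 (by simp)
    ((comp_d_zero_one F k).trans (sub_eq_zero.2 hk))

lemma lift0_ι0 {W : 𝒜} (k : W ⟶ F.obj ⦋0⦌)
    (hk : k ≫ F.map (SimplexCategory.δ (0 : Fin 2)) = k ≫ F.map (SimplexCategory.δ (1 : Fin 2))) :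
    lift0 F k hk ≫ ι0 F = k :=
  HomologicalComplex.liftCycles_i _ _ _ _ _

/-- the cone of `0`-cycles is a limit cone -/
noncomputable def isLimitCone0 : IsLimit (cone0 F) where
  lift s := lift0 F (s.π.app ⦋0⦌)
    ((s.w (SimplexCategory.δ (0 : Fin 2))).trans (s.w (SimplexCategory.δ (1 : Fin 2))).symm)
  fac s m := by
    induction m using SimplexCategory.rec with | _ m => ?_
    dsimp only [cone0]
    rw [← Category.assoc, lift0_ι0]
    exact s.w _
  uniq s f hf := by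
    have h0 : (show s.pt ⟶ ((K (𝒜 := 𝒜)).obj F).cycles 0 from f) ≫ ι0 F = s.π.app ⦋0⦌ := by
      have := hf ⦋0⦌
      dsimp only [cone0] at this
      rw [SimplexCategory.const_eq_id, F.map_id, Category.comp_id] at this
      exact this
    exact (cancel_mono (ι0 F)).1 (h0.trans (lift0_ι0 F _ _).symm)

lemma cone0_π (m : SimplexCategory) :
    (cone0 F).π.app m = ι0 F ≫ F.map (SimplexCategory.const ⦋0⦌ m 0) := rfl

variable {F} in
lemma cyclesMap_ι0 {F' : SimplexCategory ⥤ 𝒜} (φ : F ⟶ F') :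
    HomologicalComplex.cyclesMap ((K (𝒜 := 𝒜)).map φ) 0 ≫ ι0 F' = ι0 F ≫ φ.app ⦋0⦌ :=
  HomologicalComplex.cyclesMap_i _ _

end Zero

section Lim

variable [HasLimitsOfShape SimplexCategory 𝒜]

/-- the map from `H⁰` to the degree zero term -/
noncomputable def hι (F : SimplexCategory ⥤ 𝒜) :
    ((cosimpDelta (𝒜 := 𝒜)).F 0).obj F ⟶ F.obj ⦋0⦌ :=
  (((K (𝒜 := 𝒜)).obj F).isoHomologyπ₀).inv ≫ ι0 F

omit [HasLimitsOfShape SimplexCategory 𝒜] in
lemma hι_naturality {F F' : SimplexCategory ⥤ 𝒜} (φ : F ⟶ F') :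
    ((cosimpDelta (𝒜 := 𝒜)).F 0).map φ ≫ hι F' = hι F ≫ φ.app ⦋0⦌ := by
  have h1 : HomologicalComplex.homologyMap ((K (𝒜 := 𝒜)).map φ) 0 ≫
        (((K (𝒜 := 𝒜)).obj F').isoHomologyπ₀).inv =
        (((K (𝒜 := 𝒜)).obj F).isoHomologyπ₀).inv ≫
          HomologicalComplex.cyclesMap ((K (𝒜 := 𝒜)).map φ) 0 :=
    CochainComplex.isoHomologyπ₀_inv_naturality ((K (𝒜 := 𝒜)).map φ)
  have h2 := cyclesMap_ι0 φ
  calc HomologicalComplex.homologyMap ((K (𝒜 := 𝒜)).map φ) 0 ≫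
        ((((K (𝒜 := 𝒜)).obj F').isoHomologyπ₀).inv ≫ ι0 F')
      = (HomologicalComplex.homologyMap ((K (𝒜 := 𝒜)).map φ) 0 ≫
        (((K (𝒜 := 𝒜)).obj F').isoHomologyπ₀).inv) ≫ ι0 F' := (Category.assoc _ _ _).symm
    _ = ((((K (𝒜 := 𝒜)).obj F).isoHomologyπ₀).inv ≫
          HomologicalComplex.cyclesMap ((K (𝒜 := 𝒜)).map φ) 0) ≫ ι0 F' := by rw [h1]
    _ = (((K (𝒜 := 𝒜)).obj F).isoHomologyπ₀).inv ≫
          (HomologicalComplex.cyclesMap ((K (𝒜 := 𝒜)).map φ) 0 ≫ ι0 F') := Category.assoc _ _ _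
    _ = (((K (𝒜 := 𝒜)).obj F).isoHomologyπ₀).inv ≫ (ι0 F ≫ φ.app ⦋0⦌) := by rw [h2]
    _ = ((((K (𝒜 := 𝒜)).obj F).isoHomologyπ₀).inv ≫ ι0 F) ≫ φ.app ⦋0⦌ :=
        (Category.assoc _ _ _).symm

/-- the comparison in degree zero, objectwise -/
noncomputable def isoLimApp (F : SimplexCategory ⥤ 𝒜) :
    ((cosimpDelta (𝒜 := 𝒜)).F 0).obj F ≅ limit F :=
  (((K (𝒜 := 𝒜)).obj F).isoHomologyπ₀).symm ≪≫
    (isLimitCone0 F).conePointUniqueUpToIso (limit.isLimit F)

lemma isoLimApp_hom_π (F : SimplexCategory ⥤ 𝒜) (m : SimplexCategory) :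
    (isoLimApp F).hom ≫ limit.π F m = hι F ≫ F.map (SimplexCategory.const ⦋0⦌ m 0) := by
  have h := IsLimit.conePointUniqueUpToIso_hom_comp (isLimitCone0 F) (limit.isLimit F) m
  calc ((((K (𝒜 := 𝒜)).obj F).isoHomologyπ₀).inv ≫
        ((isLimitCone0 F).conePointUniqueUpToIso (limit.isLimit F)).hom) ≫ limit.π F m
      = (((K (𝒜 := 𝒜)).obj F).isoHomologyπ₀).inv ≫
        (((isLimitCone0 F).conePointUniqueUpToIso (limit.isLimit F)).hom ≫ limit.π F m) :=
        Category.assoc _ _ _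
    _ = (((K (𝒜 := 𝒜)).obj F).isoHomologyπ₀).inv ≫
          (ι0 F ≫ F.map (SimplexCategory.const ⦋0⦌ m 0)) :=
        congrArg (fun t => (((K (𝒜 := 𝒜)).obj F).isoHomologyπ₀).inv ≫ t) h
    _ = _ := (Category.assoc _ _ _).symm

/-- the degree zero functor of the δ-functor of cosimplicial objects is the limit functor -/
noncomputable def isoLim :
    (cosimpDelta (𝒜 := 𝒜)).F 0 ≅ (lim : (SimplexCategory ⥤ 𝒜) ⥤ 𝒜) :=
  NatIso.ofComponents isoLimApp (by
    intro F F' φ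
    apply limit.hom_ext
    intro m
    rw [Category.assoc, Category.assoc, isoLimApp_hom_π, reassoc_of% (hι_naturality φ)]
    change _ = (isoLimApp F).hom ≫ limMap φ ≫ limit.π F' m
    rw [limMap_π, ← Category.assoc (isoLimApp F).hom, isoLimApp_hom_π, Category.assoc,
      φ.naturality])

end Lim

end Groth.Agent.H60.CosimpDelta
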