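import Mathlib

open CategoryTheory Limits Abelian

universe w w' v u

namespace Groth.Agent.H60.ExtColim

variable {A : Type u} [Category.{v} A] [Abelian A] [HasExt.{w} A]

section Basic

variable (Z : A)

/-- pushforward of Ext classes. -/
noncomputable abbrev push {X Y : A} (g : X ⟶ Y) (n : ℕ) : Ext Z X n →+ Ext Z Y n :=
  (Ext.mk₀ g).postcomp Z (add_zero n)

lemma push_apply {X Y : A} (g : X ⟶ Y) (n : ℕ) (x : Ext Z X n) :
    push Z g n x = x.comp (Ext.mk₀ g) (add_zero n) := rfl

lemma push_comp {X Y W : A} (g : X ⟶ Y) (h : Y ⟶ W) (n : ℕ) (x : Ext Z X n) :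
    push Z (g ≫ h) n x = push Z h n (push Z g n x) := by
  simp only [push_apply]
  rw [Ext.comp_assoc_of_third_deg_zero, Ext.mk₀_comp_mk₀]

/-- the connecting homomorphism. -/
noncomputable abbrev del {S : ShortComplex A} (hS : S.ShortExact) (n : ℕ) :
    Ext Z S.X₃ n →+ Ext Z S.X₁ (n + 1) :=
  hS.extClass.postcomp Z rfl

lemma del_apply {S : ShortComplex A} (hS : S.ShortExact) (n : ℕ) (x : Ext Z S.X₃ n) :
    del Z hS n x = x.comp hS.extClass rfl := rfl

lemma del_nat {S₁ S₂ : ShortComplex A} (h₁ : S₁.ShortExact) (h₂ : S₂.ShortExact) (φ : S₁ ⟶ S₂)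
    (n : ℕ) (x : Ext Z S₁.X₃ n) :
    push Z φ.τ₁ (n + 1) (del Z h₁ n x) = del Z h₂ n (push Z φ.τ₃ n x) := by
  simp only [push_apply, del_apply]
  rw [Ext.comp_assoc_of_third_deg_zero, ShortComplex.ShortExact.extClass_naturality h₁ h₂ φ,
    Ext.comp_assoc_of_second_deg_zero]

lemma del_push_g {S : ShortComplex A} (hS : S.ShortExact) (n : ℕ) (x : Ext Z S.X₂ n) :
    del Z hS n (push Z S.g n x) = 0 := by
  simp only [push_apply, del_apply]
  rw [Ext.comp_assoc_of_second_deg_zero, hS.comp_extClass, Ext.comp_zero]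

lemma exists_del {S : ShortComplex A} (hS : S.ShortExact) (n : ℕ) (x₁ : Ext Z S.X₁ (n + 1))
    (h : push Z S.f (n + 1) x₁ = 0) : ∃ x₃ : Ext Z S.X₃ n, del Z hS n x₃ = x₁ :=
  Ext.covariant_sequence_exact₁ Z hS x₁ h rfl

lemma exists_push_g {S : ShortComplex A} (hS : S.ShortExact) (n : ℕ) (x₃ : Ext Z S.X₃ n)
    (h : del Z hS n x₃ = 0) : ∃ x₂ : Ext Z S.X₂ n, push Z S.g n x₂ = x₃ :=
  Ext.covariant_sequence_exact₃ Z hS x₃ rfl h

end Basic

section Diagrams

variable {Λ : Type w'} [Category.{w'} Λ] [HasColimitsOfShape Λ A]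

/-- the natural transformation `colimit.ι`. -/
noncomputable def ιNat (i : Λ) : (evaluation Λ A).obj i ⟶ (colim : (Λ ⥤ A) ⥤ A) where
  app D := colimit.ι D i
  naturality D D' α := by simp

variable (Z : A)

/-- every class in `Ext^q(Z, colim D)` comes from a stage. -/
def Surj (q : ℕ) (D : Λ ⥤ A) : Prop :=
  ∀ ξ : Ext Z (colimit D) q, ∃ (i : Λ) (ξi : Ext Z (D.obj i) q), push Z (colimit.ι D i) q ξi = ξ

/-- a class in `Ext^q(Z, D_i)` dying in the colimit dies at a later stage. -/
def Inj (q : ℕ) (D : Λ ⥤ A) : Prop :=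
  ∀ (i : Λ) (ξi : Ext Z (D.obj i) q), push Z (colimit.ι D i) q ξi = 0 →
    ∃ (j : Λ) (f : i ⟶ j), push Z (D.map f) q ξi = 0

variable [HasExactColimitsOfShape Λ A] (S : ShortComplex (Λ ⥤ A)) (hS : S.ShortExact)

instance : PreservesFiniteColimits (colim : (Λ ⥤ A) ⥤ A) :=
  ⟨fun _ _ _ => colimConstAdj.leftAdjoint_preservesColimits.preservesColimitsOfShape⟩

instance : (colim : (Λ ⥤ A) ⥤ A).PreservesZeroMorphisms := inferInstance

/-- the short complex of values at `i`. -/
noncomputable abbrev Sev (i : Λ) : ShortComplex A := S.map ((evaluation Λ A).obj i)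

/-- the short complex of colimits. -/
noncomputable abbrev Scolim : ShortComplex A := S.map (colim : (Λ ⥤ A) ⥤ A)

include hS in
lemma Sev_exact (i : Λ) : (Sev S i).ShortExact := hS.map_of_exact _

include hS in
lemma Scolim_exact : (Scolim S).ShortExact := hS.map_of_exact _

/-- the comparison map to the colimit. -/
noncomputable abbrev toColim (i : Λ) : Sev S i ⟶ Scolim S := S.mapNatTrans (ιNat i)

/-- the transition maps. -/
noncomputable abbrev trans {i j : Λ} (f : i ⟶ j) : Sev S i ⟶ Sev S j :=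
  S.mapNatTrans ((evaluation Λ A).map f)

include hS in
lemma surj_succ (q : ℕ) (hQ : Surj Z q S.X₃)
    (hI : ∀ x : Ext Z (colimit S.X₂) (q + 1), x = 0) : Surj Z (q + 1) S.X₁ := by
  intro ξ
  obtain ⟨x₃, hx₃⟩ := exists_del Z (Scolim_exact S hS) q ξ (hI _)
  obtain ⟨i, ηi, hηi⟩ := hQ x₃
  refine ⟨i, del Z (Sev_exact S hS i) q ηi, ?_⟩
  have := del_nat Z (Sev_exact S hS i) (Scolim_exact S hS) (toColim S i) q ηi
  refine this.trans ?_
  rw [← hx₃]
  congr 1

include hS in
lemma inj_succ [IsFiltered Λ] (q : ℕ) (hQ : Inj Z q S.X₃) (hIs : Surj Z q S.X₂)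
    (hI : ∀ (i : Λ) (x : Ext Z (S.X₂.obj i) (q + 1)), x = 0) : Inj Z (q + 1) S.X₁ := by
  intro i ξi hξi
  obtain ⟨ηi, hηi⟩ := exists_del Z (Sev_exact S hS i) q ξi (hI i _)
  have hy : del Z (Scolim_exact S hS) q (push Z (colimit.ι S.X₃ i) q ηi) = 0 := by
    have := del_nat Z (Sev_exact S hS i) (Scolim_exact S hS) (toColim S i) q ηi
    rw [hηi] at this
    exact this.symm.trans hξi
  obtain ⟨ζ, hζ⟩ := exists_push_g Z (Scolim_exact S hS) q _ hy
  obtain ⟨j, ζj, hζj⟩ := hIs ζ
  let k := IsFiltered.max i j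
  let a : i ⟶ k := IsFiltered.leftToMax i j
  let b : j ⟶ k := IsFiltered.rightToMax i j
  let θ : Ext Z (S.X₃.obj k) q :=
    push Z (S.X₃.map a) q ηi - push Z (S.g.app k) q (push Z (S.X₂.map b) q ζj)
  have hθ : push Z (colimit.ι S.X₃ k) q θ = 0 := by
    have e1 : push Z (colimit.ι S.X₃ k) q (push Z (S.X₃.map a) q ηi) =
        push Z (colimit.ι S.X₃ i) q ηi := by
      rw [← push_comp, colimit.w]
    have e2 : push Z (colimit.ι S.X₃ k) q (push Z (S.g.app k) q (push Z (S.X₂.map b) q ζj)) =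
        push Z (colimit.ι S.X₃ i) q ηi := by
      rw [← push_comp]
      have e3 : S.g.app k ≫ colimit.ι S.X₃ k = colimit.ι S.X₂ k ≫ colim.map S.g :=
        (colimit.ι_map S.g k).symm
      rw [e3, push_comp, ← push_comp Z (S.X₂.map b), colimit.w, hζj]
      exact hζ
    show push Z (colimit.ι S.X₃ k) q (_ - _) = 0
    rw [map_sub, e1, e2, sub_self]
  obtain ⟨l, c, hc⟩ := hQ k θ hθ
  refine ⟨l, a ≫ c, ?_⟩
  rw [← hηi]
  have h1 := del_nat Z (Sev_exact S hS i) (Sev_exact S hS l) (trans S (a ≫ c)) q ηi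
  refine h1.trans ?_
  have h2 : push Z ((trans S (a ≫ c)).τ₃) q ηi =
      push Z (S.g.app l) q (push Z (S.X₂.map c) q (push Z (S.X₂.map b) q ζj)) := by
    show push Z (S.X₃.map (a ≫ c)) q ηi = _
    rw [Functor.map_comp, push_comp]
    have h3 : push Z (S.X₃.map c) q (push Z (S.X₃.map a) q ηi) =
        push Z (S.X₃.map c) q (push Z (S.g.app k) q (push Z (S.X₂.map b) q ζj)) := by
      have : push Z (S.X₃.map c) q (push Z (S.X₃.map a) q ηi -
          push Z (S.g.app k) q (push Z (S.X₂.map b) q ζj)) = 0 := hc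
      rw [map_sub, sub_eq_zero] at this
      exact this
    rw [h3, ← push_comp, ← S.g.naturality c, push_comp]
  rw [h2]
  exact del_push_g Z (Sev_exact S hS l) q _

end Diagrams

section Main

open MorphismProperty ZeroObject

variable [IsGrothendieckAbelian.{w'} A]

/-- `X ↦ (X ⟶ 0)` as a functor to arrows. -/
noncomputable def toZeroArrow : A ⥤ Arrow A where
  obj X := Arrow.mk (0 : X ⟶ 0)
  map f := Arrow.homMk f (𝟙 0) (by simp)

/-- a functorial injective embedding. -/
noncomputable def injF : A ⥤ A :=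
  toZeroArrow ⋙ (functorialFactorizationData (monomorphisms A) (monomorphisms A).rlp).Z

/-- the natural monomorphism into the functorial injective hull. -/
noncomputable def injι : 𝟭 A ⟶ (injF : A ⥤ A) where
  app X := (functorialFactorizationData (monomorphisms A) (monomorphisms A).rlp).i.app
    (Arrow.mk (0 : X ⟶ 0))
  naturality X Y f :=
    (functorialFactorizationData (monomorphisms A) (monomorphisms A).rlp).i.naturality
      (toZeroArrow.map f)

instance (X : A) : Mono ((injι : 𝟭 A ⟶ injF).app X) := by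
  show Mono ((functorialFactorizationData (monomorphisms A) (monomorphisms A).rlp).i.app
    (Arrow.mk (0 : X ⟶ 0)))
  exact (functorialFactorizationData (monomorphisms A) (monomorphisms A).rlp).hi _

instance (X : A) : Injective ((injF : A ⥤ A).obj X) :=
  inferInstanceAs (Injective (IsGrothendieckAbelian.monoMapFactorizationDataRlp (0 : X ⟶ 0)).Z)

variable {Λ : Type w} [SmallCategory Λ]

/-- the embedding of a diagram into a diagram of injectives. -/
noncomputable def embι (D : Λ ⥤ A) : D ⟶ D ⋙ (injF : A ⥤ A) where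
  app i := (injι : 𝟭 A ⟶ injF).app (D.obj i)
  naturality i j f := (injι : 𝟭 A ⟶ injF).naturality (D.map f)

instance (D : Λ ⥤ A) : Mono (embι D) := by
  have : ∀ i, Mono ((embι D).app i) := fun i =>
    inferInstanceAs (Mono ((injι : 𝟭 A ⟶ injF).app (D.obj i)))
  exact NatTrans.mono_of_mono_app _

/-- the short exact sequence `0 → D → I → Q → 0` of diagrams. -/
noncomputable def ses (D : Λ ⥤ A) : ShortComplex (Λ ⥤ A) :=
  ShortComplex.mk (embι D) (cokernel.π (embι D)) (cokernel.condition _)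

lemma ses_shortExact (D : Λ ⥤ A) : (ses D).ShortExact where
  exact := ShortComplex.exact_cokernel _
  mono_f := inferInstanceAs (Mono (embι D))
  epi_g := inferInstanceAs (Epi (cokernel.π (embι D)))

variable [IsFiltered Λ] [HasColimitsOfShape Λ A] [HasExactColimitsOfShape Λ A] (Z : A)

/-- dimension shifting: if `Hom(Z, -)` commutes with `Λ`-colimits and colimits of injectives are
`Ext(Z,-)`-acyclic, then all `Ext^q(Z, -)` commute with `Λ`-colimits (elementwise form). -/
theorem surj_inj (h0 : ∀ D : Λ ⥤ A, Surj Z 0 D ∧ Inj Z 0 D)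
    (hacyc : ∀ D : Λ ⥤ A, (∀ i, Injective (D.obj i)) →
      ∀ (q : ℕ) (x : Ext Z (colimit D) (q + 1)), x = 0) :
    ∀ (q : ℕ) (D : Λ ⥤ A), Surj Z q D ∧ Inj Z q D := by
  intro q
  induction q with
  | zero => exact h0
  | succ q ih =>
    intro D
    have hS := ses_shortExact D
    refine ⟨surj_succ Z (ses D) hS q (ih _).1 ?_, inj_succ Z (ses D) hS q (ih _).2 (ih _).1 ?_⟩
    · exact hacyc (D ⋙ injF) (fun i => inferInstanceAs (Injective ((injF : A ⥤ A).obj (D.obj i)))) q
    · intro i x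
      have : Injective ((ses D).X₂.obj i) :=
        inferInstanceAs (Injective ((injF : A ⥤ A).obj (D.obj i)))
      exact Ext.eq_zero_of_injective x

omit [IsGrothendieckAbelian.{w'} A] [IsFiltered Λ] [HasExactColimitsOfShape Λ A] in
lemma inj_aux (q : ℕ) (D : Λ ⥤ A) (h : Inj Z q D) (i : Λ) (x y : Ext Z (D.obj i) q)
    (hxy : push Z (colimit.ι D i) q x = push Z (colimit.ι D i) q y) :
    ∃ (j : Λ) (f : i ⟶ j), push Z (D.map f) q x = push Z (D.map f) q y := by
  have h0 : push Z (colimit.ι D i) q (x - y) = 0 := by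
    rw [map_sub, hxy, sub_self]
  obtain ⟨j, f, hf⟩ := h i (x - y) h0
  refine ⟨j, f, ?_⟩
  rw [map_sub, sub_eq_zero] at hf
  exact hf

omit [IsGrothendieckAbelian.{w'} A] [HasExactColimitsOfShape Λ A] in
/-- conversion to preservation of colimits. -/
theorem preservesColimitsOfShape_extFunctor (q : ℕ) (h : ∀ D : Λ ⥤ A, Surj Z q D ∧ Inj Z q D) :
    PreservesColimitsOfShape Λ ((extFunctor.{w} q).obj (Opposite.op Z)) := by
  constructor
  intro D
  refine preservesColimit_of_preserves_colimit_cocone (colimit.isColimit D) ?_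
  have : PreservesColimitsOfShape Λ (forget AddCommGrpCat.{w}) :=
    PreservesFilteredColimitsOfSize.preserves_filtered_colimits Λ
  have : ReflectsColimit (D ⋙ (extFunctor.{w} q).obj (Opposite.op Z)) (forget AddCommGrpCat.{w}) :=
    reflectsColimit_of_reflectsIsomorphisms _ _
  refine isColimitOfReflects (forget AddCommGrpCat.{w}) ?_
  refine Types.FilteredColimit.isColimitOf' _ _ ?_ ?_
  · intro x
    obtain ⟨i, xi, hxi⟩ := (h D).1 x
    exact ⟨i, xi, hxi.symm⟩
  · intro i x y hxy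
    exact inj_aux Z q D (h D).2 i x y hxy

end Main

end Groth.Agent.H60.ExtColim
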