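import Groth.Agent.H60.ExtColim

open CategoryTheory Limits Abelian

universe w w' v u

namespace Groth.Agent.H60.ExtColim

variable {A : Type u} [Category.{v} A] [Abelian A] [HasExt.{w} A]
  {Λ : Type w} [SmallCategory Λ] [HasColimitsOfShape Λ A]

/-- degree zero surjectivity in terms of morphisms. -/
def Surj0 (Z : A) (D : Λ ⥤ A) : Prop :=
  ∀ φ : Z ⟶ colimit D, ∃ (i : Λ) (φi : Z ⟶ D.obj i), φi ≫ colimit.ι D i = φ

/-- degree zero injectivity in terms of morphisms. -/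
def Inj0 (Z : A) (D : Λ ⥤ A) : Prop :=
  ∀ (i : Λ) (φi : Z ⟶ D.obj i), φi ≫ colimit.ι D i = 0 → ∃ (j : Λ) (f : i ⟶ j), φi ≫ D.map f = 0

lemma surj_zero_of {Z : A} {D : Λ ⥤ A} (h : Surj0 Z D) : Surj Z 0 D := by
  intro ξ
  obtain ⟨φ, rfl⟩ := (Ext.mk₀_bijective _ _).surjective ξ
  obtain ⟨i, φi, hφi⟩ := h φ
  refine ⟨i, Ext.mk₀ φi, ?_⟩
  rw [push_apply, Ext.mk₀_comp_mk₀]
  exact congrArg Ext.mk₀ hφi

lemma inj_zero_of {Z : A} {D : Λ ⥤ A} (h : Inj0 Z D) : Inj Z 0 D := by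
  intro i ξi hξ
  obtain ⟨φi, rfl⟩ := (Ext.mk₀_bijective _ _).surjective ξi
  rw [push_apply, Ext.mk₀_comp_mk₀] at hξ
  have h' : φi ≫ colimit.ι D i = 0 :=
    (Ext.mk₀_bijective _ _).injective (hξ.trans (Ext.mk₀_zero _ _).symm)
  obtain ⟨j, f, hf⟩ := h i φi h'
  refine ⟨j, f, ?_⟩
  rw [push_apply, Ext.mk₀_comp_mk₀, hf, Ext.mk₀_zero]

variable [IsGrothendieckAbelian.{w'} A] [IsFiltered Λ] [HasExactColimitsOfShape Λ A]

/-- Five lemma: commutation of `Ext` with filtered colimits passes to the cokernel of a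
monomorphism. -/
theorem surj_inj_X₃ (S₀ : ShortComplex A) (hS₀ : S₀.ShortExact)
    (h1 : ∀ D : Λ ⥤ A, Surj0 S₀.X₁ D ∧ Inj0 S₀.X₁ D)
    (h2 : ∀ D : Λ ⥤ A, Surj0 S₀.X₂ D ∧ Inj0 S₀.X₂ D)
    (a1 : ∀ D : Λ ⥤ A, (∀ i, Injective (D.obj i)) →
      ∀ (q : ℕ) (x : Ext S₀.X₁ (colimit D) (q + 1)), x = 0)
    (a2 : ∀ D : Λ ⥤ A, (∀ i, Injective (D.obj i)) →
      ∀ (q : ℕ) (x : Ext S₀.X₂ (colimit D) (q + 1)), x = 0) :
    ∀ (q : ℕ) (D : Λ ⥤ A), Surj S₀.X₃ q D ∧ Inj S₀.X₃ q D := by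
  have hepi := hS₀.epi_g
  have hmono := hS₀.mono_f
  refine surj_inj S₀.X₃ ?_ ?_
  · intro D
    refine ⟨surj_zero_of ?_, inj_zero_of ?_⟩
    · intro φ
      obtain ⟨i, ψi, hψi⟩ := (h2 D).1 (S₀.g ≫ φ)
      have h0 : (S₀.f ≫ ψi) ≫ colimit.ι D i = 0 := by
        rw [Category.assoc, hψi, ← Category.assoc, S₀.zero, zero_comp]
      obtain ⟨k, a, hk⟩ := (h1 D).2 i (S₀.f ≫ ψi) h0
      have hk' : S₀.f ≫ (ψi ≫ D.map a) = 0 := by rw [← Category.assoc]; exact hk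
      refine ⟨k, hS₀.exact.desc (ψi ≫ D.map a) hk', ?_⟩
      rw [← cancel_epi S₀.g, ← Category.assoc, hS₀.exact.g_desc, Category.assoc, colimit.w, hψi]
    · intro i φi h
      obtain ⟨k, a, hk⟩ := (h2 D).2 i (S₀.g ≫ φi) (by rw [Category.assoc, h, comp_zero])
      refine ⟨k, a, ?_⟩
      rw [← cancel_epi S₀.g, ← Category.assoc, hk, comp_zero]
  · intro D hD q x
    obtain ⟨x₁, hx₁⟩ := Ext.contravariant_sequence_exact₃ hS₀ (colimit D) x (a2 D hD q _)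
      (n₀ := q) (by omega)
    rcases q with _ | q
    · obtain ⟨ψ, rfl⟩ := (Ext.mk₀_bijective _ _).surjective x₁
      obtain ⟨i, ψi, hψi⟩ := (h1 D).1 ψ
      have := hD i
      have hχ : S₀.f ≫ Injective.factorThru ψi S₀.f = ψi := Injective.comp_factorThru _ _
      have h3 : Ext.mk₀ ψ = (Ext.mk₀ S₀.f).comp
          (Ext.mk₀ (Injective.factorThru ψi S₀.f ≫ colimit.ι D i)) (zero_add 0) := by
        rw [Ext.mk₀_comp_mk₀, ← Category.assoc, hχ, hψi]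
      rw [← hx₁, h3]
      exact hS₀.extClass_comp_assoc _
    · rw [← hx₁, a1 D hD q x₁, Ext.comp_zero]

end Groth.Agent.H60.ExtColim
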