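import Groth.Agent.H60.ExtColim2
import Groth.Agent.H31.DimShift

open CategoryTheory Limits Abelian

universe w w' v v' u u'

namespace Groth.Agent.H60.ExtTransfer

open Groth.Agent.H60.ExtColim Groth.Agent.H31

variable {A : Type u} [Category.{v} A] [Abelian A] [HasExt.{w} A]
  {A' : Type u'} [Category.{v'} A'] [Abelian A'] [HasExt.{w} A']
  (Φ : A ⥤ A') [Φ.Additive] [Φ.Full] [Φ.Faithful] [PreservesFiniteLimits Φ]
  [PreservesFiniteColimits Φ]

/-- the standard short exact sequence `0 → Y → I → Q → 0`. -/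
noncomputable def sesInj [EnoughInjectives A] (Y : A) : ShortComplex A :=
  ShortComplex.mk (Injective.ι Y) (cokernel.π (Injective.ι Y)) (cokernel.condition _)

omit [HasExt.{w} A] in
lemma sesInj_shortExact [EnoughInjectives A] (Y : A) : (sesInj Y).ShortExact where
  exact := ShortComplex.exact_cokernel _
  mono_f := inferInstanceAs (Mono (Injective.ι Y))
  epi_g := inferInstanceAs (Epi (cokernel.π (Injective.ι Y)))

/-- vanishing of `Ext` can be tested after applying an exact fully faithful functor preserving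
injectives. -/
theorem subsingleton_ext_of_map [EnoughInjectives A]
    (hinj : ∀ I : A, Injective I → Injective (Φ.obj I)) (Z : A) :
    ∀ (n : ℕ) (Y : A), Subsingleton (Ext (Φ.obj Z) (Φ.obj Y) (n + 1)) →
      Subsingleton (Ext Z Y (n + 1)) := by
  intro n
  induction n with
  | zero =>
    intro Y h
    have hS := sesInj_shortExact Y
    have hS' : ((sesInj Y).map Φ).ShortExact := hS.map_of_exact Φ
    have : Injective (sesInj Y).X₂ := inferInstanceAs (Injective (Injective.under Y))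
    refine DimShift.subsingleton_ext_one_of_exists_lift hS Z (fun φ => ?_)
    have : Subsingleton (Ext (Φ.obj Z) ((sesInj Y).map Φ).X₁ 1) := h
    obtain ⟨ψ', hψ'⟩ := DimShift.exists_lift_of_subsingleton_ext_one hS' (Φ.obj Z) (Φ.map φ)
    refine ⟨Φ.preimage ψ', Φ.map_injective ?_⟩
    rw [Functor.map_comp, Functor.map_preimage]
    exact hψ'
  | succ n ih =>
    intro Y h
    have hS := sesInj_shortExact Y
    have hS' : ((sesInj Y).map Φ).ShortExact := hS.map_of_exact Φ
    have i1 : Injective (sesInj Y).X₂ := inferInstanceAs (Injective (Injective.under Y))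
    have i2 : Injective ((sesInj Y).map Φ).X₂ := hinj _ i1
    have h1 : Subsingleton (Ext (Φ.obj Z) ((sesInj Y).map Φ).X₃ (n + 1)) :=
      (DimShift.subsingleton_ext_succ_iff hS' (Φ.obj Z) n).1 h
    have h2 : Subsingleton (Ext Z (sesInj Y).X₃ (n + 1)) := ih _ h1
    exact (DimShift.subsingleton_ext_succ_iff hS Z n).2 h2

variable {Λ : Type w} [SmallCategory Λ] [HasColimitsOfShape Λ A] [HasColimitsOfShape Λ A']
  [PreservesColimitsOfShape Λ Φ]

omit [HasExt.{w} A] [HasExt.{w} A'] [Φ.Additive] [PreservesFiniteLimits Φ]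
  [PreservesFiniteColimits Φ] in
lemma surj0_of_map (Z : A) (D : Λ ⥤ A) (h : Surj0 (Φ.obj Z) (D ⋙ Φ)) : Surj0 Z D := by
  intro φ
  obtain ⟨i, ψ, hψ⟩ := h (Φ.map φ ≫ (preservesColimitIso Φ D).hom)
  refine ⟨i, Φ.preimage ψ, Φ.map_injective ?_⟩
  rw [Functor.map_comp, Functor.map_preimage, ← ι_preservesColimitIso_inv, ← Category.assoc, hψ,
    Category.assoc, Iso.hom_inv_id, Category.comp_id]

omit [HasExt.{w} A] [HasExt.{w} A'] [Φ.Full] [PreservesFiniteLimits Φ]
  [PreservesFiniteColimits Φ] in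
lemma inj0_of_map (Z : A) (D : Λ ⥤ A) (h : Inj0 (Φ.obj Z) (D ⋙ Φ)) : Inj0 Z D := by
  intro i φi hφ
  have h1 : Φ.map φi ≫ colimit.ι (D ⋙ Φ) i = 0 := by
    rw [← ι_preservesColimitIso_hom, ← Category.assoc, ← Functor.map_comp, hφ, Functor.map_zero,
      zero_comp]
  obtain ⟨j, f, hf⟩ := h i (Φ.map φi) h1
  refine ⟨j, f, Φ.map_injective ?_⟩
  rw [Functor.map_comp, Functor.map_zero]
  exact hf

/-- Transfer of the commutation of `Ext` with filtered colimits along an exact fully faithful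
colimit-preserving functor preserving injectives (e.g. an equivalence). -/
theorem surj_inj_of_map [IsGrothendieckAbelian.{w'} A] [IsFiltered Λ] [HasExactColimitsOfShape Λ A]
    (hinj : ∀ I : A, Injective I → Injective (Φ.obj I)) (Z : A)
    (h0 : ∀ D' : Λ ⥤ A', Surj0 (Φ.obj Z) D' ∧ Inj0 (Φ.obj Z) D')
    (hacyc : ∀ D' : Λ ⥤ A', (∀ i, Injective (D'.obj i)) →
      ∀ (q : ℕ) (x : Ext (Φ.obj Z) (colimit D') (q + 1)), x = 0) :
    ∀ (q : ℕ) (D : Λ ⥤ A), Surj Z q D ∧ Inj Z q D := by
  refine surj_inj Z (fun D => ⟨surj_zero_of (surj0_of_map Φ Z D (h0 _).1),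
    inj_zero_of (inj0_of_map Φ Z D (h0 _).2)⟩) ?_
  intro D hD q x
  have h1 : Subsingleton (Ext (Φ.obj Z) (colimit (D ⋙ Φ)) (q + 1)) :=
    subsingleton_of_forall_eq 0 (fun y => hacyc (D ⋙ Φ) (fun i => hinj _ (hD i)) q y)
  have h2 : Subsingleton (Ext (Φ.obj Z) (Φ.obj (colimit D)) (q + 1)) := by
    refine subsingleton_of_forall_eq 0 (fun y => ?_)
    have h3 : y.comp (Ext.mk₀ (preservesColimitIso Φ D).hom) (add_zero _) = 0 :=
      Subsingleton.elim _ _
    calc y = (y.comp (Ext.mk₀ (preservesColimitIso Φ D).hom) (add_zero _)).comp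
          (Ext.mk₀ (preservesColimitIso Φ D).inv) (add_zero _) := by
          rw [Ext.comp_assoc_of_third_deg_zero, Ext.mk₀_comp_mk₀, Iso.hom_inv_id, Ext.comp_mk₀_id]
      _ = 0 := by rw [h3, Ext.zero_comp]
  have := subsingleton_ext_of_map Φ hinj Z q (colimit D) h2
  exact Subsingleton.elim _ _

end Groth.Agent.H60.ExtTransfer
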