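import Groth.Agent.H60.CechColim
import Groth.Agent.H60.NerveInd
import Groth.Agent.H28.ToposAlg
import Groth.Agent.H28.ToposPres

open CategoryTheory Limits Opposite Abelian

universe u

namespace Groth.Agent.H60.FinCoprod

open Groth.Agent.H28 ToposFin Groth.Agent.H60.CechColim Groth.Agent.H31.SieveExt

variable {C : Type u} [SmallCategory C] {J : GrothendieckTopology C}

/-- the closure of a class of sheaves of sets under finite coproducts. -/
inductive SPlus (S : Set (Sh J)) : Sh J → Prop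
  | of_mem {K : Sh J} : K ∈ S → SPlus S K
  | of_cofan {α : Type u} [Finite α] {X : α → Sh J} {P : Sh J} (inj : ∀ a, X a ⟶ P)
      (hc : IsColimit (Cofan.mk P inj)) : (∀ a, SPlus S (X a)) → SPlus S P

variable {S : Set (Sh J)}

lemma SPlus.of_iso {N N' : Sh J} (e : N ≅ N') (h : SPlus S N) : SPlus S N' := by
  refine SPlus.of_cofan (α := PUnit.{u + 1}) (X := fun _ => N) (fun _ => e.hom) ?_ (fun _ => h)
  refine Cofan.IsColimit.mk _ (fun s => e.inv ≫ s.inj PUnit.unit) ?_ ?_
  · intro s j
    cases j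
    simp
  · intro s m hm
    have := hm PUnit.unit
    simp only [Cofan.mk_pt, cofan_mk_inj] at this
    rw [← this]
    simp

lemma SPlus.isCoherent (hqc : ∀ K ∈ S, IsQC K) (hS : CoversAll S) (hpb : ClosedUnderPullbacks S)
    {N : Sh J} (h : SPlus S N) : IsCoherent N := by
  induction h with
  | of_mem hK => exact isCoherent_of_mem hqc hS hpb hK
  | of_cofan inj hc _ ih =>
    exact IsCoherent.of_iso ((coproductIsCoproduct _).coconePointUniqueUpToIso hc)
      (isCoherent_sigma_of_finite _ ih)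

lemma SPlus.subsingleton_ext (F : Sheaf J AddCommGrpCat.{u}) (n : ℕ)
    (h : ∀ K, K ∈ S → Subsingleton (CohCx.HK K F n)) {N : Sh J} (hN : SPlus S N) :
    Subsingleton (CohCx.HK N F n) := by
  induction hN with
  | of_mem hK => exact h _ hK
  | @of_cofan α _ X P inj hc _ ih =>
    have := Fintype.ofFinite α
    let G := Sheaf.composeAndSheafify J AddCommGrpCat.free.{u}
    have hG : PreservesColimit (Discrete.functor X) G :=
      ((Sheaf.adjunction J AddCommGrpCat.adj.{u}).leftAdjoint_preservesColimits).preservesColimitsOfShape.preservesColimit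
    have hc' := isColimitCofanMkObjOfIsColimit G X inj hc
    let e := Ext.biproductAddEquiv (biconeIsBilimitOfColimitCoconeOfIsColimit hc') F n
    have hsub : Subsingleton (∀ a, Ext (G.obj (X a)) F n) := by
      have : ∀ a, Subsingleton (Ext (G.obj (X a)) F n) := fun a => ih a
      infer_instance
    exact e.toEquiv.subsingleton

lemma isColimit_pullback_cofan {α : Type u} [Finite α] {X : α → Sh J} {P : Sh J}
    (inj : ∀ a, X a ⟶ P) (hc : IsColimit (Cofan.mk P inj)) {W : Sh J} (g : W ⟶ P)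
    (Y : α → Sh J) (p : ∀ a, Y a ⟶ W) (q : ∀ a, Y a ⟶ X a)
    (h : ∀ a, IsPullback (p a) (q a) g (inj a)) : Nonempty (IsColimit (Cofan.mk W p)) := by
  have hu := FinitaryPreExtensive.isUniversal_finiteCoproducts hc
  refine hu (Cofan.mk W p) (Discrete.natTrans (fun a => q a.as)) g ?_ (NatTrans.Equifibered.of_discrete _) ?_
  · apply NatTrans.ext
    funext a
    exact (h a.as).w.symm
  · rintro ⟨a⟩
    exact h a

lemma SPlus.of_isPullback (hpb : ClosedUnderPullbacks S) {K : Sh J} (hK : K ∈ S) {α : Type u} [Finite α]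
    {F : α → Sh J} (hF : ∀ a, F a ∈ S) {K' : Sh J} (inj : ∀ a, F a ⟶ K')
    (hc : IsColimit (Cofan.mk K' inj)) (f : K' ⟶ K) {N : Sh J} (hN : SPlus S N) :
    ∀ {W : Sh J} (a : W ⟶ N) (b : W ⟶ K') (g : N ⟶ K), IsPullback a b g f → SPlus S W := by
  induction hN with
  | @of_mem N hNS =>
    intro W a b g h
    obtain ⟨hcW⟩ := isColimit_pullback_cofan inj hc b (fun x => pullback b (inj x))
      (fun x => pullback.fst _ _) (fun x => pullback.snd _ _) (fun x => IsPullback.of_hasPullback _ _)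
    refine SPlus.of_cofan _ hcW (fun x => ?_)
    obtain ⟨P, p, q, hP, hPpb⟩ := hpb g (inj x ≫ f) hNS (hF x) hK
    have h1 : IsPullback (pullback.fst b (inj x) ≫ a) (pullback.snd b (inj x)) g (inj x ≫ f) :=
      (IsPullback.of_hasPullback b (inj x)).paste_horiz h
    exact SPlus.of_iso (IsPullback.isoIsPullback _ _ hPpb h1) (SPlus.of_mem hP)
  | @of_cofan β _ X N injN hcN hX ih =>
    intro W a b g h
    obtain ⟨hcW⟩ := isColimit_pullback_cofan injN hcN a (fun y => pullback a (injN y))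
      (fun y => pullback.fst _ _) (fun y => pullback.snd _ _) (fun y => IsPullback.of_hasPullback _ _)
    refine SPlus.of_cofan _ hcW (fun y => ?_)
    exact ih y (pullback.snd a (injN y)) (pullback.fst a (injN y) ≫ b) (injN y ≫ g)
      ((IsPullback.of_hasPullback a (injN y)).flip.paste_vert h)

lemma exists_refinement (hqc : ∀ K ∈ S, IsQC K) (hS : CoversAll S) (hpb : ClosedUnderPullbacks S)
    {K : Sh J} (hK : K ∈ S) (L : Sh J) (g : L ⟶ K) (hg : Epi g) :
    ∃ (K' : Sh J) (f : K' ⟶ K) (k : K' ⟶ L),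
      (K ∈ S ∧ Epi f ∧ ∀ n, SPlus S (nerve f n)) ∧ k ≫ g = f := by
  obtain ⟨ι, F, π, hF, hπ⟩ := hS L
  have hcomp := ((isCover_single_iff_epi.{u, u} g).2 hg).comp (fun _ i => π i) (fun _ => hπ)
  obtain ⟨s, hs⟩ := IsQC.exists_finset (hqc K hK) _ hcomp
  let f : (∐ (fun x : s => F x.1.2)) ⟶ K := Sigma.desc (fun x : s => π x.1.2 ≫ g)
  refine ⟨∐ (fun x : s => F x.1.2), f, Sigma.desc (fun x : s => π x.1.2), ⟨hK, ?_, ?_⟩, ?_⟩
  · exact (isCover_iff_epi_sigmaDesc _).1 hs
  · have hK' : SPlus S (∐ (fun x : s => F x.1.2)) :=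
      SPlus.of_cofan (Sigma.ι _) (coproductIsCoproduct _) (fun x => SPlus.of_mem (hF _))
    intro n
    have := NerveInd.prop_WP f (fun X => SPlus S X) (fun e h => SPlus.of_iso e h) hK'
      (fun a b g' h hN => SPlus.of_isPullback hpb hK (fun x : s => hF x.1.2) (Sigma.ι _)
        (coproductIsCoproduct _) f hN a b g' h) n
    exact this
  · apply Sigma.hom_ext
    intro x
    simp [f]

/-- Acyclicity with respect to a generating set of quasi-compact objects stable under fibre
products passes to filtered colimits. -/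
theorem acyclic_colim_of_mem (hqc : ∀ K ∈ S, IsQC K) (hS : CoversAll S)
    (hpb : ClosedUnderPullbacks S)
    {Λ : Type u} [SmallCategory Λ] [IsFiltered Λ] {D : Λ ⥤ Sheaf J AddCommGrpCat.{u}}
    {c : Cocone D} (hc : IsColimit c)
    (hD : ∀ (i : Λ) (K : Sh J), K ∈ S → ∀ q : ℕ, Subsingleton (CohCx.HK K (D.obj i) (q + 1))) :
    ∀ (K : Sh J), K ∈ S → ∀ q : ℕ, Subsingleton (CohCx.HK K c.pt (q + 1)) := by
  have hE : HasQCGenerators J := coversAll_qc_iff.1 (coversAll_qc_of_subset hS hqc)
  refine acyclic_colim hc (fun K => K ∈ S) (fun K => SPlus S K)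
    (fun {K' K} f => K ∈ S ∧ Epi f ∧ ∀ n, SPlus S (nerve f n))
    (fun N hN => isFP_of_isCoherent hE (hN.isCoherent hqc hS hpb))
    (fun F i h N hN => SPlus.subsingleton_ext F (i + 1) h hN) ?_ ?_ hD
  · rintro K' K f ⟨h1, h2, h3⟩
    exact ⟨h2, h1, h3⟩
  · intro K hK L g hg
    exact exists_refinement hqc hS hpb hK L g hg

end Groth.Agent.H60.FinCoprod
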