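import Mathlib
import Groth.Prelude.Def_SGA4a

set_option autoImplicit false
open CategoryTheory CategoryTheory.Limits Opposite
universe w v u

namespace Groth.Agent.H60.Giraud

variable {E : Type v} [Category.{u} E]

/-- a sieve is covering for the canonical topology iff all its pullbacks are effective for
representables -/
lemma mem_canonical_of {X : E} (S : Sieve X)
    (h : ∀ (Z : E) ⦃Y : E⦄ (g : Y ⟶ X), Presieve.IsSheafFor (yoneda.obj Z) (S.pullback g).arrows) :
    S ∈ Sheaf.canonicalTopology E X := by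
  apply Sheaf.mem_finestTopology_of_forall_isSheafFor
  rintro _ ⟨Z, rfl⟩ Y g
  exact h Z g

section pullbacks

variable [HasPullbacks E]

/-- a universally effective epimorphism generates a covering sieve of the canonical topology -/
theorem singleton_mem_canonical {A B : E} (π : A ⟶ B)
    (hπ : ∀ (B' : E) (g : B' ⟶ B), EffectiveEpi (pullback.snd π g)) :
    Sieve.generate (Presieve.singleton π) ∈ Sheaf.canonicalTopology E B := by
  apply mem_canonical_of
  intro Z Y g
  rw [← Sieve.pullbackArrows_comm, Presieve.pullback_singleton, ← Presieve.isSheafFor_iff_generate]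
  have := hπ Y g
  exact Presieve.IsSheafFor.singleton_of_isRepresentable_of_effectiveEpi _ _

/-- a universal coproduct cofan generates a covering sieve of the canonical topology -/
theorem cofan_mem_canonical {ι : Type w} {X : ι → E} (c : Cofan X) (hc : IsUniversalColimit c) :
    Sieve.generate (Presieve.ofArrows X c.inj) ∈ Sheaf.canonicalTopology E c.pt := by
  apply mem_canonical_of
  intro Z Y g
  rw [← Sieve.pullbackArrows_comm, ← Presieve.ofArrows_pullback, ← Presieve.isSheafFor_iff_generate,
    Presieve.isSheafFor_arrows_iff]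
  intro x _
  let c' : Cofan (fun i => pullback (c.inj i) g) := Cofan.mk Y (fun i => pullback.snd _ _)
  have hc' : IsColimit c' := by
    refine (hc c' (Discrete.natTrans (fun i => pullback.fst (c.inj i.as) g)) g ?_
      (NatTrans.Equifibered.of_discrete _) ?_).some
    · ext ⟨i⟩
      exact pullback.condition
    · rintro ⟨i⟩
      exact (IsPullback.of_hasPullback (c.inj i) g).flip
  refine ⟨Cofan.IsColimit.desc hc' x, fun i => ?_, fun t ht => ?_⟩
  · exact Cofan.IsColimit.fac hc' x i
  · refine Cofan.IsColimit.hom_ext hc' _ _ (fun i => ?_)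
    rw [Cofan.IsColimit.fac hc' x i]
    exact ht i

/-- the kernel pair of a morphism is an equivalence relation -/
lemma isEquivRel_kernelPair {T Y : E} (g : T ⟶ Y) :
    SGA4.IsEquivRel (pullback.fst g g) (pullback.snd g g) := by
  intro Z
  have key : ∀ a b : Z ⟶ T, (∃ f : Z ⟶ pullback g g, f ≫ pullback.fst g g = a ∧
      f ≫ pullback.snd g g = b) ↔ a ≫ g = b ≫ g := by
    intro a b
    constructor
    · rintro ⟨f, rfl, rfl⟩
      rw [Category.assoc, Category.assoc, pullback.condition]
    · intro h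
      exact ⟨pullback.lift a b h, pullback.lift_fst _ _ _, pullback.lift_snd _ _ _⟩
  constructor
  · intro f f' h
    simp only [Prod.mk.injEq] at h
    exact pullback.hom_ext h.1 h.2
  · constructor
    · intro a
      exact (key a a).2 rfl
    · intro a b h
      exact (key b a).2 ((key a b).1 h).symm
    · intro a b c h h'
      exact (key a c).2 (((key a b).1 h).trans ((key b c).1 h'))

omit [HasPullbacks E] in
lemma generate_singleton_apply {A B Z : E} (π : A ⟶ B) (f : Z ⟶ B) :
    Sieve.generate (Presieve.singleton π) f ↔ ∃ h : Z ⟶ A, h ≫ π = f := by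
  constructor
  · rintro ⟨Y, h, g, ⟨⟩, rfl⟩
    exact ⟨h, rfl⟩
  · rintro ⟨h, rfl⟩
    exact ⟨A, h, π, Presieve.singleton.mk, rfl⟩

omit [HasPullbacks E] in
/-- two morphisms agreeing on a covering sieve of the canonical topology are equal -/
lemma hom_ext_of_mem_canonical {X Z : E} (S : Sieve X) (hS : S ∈ Sheaf.canonicalTopology E X)
    (a b : X ⟶ Z) (h : ∀ ⦃W : E⦄ (w : W ⟶ X), S w → w ≫ a = w ≫ b) : a = b :=
  ((Sheaf.isSheaf_yoneda_obj Z) S hS).isSeparatedFor.ext (fun _ w hw => h w hw)

variable (hc : ∀ (R A : E) (p₁ p₂ : R ⟶ A), SGA4.IsEquivRel p₁ p₂ →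
  SGA4.IsEffectiveUniversalEquivRel p₁ p₂)

include hc in
/-- image factorisation: a universally effective epimorphism followed by a monomorphism -/
theorem exists_image {T Y : E} (g : T ⟶ Y) :
    ∃ (I : E) (π : T ⟶ I) (m : I ⟶ Y), π ≫ m = g ∧ Mono m ∧
      (∀ (B' : E) (q : B' ⟶ I), EffectiveEpi (pullback.snd π q)) := by
  obtain ⟨B, π, hpb, hpo, hu⟩ := hc _ _ _ _ (isEquivRel_kernelPair g)
  refine ⟨B, π, hpo.desc g g pullback.condition, hpo.inl_desc _ _ _, ⟨fun {Z} a b hab => ?_⟩, hu⟩
  have hm : π ≫ hpo.desc g g pullback.condition = g := hpo.inl_desc _ _ _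
  have hcov := singleton_mem_canonical π hu
  refine hom_ext_of_mem_canonical _ ((Sheaf.canonicalTopology E).intersection_covering
    ((Sheaf.canonicalTopology E).pullback_stable a hcov)
    ((Sheaf.canonicalTopology E).pullback_stable b hcov)) a b ?_
  rintro W w ⟨h1, h2⟩
  rw [Sieve.pullback_apply, generate_singleton_apply] at h1 h2
  obtain ⟨a', ha'⟩ := h1
  obtain ⟨b', hb'⟩ := h2
  have e : a' ≫ g = b' ≫ g := by
    rw [← hm, ← Category.assoc, ← Category.assoc, ha', hb', Category.assoc, Category.assoc, hab]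
  rw [← ha', ← hb']
  calc a' ≫ π = (pullback.lift a' b' e ≫ pullback.fst g g) ≫ π := by rw [pullback.lift_fst]
    _ = (pullback.lift a' b' e ≫ pullback.snd g g) ≫ π := by
      rw [Category.assoc, Category.assoc, hpb.w]
    _ = b' ≫ π := by rw [pullback.lift_snd]

end pullbacks

section coproducts

variable [HasPullbacks E] (hb : SGA4.HasDisjointUniversalCoproducts.{v, u} E)

include hb in
/-- there is an object covered by the empty sieve which is initial -/
lemma exists_initial :
    ∃ (O : E), Nonempty (IsInitial O) ∧ (⊥ : Sieve O) ∈ Sheaf.canonicalTopology E O := by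
  obtain ⟨c, hc, -, hu⟩ := hb PEmpty.{u + 1} (fun i => i.elim)
  refine ⟨c.pt, ⟨IsInitial.ofUniqueHom (fun Z => hc.desc (Cofan.mk Z (fun i => i.elim)))
    (fun Z m => hc.uniq (Cofan.mk Z (fun i => i.elim)) m (fun ⟨i⟩ => i.elim))⟩, ?_⟩
  have := cofan_mem_canonical c hu
  convert this
  ext Z f
  simp only [Sieve.bot_apply, false_iff]
  rintro ⟨Y, h, g, ⟨i⟩, -⟩
  exact i.elim

omit [HasPullbacks E] in
lemma bot_mem_of_hom {O T : E} (hO : (⊥ : Sieve O) ∈ Sheaf.canonicalTopology E O) (g : T ⟶ O) :
    (⊥ : Sieve T) ∈ Sheaf.canonicalTopology E T := by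
  have := (Sheaf.canonicalTopology E).pullback_stable g hO
  convert this
  ext Z f
  simp

omit [HasPullbacks E] in
lemma subsingleton_of_bot_mem {T : E} (hT : (⊥ : Sieve T) ∈ Sheaf.canonicalTopology E T)
    (G : Eᵒᵖ ⥤ Type w) (hG : Presieve.IsSheaf (Sheaf.canonicalTopology E) G)
    (t t' : G.obj (op T)) : t = t' :=
  (hG _ hT).isSeparatedFor.ext (fun _ _ h => h.elim)

omit [HasPullbacks E] in
lemma hom_ext_of_bot_mem {T Z : E} (hT : (⊥ : Sieve T) ∈ Sheaf.canonicalTopology E T)
    (a b : T ⟶ Z) : a = b :=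
  hom_ext_of_mem_canonical _ hT a b (fun _ _ h => h.elim)

include hb in
/-- objects mapping to two different summands are covered by the empty sieve -/
lemma bot_mem_of_disjoint {ι : Type u} {X : ι → E} (c : Cofan X) (hc : IsColimit c)
    [CoproductDisjoint X] {k k' : ι} (hk : k ≠ k') {T : E} (g : T ⟶ X k) (g' : T ⟶ X k')
    (e : g ≫ c.inj k = g' ≫ c.inj k') : (⊥ : Sieve T) ∈ Sheaf.canonicalTopology E T := by
  obtain ⟨O, ⟨hO⟩, hO'⟩ := exists_initial hb
  obtain ⟨hI⟩ := CoproductDisjoint.nonempty_isInitial_of_ne hc hk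
    (PullbackCone.mk (pullback.fst (c.inj k) (c.inj k')) (pullback.snd (c.inj k) (c.inj k'))
      pullback.condition) (pullbackIsPullback _ _)
  exact bot_mem_of_hom hO' (pullback.lift g g' e ≫ hI.to O)

end coproducts

section generators

variable [HasPullbacks E] (hb : SGA4.HasDisjointUniversalCoproducts.{v, u} E)
  (hc : ∀ (R A : E) (p₁ p₂ : R ⟶ A), SGA4.IsEquivRel p₁ p₂ →
    SGA4.IsEffectiveUniversalEquivRel p₁ p₂)
  (P : ObjectProperty E) [ObjectProperty.Small.{u} P]

/-- the sieve of morphisms factoring through a generator -/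
def genSieve (X : E) : Sieve X where
  arrows Z f := ∃ (G : E) (_ : P G) (a : Z ⟶ G) (b : G ⟶ X), a ≫ b = f
  downward_closed := by
    rintro Z Z' f ⟨G, hG, a, b, rfl⟩ h
    exact ⟨G, hG, h ≫ a, b, by rw [Category.assoc]⟩

/-- the `u`-small type indexing the generators -/
abbrev GenIdx : Type u := Shrink.{u} (Subtype P)

/-- the generator attached to an index -/
noncomputable def genObj (g : GenIdx P) : E := ((equivShrink (Subtype P)).symm g).1

omit [HasPullbacks E] in
lemma genObj_mem (g : GenIdx P) : P (genObj P g) := ((equivShrink (Subtype P)).symm g).2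

omit [HasPullbacks E] in
lemma exists_genObj {G : E} (hG : P G) : ∃ g : GenIdx P, genObj P g = G :=
  ⟨equivShrink (Subtype P) ⟨G, hG⟩, by simp [genObj]⟩

include hb hc in
theorem genSieve_mem (hP : P.IsDetecting) (X : E) :
    genSieve P X ∈ Sheaf.canonicalTopology E X := by
  obtain ⟨c, hcol, -, hu⟩ := hb (Σ g : GenIdx P, (genObj P g ⟶ X)) (fun i => genObj P i.1)
  let ε : c.pt ⟶ X := Cofan.IsColimit.desc hcol (fun i => i.2)
  have hε : ∀ i, c.inj i ≫ ε = i.2 := fun i => Cofan.IsColimit.fac hcol _ i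
  obtain ⟨B, π, m, hπm, hmono, hu'⟩ := exists_image hc ε
  have hiso : IsIso m := by
    apply hP
    intro G hG h
    obtain ⟨g₀, hg₀⟩ := exists_genObj P hG
    subst hg₀
    refine ⟨c.inj ⟨g₀, h⟩ ≫ π, ?_, ?_⟩
    · show (c.inj ⟨g₀, h⟩ ≫ π) ≫ m = h
      rw [Category.assoc, hπm, hε]
    · intro h' hh'
      rw [← cancel_mono m, hh']
      show h = (c.inj ⟨g₀, h⟩ ≫ π) ≫ m
      rw [Category.assoc, hπm, hε]
  have h1 : Sieve.generate (Presieve.singleton ε) ∈ Sheaf.canonicalTopology E X := by
    refine (Sheaf.canonicalTopology E).superset_covering ?_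
      ((Sheaf.canonicalTopology E).pullback_stable (inv m) (singleton_mem_canonical π hu'))
    intro Z f hf
    rw [Sieve.pullback_apply, generate_singleton_apply] at hf
    obtain ⟨h, hh⟩ := hf
    rw [generate_singleton_apply]
    refine ⟨h, ?_⟩
    rw [← hπm, ← Category.assoc, hh, Category.assoc, IsIso.inv_hom_id, Category.comp_id]
  refine (Sheaf.canonicalTopology E).transitive h1 _ (fun Z f hf => ?_)
  rw [generate_singleton_apply] at hf
  obtain ⟨h, rfl⟩ := hf
  refine (Sheaf.canonicalTopology E).superset_covering ?_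
    ((Sheaf.canonicalTopology E).pullback_stable h (cofan_mem_canonical c hu))
  rintro W w ⟨Y, a, _, ⟨i⟩, hw⟩
  refine ⟨genObj P i.1, genObj_mem P i.1, a, i.2, ?_⟩
  rw [← hε i, ← Category.assoc, hw, Category.assoc]

end generators

end Groth.Agent.H60.Giraud
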