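import Mathlib
import Groth.Prelude.Def_SGA4a
import Groth.Agent.H60.Giraud1

set_option autoImplicit false
open CategoryTheory CategoryTheory.Limits Opposite
universe w v u

namespace Groth.Agent.H60.Giraud

variable {E : Type v} [Category.{u} E]

/-- a morphism factors through a monomorphism as soon as it does so locally for the canonical
topology -/
lemma factor_of_local {X' X T : E} (m : X' ⟶ X) [Mono m] (f : T ⟶ X) (S : Sieve T)
    (hS : S ∈ Sheaf.canonicalTopology E T)
    (h : ∀ ⦃W : E⦄ (w : W ⟶ T), S w → ∃ l : W ⟶ X', l ≫ m = w ≫ f) :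
    ∃ f' : T ⟶ X', f' ≫ m = f := by
  have hsh := (Sheaf.isSheaf_yoneda_obj X') S hS
  let x : Presieve.FamilyOfElements (yoneda.obj X') S.arrows := fun W w hw => (h w hw).choose
  have hx : ∀ ⦃W : E⦄ (w : W ⟶ T) (hw : S w), x w hw ≫ m = w ≫ f :=
    fun W w hw => (h w hw).choose_spec
  have hcomp : x.Compatible := by
    rw [Presieve.compatible_iff_sieveCompatible]
    intro W W' w v hw
    rw [← cancel_mono m]
    show x (v ≫ w) (S.downward_closed hw v) ≫ m = (v ≫ x w hw) ≫ m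
    rw [hx (v ≫ w) (S.downward_closed hw v), Category.assoc, Category.assoc, hx w hw]
  refine ⟨hsh.amalgamate x hcomp, ?_⟩
  refine hom_ext_of_mem_canonical S hS _ _ (fun W w hw => ?_)
  have e : w ≫ hsh.amalgamate x hcomp = x w hw := hsh.valid_glue hcomp w hw
  rw [← Category.assoc, e, hx w hw]

section

variable [HasPullbacks E] (hb : SGA4.HasDisjointUniversalCoproducts.{v, u} E)
  (hc : ∀ (R A : E) (p₁ p₂ : R ⟶ A), SGA4.IsEquivRel p₁ p₂ →
    SGA4.IsEffectiveUniversalEquivRel p₁ p₂)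
  (P : ObjectProperty E) [ObjectProperty.Small.{u} P]

include hb hc in
/-- a local, stable predicate on morphisms into `X` is "factoring through a subobject" -/
theorem exists_mono_of_local (hP : P.IsDetecting) {X : E} (R : ∀ ⦃T : E⦄, (T ⟶ X) → Prop)
    (hst : ∀ ⦃T W : E⦄ (w : W ⟶ T) (f : T ⟶ X), R f → R (w ≫ f))
    (hloc : ∀ ⦃T : E⦄ (f : T ⟶ X) (S : Sieve T), S ∈ Sheaf.canonicalTopology E T →
      (∀ ⦃W : E⦄ (w : W ⟶ T), S w → R (w ≫ f)) → R f) :
    ∃ (X' : E) (m : X' ⟶ X), Mono m ∧ ∀ ⦃T : E⦄ (f : T ⟶ X), R f ↔ ∃ f' : T ⟶ X', f' ≫ m = f := by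
  obtain ⟨c, hcol, -, hu⟩ := hb (Σ g : GenIdx P, {f : genObj P g ⟶ X // R f})
    (fun i => genObj P i.1)
  let γ : c.pt ⟶ X := Cofan.IsColimit.desc hcol (fun i => i.2.1)
  have hγ : ∀ i, c.inj i ≫ γ = i.2.1 := fun i => Cofan.IsColimit.fac hcol _ i
  obtain ⟨X', π, m, hπm, hmono, hu'⟩ := exists_image hc γ
  refine ⟨X', m, hmono, fun T f => ⟨fun hf => ?_, ?_⟩⟩
  · refine factor_of_local m f (genSieve P T) (genSieve_mem hb hc P hP T) ?_
    rintro W w ⟨G, hG, a, b, rfl⟩
    obtain ⟨g₀, hg₀⟩ := exists_genObj P hG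
    subst hg₀
    have hR : R (b ≫ f) := hst b f hf
    refine ⟨a ≫ c.inj ⟨g₀, ⟨b ≫ f, hR⟩⟩ ≫ π, ?_⟩
    rw [Category.assoc, Category.assoc, hπm, hγ, Category.assoc]
  · rintro ⟨f', rfl⟩
    let S : Sieve T :=
      { arrows := fun W w => ∃ (i : Σ g : GenIdx P, {f : genObj P g ⟶ X // R f})
          (a : W ⟶ genObj P i.1), w ≫ f' = a ≫ c.inj i ≫ π
        downward_closed := by
          rintro W W' w ⟨i, a, h⟩ v
          exact ⟨i, v ≫ a, by rw [Category.assoc, h, Category.assoc]⟩ }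
    have hS : S ∈ Sheaf.canonicalTopology E T := by
      refine (Sheaf.canonicalTopology E).transitive
        ((Sheaf.canonicalTopology E).pullback_stable f' (singleton_mem_canonical π hu')) S ?_
      intro W w hw
      rw [Sieve.pullback_apply, generate_singleton_apply] at hw
      obtain ⟨h, hh⟩ := hw
      refine (Sheaf.canonicalTopology E).superset_covering ?_
        ((Sheaf.canonicalTopology E).pullback_stable h (cofan_mem_canonical c hu))
      rintro V v ⟨Y, a, _, ⟨i⟩, hv⟩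
      refine ⟨i, a, ?_⟩
      rw [Category.assoc, ← hh, ← Category.assoc, ← hv, Category.assoc]
    refine hloc _ S hS ?_
    rintro W w ⟨i, a, h⟩
    have : w ≫ f' ≫ m = a ≫ i.2.1 := by
      rw [← Category.assoc, h, Category.assoc, Category.assoc, hπm, hγ]
    rw [this]
    exact hst a _ i.2.2

end

end Groth.Agent.H60.Giraud
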