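import Mathlib
import Groth.Prelude.Def_SGA4a
import Groth.Agent.H60.Giraud2

set_option autoImplicit false
open CategoryTheory CategoryTheory.Limits Opposite
universe w v u

namespace Groth.Agent.H60.Giraud

variable {E : Type v} [Category.{u} E] [HasPullbacks E] [HasBinaryProducts E]
  (hb : SGA4.HasDisjointUniversalCoproducts.{v, u} E)
  (hc : ∀ (R A : E) (p₁ p₂ : R ⟶ A), SGA4.IsEquivRel p₁ p₂ →
    SGA4.IsEffectiveUniversalEquivRel p₁ p₂)
  (P : ObjectProperty E) [ObjectProperty.Small.{u} P]

omit [HasBinaryProducts E] in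
include hb in
/-- the universal section over the coproduct of all generators with a section -/
lemma exists_univ_section (G : Eᵒᵖ ⥤ Type u)
    (hG : Presieve.IsSheaf (Sheaf.canonicalTopology E) G) :
    ∃ (A : E) (ι : ∀ i : (Σ g : GenIdx P, G.obj (op (genObj P g))), genObj P i.1 ⟶ A)
      (s : G.obj (op A)), (∀ i, G.map (ι i).op s = i.2) ∧
      Sieve.generate (Presieve.ofArrows _ ι) ∈ Sheaf.canonicalTopology E A := by
  obtain ⟨c, hcol, hdis, hu⟩ := hb (Σ g : GenIdx P, G.obj (op (genObj P g)))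
    (fun i => genObj P i.1)
  have hcov := cofan_mem_canonical c hu
  have hsh := (Presieve.isSheafFor_iff_generate _).2 (hG _ hcov)
  rw [Presieve.isSheafFor_arrows_iff] at hsh
  obtain ⟨s, hs, -⟩ := hsh (fun i => i.2) (by
    intro i j Z gi gj e
    by_cases hij : i = j
    · subst hij
      have := CoproductDisjoint.mono_inj hcol i
      rw [(cancel_mono (c.inj i)).1 e]
    · exact subsingleton_of_bot_mem (bot_mem_of_disjoint hb c hcol hij gi gj e) G hG _ _)
  exact ⟨c.pt, c.inj, s, hs, hcov⟩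

omit [HasPullbacks E] [HasBinaryProducts E] in
lemma map_comp_op_apply (G : Eᵒᵖ ⥤ Type u) {X Y Z : E} (f : X ⟶ Y) (g : Y ⟶ Z)
    (s : G.obj (op Z)) : G.map (f ≫ g).op s = G.map f.op (G.map g.op s) := by
  rw [op_comp, Functor.map_comp_apply]

include hb hc in
/-- every sheaf of `u`-small sets for the canonical topology is representable -/
theorem exists_representation (hP : P.IsDetecting) (G : Eᵒᵖ ⥤ Type u)
    (hG : Presieve.IsSheaf (Sheaf.canonicalTopology E) G) :
    ∃ (X : E) (sX : G.obj (op X)), ∀ (T : E),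
      Function.Bijective (fun f : T ⟶ X => G.map f.op sX) := by
  obtain ⟨A, ι, s, hs, hcov⟩ := exists_univ_section hb P G hG
  let R : ∀ ⦃T : E⦄, (T ⟶ A ⨯ A) → Prop :=
    fun T f => G.map (f ≫ prod.fst).op s = G.map (f ≫ prod.snd).op s
  have hst : ∀ ⦃T W : E⦄ (w : W ⟶ T) (f : T ⟶ A ⨯ A), R f → R (w ≫ f) := by
    intro T W w f hf
    show G.map ((w ≫ f) ≫ prod.fst).op s = G.map ((w ≫ f) ≫ prod.snd).op s
    rw [Category.assoc, Category.assoc, map_comp_op_apply, map_comp_op_apply G w]
    exact congrArg _ hf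
  have hloc : ∀ ⦃T : E⦄ (f : T ⟶ A ⨯ A) (S : Sieve T), S ∈ Sheaf.canonicalTopology E T →
      (∀ ⦃W : E⦄ (w : W ⟶ T), S w → R (w ≫ f)) → R f := by
    intro T f S hS h
    refine (hG S hS).isSeparatedFor.ext (fun W w hw => ?_)
    have := h w hw
    show G.map w.op (G.map (f ≫ prod.fst).op s) = G.map w.op (G.map (f ≫ prod.snd).op s)
    rw [← map_comp_op_apply, ← map_comp_op_apply, ← Category.assoc, ← Category.assoc]
    exact this
  obtain ⟨Rq, m, hm, hfac⟩ := exists_mono_of_local hb hc P hP R hst hloc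
  have key : ∀ ⦃T : E⦄ (a b : T ⟶ A), (∃ f : T ⟶ Rq, f ≫ m ≫ prod.fst = a ∧
      f ≫ m ≫ prod.snd = b) ↔ G.map a.op s = G.map b.op s := by
    intro T a b
    constructor
    · rintro ⟨f, rfl, rfl⟩
      have : R (f ≫ m) := (hfac (f ≫ m)).2 ⟨f, rfl⟩
      have this' : G.map ((f ≫ m) ≫ prod.fst).op s = G.map ((f ≫ m) ≫ prod.snd).op s := this
      rw [Category.assoc, Category.assoc] at this'
      exact this'
    · intro h
      have : R (prod.lift a b) := by
        show G.map (prod.lift a b ≫ prod.fst).op s = G.map (prod.lift a b ≫ prod.snd).op s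
        rw [prod.lift_fst, prod.lift_snd]
        exact h
      obtain ⟨f', hf'⟩ := (hfac _).1 this
      refine ⟨f', ?_, ?_⟩
      · rw [← Category.assoc, hf', prod.lift_fst]
      · rw [← Category.assoc, hf', prod.lift_snd]
  have hequiv : SGA4.IsEquivRel (m ≫ prod.fst) (m ≫ prod.snd) := by
    intro T
    constructor
    · intro f f' h
      simp only [Prod.mk.injEq] at h
      rw [← cancel_mono m]
      apply prod.hom_ext
      · rw [Category.assoc, Category.assoc]
        exact h.1
      · rw [Category.assoc, Category.assoc]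
        exact h.2
    · constructor
      · intro a
        exact (key a a).2 rfl
      · intro a b h
        exact (key b a).2 ((key a b).1 h).symm
      · intro a b c h h'
        exact (key a c).2 (((key a b).1 h).trans ((key b c).1 h'))
  obtain ⟨X, π, hpb, hpo, hu⟩ := hc _ _ _ _ hequiv
  have hπcov := singleton_mem_canonical π hu
  have hshπ := hG _ hπcov
  rw [← Presieve.isSheafFor_iff_generate, ← Presieve.ofArrows_pUnit.{0},
    Presieve.isSheafFor_arrows_iff] at hshπ
  obtain ⟨sX, hsX', -⟩ := hshπ (fun _ => s) (by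
    intro _ _ Z gi gj e
    exact (key gi gj).1 ⟨hpb.lift gi gj e, hpb.lift_fst _ _ _, hpb.lift_snd _ _ _⟩)
  have hsX : G.map π.op sX = s := hsX' PUnit.unit
  have hinj : ∀ (T : E) (f f' : T ⟶ X), G.map f.op sX = G.map f'.op sX → f = f' := by
    intro T f f' h
    refine hom_ext_of_mem_canonical _ ((Sheaf.canonicalTopology E).intersection_covering
      ((Sheaf.canonicalTopology E).pullback_stable f hπcov)
      ((Sheaf.canonicalTopology E).pullback_stable f' hπcov)) f f' ?_
    rintro W w ⟨h1, h2⟩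
    rw [Sieve.pullback_apply, generate_singleton_apply] at h1 h2
    obtain ⟨a, ha⟩ := h1
    obtain ⟨a', ha'⟩ := h2
    have e : G.map a.op s = G.map a'.op s := by
      rw [← hsX, ← map_comp_op_apply, ← map_comp_op_apply, ha, ha', map_comp_op_apply,
        map_comp_op_apply G w f', h]
    obtain ⟨l, hl1, hl2⟩ := (key a a').2 e
    rw [← ha, ← ha', ← hl1, ← hl2]
    have hw := hpb.w
    simp only [Category.assoc] at hw ⊢
    rw [hw]
  refine ⟨X, sX, fun T => ⟨fun f f' h => hinj T f f' h, fun t => ?_⟩⟩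
  have hS := genSieve_mem hb hc P hP T
  have hex : ∀ ⦃W : E⦄ (w : W ⟶ T), genSieve P T w →
      ∃ l : W ⟶ X, G.map l.op sX = G.map w.op t := by
    rintro W w ⟨Γ, hΓ, a, b, rfl⟩
    obtain ⟨g₀, hg₀⟩ := exists_genObj P hΓ
    subst hg₀
    refine ⟨a ≫ ι ⟨g₀, G.map b.op t⟩ ≫ π, ?_⟩
    rw [map_comp_op_apply, map_comp_op_apply, hsX, hs, map_comp_op_apply]
  have hsh := (Sheaf.isSheaf_yoneda_obj X) _ hS
  let x : Presieve.FamilyOfElements (yoneda.obj X) (genSieve P T).arrows :=
    fun W w hw => (hex w hw).choose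
  have hx : ∀ ⦃W : E⦄ (w : W ⟶ T) (hw : genSieve P T w),
      G.map (x w hw).op sX = G.map w.op t := fun W w hw => (hex w hw).choose_spec
  have hcomp : x.Compatible := by
    rw [Presieve.compatible_iff_sieveCompatible]
    intro W W' w v hw
    apply hinj
    show G.map (x (v ≫ w) ((genSieve P T).downward_closed hw v)).op sX = G.map (v ≫ x w hw).op sX
    rw [hx (v ≫ w) ((genSieve P T).downward_closed hw v), map_comp_op_apply,
      map_comp_op_apply, hx w hw]
  refine ⟨hsh.amalgamate x hcomp, ?_⟩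
  refine (hG _ hS).isSeparatedFor.ext (fun W w hw => ?_)
  have e : w ≫ hsh.amalgamate x hcomp = x w hw := hsh.valid_glue hcomp w hw
  show G.map w.op (G.map (hsh.amalgamate x hcomp).op sX) = G.map w.op t
  rw [← map_comp_op_apply, e, hx w hw]

end Groth.Agent.H60.Giraud
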