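import Mathlib
import Groth.Prelude.Def_SGA4a
import Groth.Agent.H60.Giraud3

set_option autoImplicit false
open CategoryTheory CategoryTheory.Limits Opposite
universe w v u

namespace Groth.Agent.H60.Giraud

variable {E : Type v} [Category.{u} E] [HasPullbacks E] [HasBinaryProducts E]
  (hb : SGA4.HasDisjointUniversalCoproducts.{v, u} E)
  (hc : ∀ (R A : E) (p₁ p₂ : R ⟶ A), SGA4.IsEquivRel p₁ p₂ →
    SGA4.IsEffectiveUniversalEquivRel p₁ p₂)
  (P : ObjectProperty E) [ObjectProperty.Small.{u} P]

include hb hc in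
/-- the Yoneda embedding into sheaves for the canonical topology is essentially surjective -/
theorem essSurj_yoneda (hP : P.IsDetecting) : ((Sheaf.canonicalTopology E).yoneda).EssSurj := by
  refine ⟨fun Gs => ?_⟩
  obtain ⟨X, sX, hbij⟩ := exists_representation hb hc P hP Gs.obj
    ((isSheaf_iff_isSheaf_of_type _ _).1 Gs.2)
  let e : yoneda.obj X ≅ Gs.obj :=
    NatIso.ofComponents (fun T => (Equiv.ofBijective _ (hbij T.unop)).toIso) (by
      intro T T' f
      ext h
      exact map_comp_op_apply Gs.obj f.unop h sX)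
  exact ⟨X, ⟨(fullyFaithfulSheafToPresheaf _ _).preimageIso e⟩⟩

/-- the small category of generators -/
abbrev GenCat : Type u := InducedCategory E (genObj P)

include hb hc in
theorem isCoverDense_gen (hP : P.IsDetecting) :
    (inducedFunctor (genObj P)).IsCoverDense (Sheaf.canonicalTopology E) := by
  refine ⟨fun X => (Sheaf.canonicalTopology E).superset_covering ?_ (genSieve_mem hb hc P hP X)⟩
  rintro Z f ⟨G, hG, a, b, rfl⟩
  obtain ⟨g₀, hg₀⟩ := exists_genObj P hG
  subst hg₀
  exact ⟨⟨g₀, a, b, rfl⟩⟩

include hb hc in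
/-- Giraud's theorem -/
theorem isTopos (hP : P.IsDetecting) : SGA4.IsTopos.{v, u} E := by
  have hess := essSurj_yoneda hb hc P hP
  have : ((Sheaf.canonicalTopology E).yoneda).IsEquivalence := { }
  let e1 : E ≌ Sheaf (Sheaf.canonicalTopology E) (Type u) :=
    ((Sheaf.canonicalTopology E).yoneda).asEquivalence
  have := isCoverDense_gen hb hc P hP
  let e2 := Functor.IsDenseSubsite.sheafEquiv
    ((inducedFunctor (genObj P)).inducedTopology (Sheaf.canonicalTopology E))
    (Sheaf.canonicalTopology E) (inducedFunctor (genObj P)) (Type u)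
  exact ⟨GenCat P, inferInstance, _, ⟨e1.trans e2.symm⟩⟩

end Groth.Agent.H60.Giraud
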