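import Groth.Agent.H4.HpullEt
import Groth.Agent.H4.EtRestr
import Groth.Agent.H4.GlueSec

/-!
# Acyclic étale sheaves restrict surjectively along open immersions (helper60)

* `surjective_map_of_injective_of_mono`: an injective abelian presheaf restricts surjectively along monos.
* `app_f_injective`, `exists_of_app_g_eq_zero`: left exactness of sections for a short exact sequence of sheaves.
* `sect_surjective_of_H1`: for `0 → F → G → H → 0` and `W : X.Etale` with `H^1(W, F|_W) = 0`, `G(W) → H(W)` is onto.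
* `WW g`, `i₁ g`, `i₂ g`: for an open immersion `g : V ⟶ U` of étale `X`-schemes, the (non-separated) gluing
  `U ∪_V U` as an object of the small étale site with its two charts; `cover`, `exists_lift`, `g_i₁`.
* `glue_sections`: sections on the two charts agreeing on `V` glue.
* `main`: the restriction `F(U) → F(V)` is surjective when `F` is acyclic on every étale `X`-scheme.
-/

set_option autoImplicit false

universe w v₁ u₁ u
open CategoryTheory CategoryTheory.Limits AlgebraicGeometry Opposite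

namespace Groth.Agent.H60.GlueAcyc


section PartD
variable {C : Type u₁} [Category.{v₁} C]

/-- the free abelian presheaf on a representable (universe lifted) -/
noncomputable abbrev R (T : C) : Cᵒᵖ ⥤ AddCommGrpCat.{max w v₁} :=
  uliftYoneda.{w}.obj T ⋙ AddCommGrpCat.free.{max w v₁}

noncomputable def Rmap {V U : C} (g : V ⟶ U) : R.{w} V ⟶ R.{w} U :=
  Functor.whiskerRight (uliftYoneda.{w}.map g) AddCommGrpCat.free.{max w v₁}

instance {V U : C} (g : V ⟶ U) [Mono g] : Mono (Rmap.{w} g) := by
  haveI : ∀ T : Cᵒᵖ, Mono ((Rmap.{w} g).app T) := by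
    intro T
    dsimp [Rmap]
    haveI : Mono ((uliftYoneda.{w}.map g).app T) := by
      rw [mono_iff_injective]
      rintro ⟨a⟩ ⟨b⟩ h
      have h' : a ≫ g = b ≫ g := congrArg ULift.down h
      exact congrArg ULift.up ((cancel_mono g).1 h')
    infer_instance
  exact NatTrans.mono_of_mono_app _

/-- `Hom(ℤ[h_T], P) ≃ P(T)` -/
noncomputable def homEquiv (T : C) (P : Cᵒᵖ ⥤ AddCommGrpCat.{max w v₁}) :
    (R.{w} T ⟶ P) ≃ P.obj (op T) :=
  (((Adjunction.whiskerRight Cᵒᵖ AddCommGrpCat.adj.{max w v₁}).homEquiv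
    (uliftYoneda.{w}.obj T) P)).trans uliftYonedaEquiv.{w}

lemma homEquiv_Rmap_comp {V U : C} (g : V ⟶ U) (P : Cᵒᵖ ⥤ AddCommGrpCat.{max w v₁})
    (ψ : R.{w} U ⟶ P) :
    homEquiv V P (Rmap.{w} g ≫ ψ) = (P.map g.op).hom (homEquiv U P ψ) := by
  have h1 := (Adjunction.whiskerRight Cᵒᵖ AddCommGrpCat.adj.{max w v₁}).homEquiv_naturality_left
    (uliftYoneda.{w}.map g) ψ
  have h2 := uliftYonedaEquiv_naturality.{w} (F := P ⋙ forget AddCommGrpCat)
    (((Adjunction.whiskerRight Cᵒᵖ AddCommGrpCat.adj.{max w v₁}).homEquiv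
      (uliftYoneda.{w}.obj U) P) ψ) g.op
  dsimp only [homEquiv, Equiv.trans_apply]
  change uliftYonedaEquiv.{w} (((Adjunction.whiskerRight Cᵒᵖ AddCommGrpCat.adj.{max w v₁}).homEquiv
    (uliftYoneda.{w}.obj V) P) (((Functor.whiskeringRight Cᵒᵖ _ _).obj AddCommGrpCat.free).map
      (uliftYoneda.{w}.map g) ≫ ψ)) = _
  rw [h1]
  exact h2.symm

theorem surjective_map_of_injective_of_mono (P : Cᵒᵖ ⥤ AddCommGrpCat.{max w v₁}) [Injective P]
    {V U : C} (g : V ⟶ U) [Mono g] : Function.Surjective (P.map g.op).hom := by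
  intro s
  let φ : R.{w} V ⟶ P := (homEquiv V P).symm s
  refine ⟨homEquiv U P (Injective.factorThru φ (Rmap.{w} g)), ?_⟩
  rw [← homEquiv_Rmap_comp, Injective.comp_factorThru]
  exact (homEquiv V P).apply_symm_apply s

end PartD



section Sect
variable {C : Type u₁} [Category.{v₁} C] {J : GrothendieckTopology C}

/-- sections over `T` -/
noncomputable abbrev Γ (J : GrothendieckTopology C) (T : C) : Sheaf J AddCommGrpCat.{w} ⥤ AddCommGrpCat.{w} :=
  sheafToPresheaf J AddCommGrpCat.{w} ⋙ (evaluation Cᵒᵖ AddCommGrpCat.{w}).obj (op T)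

instance (T : C) : PreservesFiniteLimits (Γ.{w} J T) := by
  dsimp only [Γ]
  infer_instance

instance (T : C) : (Γ.{w} J T).PreservesZeroMorphisms := ⟨fun _ _ => rfl⟩

variable [HasSheafify J AddCommGrpCat.{w}]

lemma app_f_injective (S : ShortComplex (Sheaf J AddCommGrpCat.{w})) (hS : S.ShortExact) (T : C) :
    Function.Injective (S.f.hom.app (op T)).hom := by
  haveI := hS.mono_f
  have : Mono ((Γ.{w} J T).map S.f) := inferInstance
  exact (AddCommGrpCat.mono_iff_injective _).1 this

lemma exists_of_app_g_eq_zero (S : ShortComplex (Sheaf J AddCommGrpCat.{w})) (hS : S.ShortExact) (T : C)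
    (x : S.X₂.obj.obj (op T)) (hx : (S.g.hom.app (op T)).hom x = 0) :
    ∃ a : S.X₁.obj.obj (op T), (S.f.hom.app (op T)).hom a = x := by
  haveI := hS.mono_f
  have h := hS.exact.map_of_mono_of_preservesKernel (Γ.{w} J T) inferInstance inferInstance
  exact (ShortComplex.ab_exact_iff _).1 h x hx

end Sect


section
open EtShriek


section PartC
variable {X : Scheme.{u}}

/-- the object `W` of `X.Etale` is isomorphic to the image of the terminal object of `W.left.Etale` -/
noncomputable def topIso (W : X.Etale) :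
    haveI : Etale W.hom := W.prop
    (compEtale W.hom).obj (EtCoh.top W.left) ≅ W :=
  haveI : Etale W.hom := W.prop
  MorphismProperty.Over.isoMk (Iso.refl _) (by simp; rfl)

theorem sect_surjective_of_H1 (W : X.Etale) (S : ShortComplex (EtCoh.Ab X)) (hS : S.ShortExact)
    (h1 : Subsingleton (EtCoh.H W.left ((EtCoh.pull W.hom).obj S.X₁) 1)) :
    Function.Surjective (S.g.hom.app (op W)).hom := by
  haveI : Etale W.hom := W.prop
  intro q
  have hT := EtCore.topIsTerminal W.left
  let ρ := Groth.Agent.H4.EtRestr.pullRestrIso W.hom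
  haveI : PreservesFiniteColimits (EtCoh.pull W.hom) := by
    have : PreservesColimitsOfSize.{0, 0} (EtCoh.pull W.hom) :=
      (EtCoh.pullPushAdj W.hom).leftAdjoint_preservesColimits
    exact PreservesColimitsOfSize.preservesFiniteColimits _
  have hS' : (S.map (EtCoh.pull W.hom)).ShortExact := hS.map_of_exact (EtCoh.pull W.hom)
  let q₁ : S.X₃.obj.obj (op ((compEtale W.hom).obj (EtCoh.top W.left))) :=
    (S.X₃.obj.map (topIso W).hom.op).hom q
  let q₂ : ((EtCoh.pull W.hom).obj S.X₃).obj.obj (op (EtCoh.top W.left)) :=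
    ((ρ.inv.app S.X₃).hom.app (op (EtCoh.top W.left))).hom q₁
  let x₃ : Sheaf.H ((EtCoh.pull W.hom).obj S.X₃) 0 := (Sheaf.H.equiv₀ _ hT).symm q₂
  obtain ⟨x₂, hx₂⟩ := Abelian.Ext.covariant_sequence_exact₃ _ hS' x₃ (rfl : 0 + 1 = 1)
    (h1.elim _ _)
  let i₂ := Sheaf.H.equiv₀ ((EtCoh.pull W.hom).obj S.X₂) hT x₂
  have hi₂ : (((EtCoh.pull W.hom).map S.g).hom.app (op (EtCoh.top W.left))).hom i₂ = q₂ := by
    have h := Sheaf.H.equiv₀_naturality hT ((EtCoh.pull W.hom).map S.g) x₂
    have h' : Sheaf.H.map ((EtCoh.pull W.hom).map S.g) 0 x₂ = x₃ := hx₂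
    rw [h'] at h
    exact h.trans ((Sheaf.H.equiv₀ _ hT).apply_symm_apply q₂)
  let i₁ : S.X₂.obj.obj (op ((compEtale W.hom).obj (EtCoh.top W.left))) :=
    ((ρ.hom.app S.X₂).hom.app (op (EtCoh.top W.left))).hom i₂
  have hi₁ : (S.g.hom.app (op ((compEtale W.hom).obj (EtCoh.top W.left)))).hom i₁ = q₁ := by
    have hn := ρ.hom.naturality S.g
    have hn' : (((EtCoh.pull W.hom).map S.g ≫ ρ.hom.app S.X₃).hom.app (op (EtCoh.top W.left))).hom i₂ =
        ((ρ.hom.app S.X₂ ≫ (restrAlong W.hom).map S.g).hom.app (op (EtCoh.top W.left))).hom i₂ :=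
      congrArg (fun k => (k.hom.app (op (EtCoh.top W.left))).hom i₂) hn
    have e1 : (((EtCoh.pull W.hom).map S.g ≫ ρ.hom.app S.X₃).hom.app (op (EtCoh.top W.left))).hom i₂ =
        ((ρ.hom.app S.X₃).hom.app (op (EtCoh.top W.left))).hom
          ((((EtCoh.pull W.hom).map S.g).hom.app (op (EtCoh.top W.left))).hom i₂) := rfl
    have e2 : ((ρ.hom.app S.X₂ ≫ (restrAlong W.hom).map S.g).hom.app (op (EtCoh.top W.left))).hom i₂ =
        (S.g.hom.app (op ((compEtale W.hom).obj (EtCoh.top W.left)))).hom i₁ := rfl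
    rw [e1, e2, hi₂] at hn'
    rw [← hn']
    have e3 : ((ρ.hom.app S.X₃).hom.app (op (EtCoh.top W.left))).hom q₂ =
        ((ρ.inv.app S.X₃ ≫ ρ.hom.app S.X₃).hom.app (op (EtCoh.top W.left))).hom q₁ := rfl
    rw [e3, Iso.inv_hom_id_app]
    rfl
  refine ⟨(S.X₂.obj.map (topIso W).inv.op).hom i₁, ?_⟩
  have hn := S.g.hom.naturality (topIso W).inv.op
  have hn' : (S.X₂.obj.map (topIso W).inv.op ≫ S.g.hom.app (op W)).hom i₁ =
      (S.g.hom.app (op ((compEtale W.hom).obj (EtCoh.top W.left))) ≫
      S.X₃.obj.map (topIso W).inv.op).hom i₁ := congrArg (fun k => k.hom i₁) hn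
  have e1 : (S.X₂.obj.map (topIso W).inv.op ≫ S.g.hom.app (op W)).hom i₁ =
      (S.g.hom.app (op W)).hom ((S.X₂.obj.map (topIso W).inv.op).hom i₁) := rfl
  have e2 : (S.g.hom.app (op ((compEtale W.hom).obj (EtCoh.top W.left))) ≫
      S.X₃.obj.map (topIso W).inv.op).hom i₁ =
      (S.X₃.obj.map (topIso W).inv.op).hom
        ((S.g.hom.app (op ((compEtale W.hom).obj (EtCoh.top W.left)))).hom i₁) := rfl
  rw [e1, e2, hi₁] at hn'
  rw [hn']
  have e3 : (S.X₃.obj.map (topIso W).inv.op).hom q₁ =
      (S.X₃.obj.map ((topIso W).hom.op ≫ (topIso W).inv.op)).hom q := by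
    rw [S.X₃.obj.map_comp]; rfl
  rw [e3, ← op_comp, Iso.inv_hom_id, op_id, S.X₃.obj.map_id]
  rfl

end PartC


end


section PartA
variable {X : Scheme.{u}} {U V : X.Etale} (g : V ⟶ U) [IsOpenImmersion g.left]

/-- the scheme `U ∪_V U` -/
noncomputable abbrev PP : Scheme.{u} := pushout g.left g.left

noncomputable def wP : PP g ⟶ X := pushout.desc U.hom U.hom rfl

@[reassoc (attr := simp)] lemma inl_wP : pushout.inl g.left g.left ≫ wP g = U.hom := pushout.inl_desc _ _ _
@[reassoc (attr := simp)] lemma inr_wP : pushout.inr g.left g.left ≫ wP g = U.hom := pushout.inr_desc _ _ _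

instance : Etale (wP g) := by
  haveI : Etale U.hom := U.prop
  haveI : Etale V.hom := V.prop
  apply IsZariskiLocalAtSource.of_openCover (P := @Etale)
    (Scheme.IsLocallyDirected.openCover (span g.left g.left))
  intro i
  rcases i with _ | _ | _
  · have h : (Scheme.IsLocallyDirected.openCover (span g.left g.left)).f none ≫ wP g = V.hom := by
      have h1 : colimit.ι (span g.left g.left) WalkingSpan.zero =
          g.left ≫ pushout.inl g.left g.left :=
        (colimit.w (span g.left g.left) WalkingSpan.Hom.fst).symm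
      change colimit.ι (span g.left g.left) WalkingSpan.zero ≫ wP g = V.hom
      rw [h1]
      refine (Category.assoc _ _ _).trans ?_
      rw [inl_wP]
      exact MorphismProperty.Over.w g
    rw [h]; exact V.prop
  · have h : (Scheme.IsLocallyDirected.openCover (span g.left g.left)).f (some WalkingPair.left) ≫ wP g
        = U.hom := inl_wP g
    rw [h]; exact U.prop
  · have h : (Scheme.IsLocallyDirected.openCover (span g.left g.left)).f (some WalkingPair.right) ≫ wP g
        = U.hom := inr_wP g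
    rw [h]; exact U.prop

/-- the glued object `U ∪_V U` of the small étale site -/
noncomputable def WW : X.Etale := Scheme.Etale.mk (wP g)

noncomputable def i₁ : U ⟶ WW g :=
  MorphismProperty.Over.homMk (pushout.inl g.left g.left) (inl_wP g) trivial

noncomputable def i₂ : U ⟶ WW g :=
  MorphismProperty.Over.homMk (pushout.inr g.left g.left) (inr_wP g) trivial

@[simp] lemma i₁_left : (i₁ g).left = pushout.inl g.left g.left := rfl
@[simp] lemma i₂_left : (i₂ g).left = pushout.inr g.left g.left := rfl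

lemma g_i₁ : g ≫ i₁ g = g ≫ i₂ g :=
  MorphismProperty.Over.Hom.ext (pushout.condition (f := g.left) (g := g.left))

lemma cover (x : (WW g).left) :
    x ∈ Set.range (i₁ g).left ∨ x ∈ Set.range (i₂ g).left := by
  obtain ⟨i, xi, h⟩ := Scheme.IsLocallyDirected.ι_jointly_surjective (span g.left g.left) x
  rcases i with _ | _ | _
  · left
    refine ⟨g.left xi, ?_⟩
    rw [← h]
    have h1 : colimit.ι (span g.left g.left) WalkingSpan.zero =
        g.left ≫ pushout.inl g.left g.left :=
      (colimit.w (span g.left g.left) WalkingSpan.Hom.fst).symm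
    rw [h1]
    rfl
  · left; exact ⟨xi, h⟩
  · right; exact ⟨xi, h⟩

lemma range_sub_of_eq {T : Scheme.{u}} (a b : T ⟶ U.left)
    (h : a ≫ pushout.inl g.left g.left = b ≫ pushout.inr g.left g.left) :
    Set.range a ⊆ Set.range g.left ∧ Set.range b ⊆ Set.range g.left := by
  have key : ∀ t : T, ∃ z : V.left, g.left z = a t ∧ g.left z = b t := by
    intro t
    have h1 : colimit.ι (span g.left g.left) WalkingSpan.left (a t) =
        colimit.ι (span g.left g.left) WalkingSpan.right (b t) := by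
      have := congrArg (fun k : T ⟶ PP g => k t) h
      exact this
    obtain ⟨k, fi, fj, x, hx1, hx2⟩ :=
      (Scheme.IsLocallyDirected.ι_eq_ι_iff (span g.left g.left)).1 h1
    rcases k with _ | _ | _
    · obtain rfl : fi = WalkingSpan.Hom.fst := Subsingleton.elim _ _
      obtain rfl : fj = WalkingSpan.Hom.snd := Subsingleton.elim _ _
      exact ⟨x, hx1, hx2⟩
    · exact (by cases (show WidePushoutShape.Hom _ _ from fj))
    · exact (by cases (show WidePushoutShape.Hom _ _ from fi))
  constructor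
  · rintro _ ⟨t, rfl⟩
    obtain ⟨z, hz, -⟩ := key t
    exact ⟨z, hz⟩
  · rintro _ ⟨t, rfl⟩
    obtain ⟨z, -, hz⟩ := key t
    exact ⟨z, hz⟩

lemma exists_lift {T : X.Etale} (a b : T ⟶ U) (h : a ≫ i₁ g = b ≫ i₂ g) :
    ∃ c : T ⟶ V, c ≫ g = a ∧ c ≫ g = b := by
  have h' : a.left ≫ pushout.inl g.left g.left = b.left ≫ pushout.inr g.left g.left :=
    congrArg (fun k => k.left) h
  obtain ⟨ha, hb⟩ := range_sub_of_eq g a.left b.left h'
  let ca : T.left ⟶ V.left := IsOpenImmersion.lift g.left a.left ha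
  let cb : T.left ⟶ V.left := IsOpenImmersion.lift g.left b.left hb
  have hca : ca ≫ g.left = a.left := IsOpenImmersion.lift_fac _ _ _
  have hcb : cb ≫ g.left = b.left := IsOpenImmersion.lift_fac _ _ _
  have hcab : ca = cb := by
    haveI : Mono (g.left ≫ pushout.inl g.left g.left) := inferInstance
    rw [← cancel_mono (g.left ≫ pushout.inl g.left g.left)]
    calc ca ≫ g.left ≫ pushout.inl g.left g.left
        = a.left ≫ pushout.inl g.left g.left := by rw [← Category.assoc, hca]
      _ = b.left ≫ pushout.inr g.left g.left := h'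
      _ = cb ≫ g.left ≫ pushout.inr g.left g.left := by rw [← Category.assoc, hcb]
      _ = cb ≫ g.left ≫ pushout.inl g.left g.left := by rw [pushout.condition]
  have hw : ca ≫ V.hom = T.hom := by
    have e1 : g.left ≫ U.hom = V.hom := MorphismProperty.Over.w g
    have e2 : a.left ≫ U.hom = T.hom := MorphismProperty.Over.w a
    rw [← e1, ← Category.assoc, hca, e2]
  refine ⟨MorphismProperty.Over.homMk ca hw trivial, ?_, ?_⟩
  · exact MorphismProperty.Over.Hom.ext hca
  · refine MorphismProperty.Over.Hom.ext ?_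
    change ca ≫ g.left = b.left
    rw [hcab]; exact hcb

instance : Mono (i₁ g) := by
  constructor
  intro T a b h
  apply MorphismProperty.Over.Hom.ext
  have h' : a.left ≫ pushout.inl g.left g.left = b.left ≫ pushout.inl g.left g.left :=
    congrArg (fun k => k.left) h
  exact (cancel_mono _).1 h'

instance : Mono (i₂ g) := by
  constructor
  intro T a b h
  apply MorphismProperty.Over.Hom.ext
  have h' : a.left ≫ pushout.inr g.left g.left = b.left ≫ pushout.inr g.left g.left :=
    congrArg (fun k => k.left) h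
  exact (cancel_mono _).1 h'

end PartA


section Main
variable {X : Scheme.{u}}

lemma nat_apply {A B : EtCoh.Ab X} (φ : A ⟶ B) {T T' : X.Etale} (f : T' ⟶ T) (x : A.obj.obj (op T)) :
    (φ.hom.app (op T')).hom ((A.obj.map f.op).hom x) = (B.obj.map f.op).hom ((φ.hom.app (op T)).hom x) := by
  have h := φ.hom.naturality f.op
  exact congrArg (fun k => k.hom x) h

lemma map_comp_apply (A : EtCoh.Ab X) {T T' T'' : X.Etale} (f : T' ⟶ T) (f' : T'' ⟶ T')
    (x : A.obj.obj (op T)) :
    (A.obj.map (f' ≫ f).op).hom x = (A.obj.map f'.op).hom ((A.obj.map f.op).hom x) := by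
  rw [op_comp, A.obj.map_comp]; rfl

theorem glue_sections {U V : X.Etale} (g : V ⟶ U) [IsOpenImmersion g.left] (G : EtCoh.Ab X)
    (x₁ x₂ : G.obj.obj (op U)) (h : (G.obj.map g.op).hom x₁ = (G.obj.map g.op).hom x₂) :
    ∃ y : G.obj.obj (op (WW g)),
      (G.obj.map (i₁ g).op).hom y = x₁ ∧ (G.obj.map (i₂ g).op).hom y = x₂ := by
  have hcov : ⋃ b : Bool, Set.range ((fun b : Bool => cond b (i₁ g) (i₂ g)) b).left = Set.univ := by
    ext x
    simp only [Set.mem_iUnion, Set.mem_univ, iff_true]
    rcases cover g x with hx | hx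
    · exact ⟨true, hx⟩
    · exact ⟨false, hx⟩
  have key : ∀ (T : X.Etale) (a b : T ⟶ U), a ≫ i₁ g = b ≫ i₂ g →
      (G.obj.map a.op).hom x₁ = (G.obj.map b.op).hom x₂ := by
    intro T a b hab
    obtain ⟨c, hc1, hc2⟩ := exists_lift g a b hab
    have e1 : (G.obj.map a.op).hom x₁ = (G.obj.map c.op).hom ((G.obj.map g.op).hom x₁) := by
      rw [← hc1, op_comp, G.obj.map_comp]; rfl
    have e2 : (G.obj.map b.op).hom x₂ = (G.obj.map c.op).hom ((G.obj.map g.op).hom x₂) := by
      rw [← hc2, op_comp, G.obj.map_comp]; rfl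
    rw [e1, e2, h]
  obtain ⟨y, hy⟩ := Groth.Agent.H4.GlueSec.exists_glue G (U := WW g) (fun _ : Bool => U)
    (fun b : Bool => cond b (i₁ g) (i₂ g)) hcov (fun b : Bool => cond b x₁ x₂) (by
      intro i j T gi gj hij
      cases i <;> cases j
      · have : gi = gj := (cancel_mono (i₂ g)).1 hij
        rw [this]
      · exact (key T gj gi hij.symm).symm
      · exact key T gi gj hij
      · have : gi = gj := (cancel_mono (i₁ g)).1 hij
        rw [this])
  exact ⟨y, hy true, hy false⟩

/-- If `F` is acyclic on every étale `X`-scheme then `F(U) → F(V)` is onto for every open immersion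
`V ⟶ U` of étale `X`-schemes. -/
theorem main (F : EtCoh.Ab X)
    (hF : ∀ (W : X.Etale), Subsingleton (EtCoh.H W.left ((EtCoh.pull W.hom).obj F) 1))
    {U V : X.Etale} (g : V ⟶ U) [IsOpenImmersion g.left] :
    Function.Surjective (F.obj.map g.op).hom := by
  intro s
  -- injective embedding
  let I := Injective.under F
  let ι : F ⟶ I := Injective.ι F
  let S : ShortComplex (EtCoh.Ab X) := ShortComplex.mk ι (cokernel.π ι) (cokernel.condition ι)
  have hS : S.ShortExact :=
    { exact := ShortComplex.exact_of_g_is_cokernel _ (cokernelIsCokernel ι)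
      mono_f := inferInstanceAs (Mono ι)
      epi_g := inferInstanceAs (Epi (cokernel.π ι)) }
  haveI hIp : Injective ((sheafToPresheaf X.smallEtaleTopology AddCommGrpCat.{u + 1}).obj I) :=
    Injective.injective_of_adjoint
      (sheafificationAdjunction X.smallEtaleTopology AddCommGrpCat.{u + 1}) _
  haveI : Mono g := by
    constructor
    intro T a b h
    apply MorphismProperty.Over.Hom.ext
    have h' : a.left ≫ g.left = b.left ≫ g.left := congrArg (fun k => k.left) h
    exact (cancel_mono _).1 h'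
  obtain ⟨t, ht'⟩ : ∃ t : S.X₂.obj.obj (op U),
      (S.X₂.obj.map g.op).hom t = (S.f.hom.app (op V)).hom s :=
    surjective_map_of_injective_of_mono.{u + 1}
      ((sheafToPresheaf X.smallEtaleTopology AddCommGrpCat.{u + 1}).obj I) g
      ((S.f.hom.app (op V)).hom s)
  have hfg : ∀ (T : X.Etale) (x : S.X₁.obj.obj (op T)),
      (S.g.hom.app (op T)).hom ((S.f.hom.app (op T)).hom x) = 0 := by
    intro T x
    have h := S.zero
    have h2 := congrArg (fun k : S.X₁ ⟶ S.X₃ => (k.hom.app (op T)).hom x) h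
    exact h2
  have h0 : (S.X₃.obj.map g.op).hom ((S.g.hom.app (op U)).hom t) = 0 := by
    rw [← nat_apply, ht', hfg]
  obtain ⟨y, hy1, hy2⟩ := glue_sections g S.X₃ ((S.g.hom.app (op U)).hom t) 0
    (by rw [h0, map_zero])
  obtain ⟨r, hr⟩ := sect_surjective_of_H1 (WW g) S hS (hF (WW g)) y
  have hr1 : (S.g.hom.app (op U)).hom ((S.X₂.obj.map (i₁ g).op).hom r - t) = 0 := by
    rw [map_sub, nat_apply, hr, hy1, sub_self]
  have hr2 : (S.g.hom.app (op U)).hom ((S.X₂.obj.map (i₂ g).op).hom r) = 0 := by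
    rw [nat_apply, hr, hy2]
  obtain ⟨a₁, ha₁⟩ := exists_of_app_g_eq_zero S hS U _ hr1
  obtain ⟨a₂, ha₂⟩ := exists_of_app_g_eq_zero S hS U _ hr2
  refine ⟨a₂ - a₁, ?_⟩
  apply app_f_injective S hS V
  rw [nat_apply, map_sub, ha₁, ha₂, ← ht']
  have e : (S.X₂.obj.map g.op).hom ((S.X₂.obj.map (i₂ g).op).hom r) =
      (S.X₂.obj.map g.op).hom ((S.X₂.obj.map (i₁ g).op).hom r) := by
    rw [← map_comp_apply, ← map_comp_apply, g_i₁]
  rw [map_sub, map_sub, e]
  abel

end Main

end Groth.Agent.H60.GlueAcyc
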