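import Mathlib
import Groth.Prelude.Def_SGA4a

set_option autoImplicit false
open CategoryTheory CategoryTheory.Limits Opposite
universe w v₁ v₂ u₁ u₂

namespace Groth.Agent.H60.GlueT

section general

variable {A : Type u₁} [Category.{v₁} A] {B : Type u₂} [Category.{v₂} B]
  {T : Type*} [Category T] (L : A ⥤ T) (R : B ⥤ T)

instance preservesLimitsOfShape_fst {J : Type*} [Category J] [HasLimitsOfShape J A]
    [HasLimitsOfShape J B] [PreservesLimitsOfShape J R] :
    PreservesLimitsOfShape J (Comma.fst L R) where
  preservesLimit :=
    preservesLimit_of_preserves_limit_cone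
      (Comma.coneOfPreservesIsLimit _ (limit.isLimit _) (limit.isLimit _))
      (limit.isLimit _)

instance preservesLimitsOfShape_snd {J : Type*} [Category J] [HasLimitsOfShape J A]
    [HasLimitsOfShape J B] [PreservesLimitsOfShape J R] :
    PreservesLimitsOfShape J (Comma.snd L R) where
  preservesLimit :=
    preservesLimit_of_preserves_limit_cone
      (Comma.coneOfPreservesIsLimit _ (limit.isLimit _) (limit.isLimit _))
      (limit.isLimit _)

variable {L R}

lemma isIso_of_left_right {X Y : Comma L R} (f : X ⟶ Y) [IsIso f.left] [IsIso f.right] :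
    IsIso f := by
  refine ⟨⟨{ left := inv f.left, right := inv f.right, w := ?_ }, ?_, ?_⟩⟩
  · rw [Functor.map_inv, Functor.map_inv, IsIso.inv_comp_eq, ← Category.assoc, IsIso.eq_comp_inv]
    exact f.w.symm
  · ext <;> simp
  · ext <;> simp

lemma mono_of_left_right {X Y : Comma L R} (f : X ⟶ Y) [Mono f.left] [Mono f.right] :
    Mono f := by
  constructor
  intro Z g h e
  ext
  · rw [← cancel_mono f.left]
    exact congrArg CommaMorphism.left e
  · rw [← cancel_mono f.right]
    exact congrArg CommaMorphism.right e

end general

section id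

variable {A : Type u₁} [Category.{v₁} A] {B : Type u₂} [Category.{v₂} B] (R : B ⥤ A)

/-- an object of the glued category with initial components is initial -/
def isInitialOfLeftRight (Z : Comma (𝟭 A) R) (h₁ : IsInitial Z.left) (h₂ : IsInitial Z.right) :
    IsInitial Z :=
  IsInitial.ofUniqueHom
    (fun Y => { left := h₁.to Y.left, right := h₂.to Y.right, w := h₁.hom_ext _ _ })
    (fun Y m => by
      ext
      · exact h₁.hom_ext _ _
      · exact h₂.hom_ext _ _)

end id

end Groth.Agent.H60.GlueT
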