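import Mathlib
import Groth.Prelude.Def_SGA4a

set_option autoImplicit false
open CategoryTheory CategoryTheory.Limits Opposite
universe w v₁ v₂ u₁ u₂

namespace Groth.Agent.H60.GlueT

section equivrel

variable {E : Type u₁} [Category.{v₁} E] [HasPullbacks E] [HasBinaryProducts E]

/-- internal description of equivalence relations -/
theorem isEquivRel_iff {R A : E} (p₁ p₂ : R ⟶ A) :
    SGA4.IsEquivRel p₁ p₂ ↔ Mono (prod.lift p₁ p₂) ∧
      (∃ r : A ⟶ R, r ≫ p₁ = 𝟙 A ∧ r ≫ p₂ = 𝟙 A) ∧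
      (∃ s : R ⟶ R, s ≫ p₁ = p₂ ∧ s ≫ p₂ = p₁) ∧
      (∃ (P : E) (a b : P ⟶ R), IsPullback a b p₂ p₁ ∧
        ∃ t : P ⟶ R, t ≫ p₁ = a ≫ p₁ ∧ t ≫ p₂ = b ≫ p₂) := by
  constructor
  · intro hR
    refine ⟨⟨fun {T} f g h => ?_⟩, ?_, ?_, ?_⟩
    · apply (hR T).1
      simp only [Prod.mk.injEq]
      constructor
      · have := congrArg (fun x => x ≫ prod.fst) h
        simp only [Category.assoc, prod.lift_fst] at this
        exact this
      · have := congrArg (fun x => x ≫ prod.snd) h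
        simp only [Category.assoc, prod.lift_snd] at this
        exact this
    · exact (hR A).2.refl (𝟙 A)
    · exact (hR R).2.symm ⟨𝟙 R, Category.id_comp _, Category.id_comp _⟩
    · refine ⟨pullback p₂ p₁, pullback.fst p₂ p₁, pullback.snd p₂ p₁,
        IsPullback.of_hasPullback p₂ p₁, ?_⟩
      have h1 : ∃ f : pullback p₂ p₁ ⟶ R, f ≫ p₁ = pullback.fst p₂ p₁ ≫ p₁ ∧
          f ≫ p₂ = pullback.fst p₂ p₁ ≫ p₂ := ⟨_, rfl, rfl⟩
      have h2 : ∃ f : pullback p₂ p₁ ⟶ R, f ≫ p₁ = pullback.fst p₂ p₁ ≫ p₂ ∧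
          f ≫ p₂ = pullback.snd p₂ p₁ ≫ p₂ := ⟨pullback.snd p₂ p₁, pullback.condition.symm, rfl⟩
      exact (hR (pullback p₂ p₁)).2.trans h1 h2
  · rintro ⟨hm, ⟨r, hr1, hr2⟩, ⟨s, hs1, hs2⟩, ⟨P, a, b, hP, t, ht1, ht2⟩⟩ T
    constructor
    · intro f g h
      simp only [Prod.mk.injEq] at h
      rw [← cancel_mono (prod.lift p₁ p₂)]
      apply prod.hom_ext
      · rw [Category.assoc, Category.assoc, prod.lift_fst]
        exact h.1
      · rw [Category.assoc, Category.assoc, prod.lift_snd]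
        exact h.2
    · constructor
      · intro x
        exact ⟨x ≫ r, by rw [Category.assoc, hr1, Category.comp_id],
          by rw [Category.assoc, hr2, Category.comp_id]⟩
      · rintro x y ⟨f, rfl, rfl⟩
        exact ⟨f ≫ s, by rw [Category.assoc, hs1], by rw [Category.assoc, hs2]⟩
      · rintro x y z ⟨f, rfl, hf⟩ ⟨g, hg, rfl⟩
        have e : f ≫ p₂ = g ≫ p₁ := hf.trans hg.symm
        refine ⟨hP.lift f g e ≫ t, ?_, ?_⟩
        · rw [Category.assoc, ht1, ← Category.assoc, hP.lift_fst]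
        · rw [Category.assoc, ht2, ← Category.assoc, hP.lift_snd]

variable {E' : Type u₂} [Category.{v₂} E'] [HasPullbacks E'] [HasBinaryProducts E']

/-- left exact functors preserve equivalence relations -/
theorem isEquivRel_map (F : E ⥤ E') [PreservesLimitsOfShape WalkingCospan F]
    [PreservesLimitsOfShape (Discrete WalkingPair) F] {R A : E} {p₁ p₂ : R ⟶ A}
    (hR : SGA4.IsEquivRel p₁ p₂) : SGA4.IsEquivRel (F.map p₁) (F.map p₂) := by
  rw [isEquivRel_iff] at hR ⊢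
  obtain ⟨hm, ⟨r, hr1, hr2⟩, ⟨s, hs1, hs2⟩, ⟨P, a, b, hP, t, ht1, ht2⟩⟩ := hR
  refine ⟨?_, ⟨F.map r, ?_, ?_⟩, ⟨F.map s, ?_, ?_⟩, ⟨F.obj P, F.map a, F.map b, hP.map F,
    F.map t, ?_, ?_⟩⟩
  · have e : prod.lift (F.map p₁) (F.map p₂) = F.map (prod.lift p₁ p₂) ≫ prodComparison F A A := by
      apply prod.hom_ext
      · rw [Category.assoc, prodComparison_fst, ← F.map_comp, prod.lift_fst, prod.lift_fst]
      · rw [Category.assoc, prodComparison_snd, ← F.map_comp, prod.lift_snd, prod.lift_snd]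
    rw [e]
    infer_instance
  · rw [← F.map_comp, hr1, F.map_id]
  · rw [← F.map_comp, hr2, F.map_id]
  · rw [← F.map_comp, hs1]
  · rw [← F.map_comp, hs2]
  · rw [← F.map_comp, ht1, F.map_comp]
  · rw [← F.map_comp, ht2, F.map_comp]

end equivrel

end Groth.Agent.H60.GlueT
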