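import Mathlib
import Groth.Prelude.Def_SGA4a
import Groth.Agent.H60.GlueT1
import Groth.Agent.H60.GlueT2

set_option autoImplicit false
open CategoryTheory CategoryTheory.Limits Opposite
universe w v₁ v₂ v₃ u₁ u₂ u₃

namespace Groth.Agent.H60.GlueT

section general

variable {A : Type u₁} [Category.{v₁} A] {B : Type u₂} [Category.{v₂} B]
  {T : Type u₃} [Category.{v₃} T] {L : A ⥤ T} {R : B ⥤ T}

lemma isPullback_of_left_right {P X Y Z : Comma L R} {f₁ : P ⟶ X} {f₂ : P ⟶ Y} {g₁ : X ⟶ Z}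
    {g₂ : Y ⟶ Z} [PreservesLimitsOfShape WalkingCospan R]
    (h₁ : IsPullback f₁.left f₂.left g₁.left g₂.left)
    (h₂ : IsPullback f₁.right f₂.right g₁.right g₂.right) :
    IsPullback f₁ f₂ g₁ g₂ := by
  have comm : f₁ ≫ g₁ = f₂ ≫ g₂ := by
    ext
    · exact h₁.w
    · exact h₂.w
  refine ⟨⟨comm⟩, ⟨Comma.fstSndJointlyReflectLimit ?_ ?_⟩⟩
  · exact (isLimitMapConePullbackConeEquiv (Comma.fst L R) comm).symm h₁.isLimit
  · exact (isLimitMapConePullbackConeEquiv (Comma.snd L R) comm).symm h₂.isLimit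

lemma isPushout_of_left_right {P X Y Z : Comma L R} {f₁ : P ⟶ X} {f₂ : P ⟶ Y} {g₁ : X ⟶ Z}
    {g₂ : Y ⟶ Z} [PreservesColimitsOfShape WalkingSpan L]
    (h₁ : IsPushout f₁.left f₂.left g₁.left g₂.left)
    (h₂ : IsPushout f₁.right f₂.right g₁.right g₂.right) :
    IsPushout f₁ f₂ g₁ g₂ := by
  have comm : f₁ ≫ g₁ = f₂ ≫ g₂ := by
    ext
    · exact h₁.w
    · exact h₂.w
  refine ⟨⟨comm⟩, ⟨Comma.fstSndJointlyReflectColimit ?_ ?_⟩⟩
  · exact (isColimitMapCoconePushoutCoconeEquiv (Comma.fst L R) comm).symm h₁.isColimit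
  · exact (isColimitMapCoconePushoutCoconeEquiv (Comma.snd L R) comm).symm h₂.isColimit

lemma effectiveEpi_of_left_right [HasPullbacks A] [HasPullbacks B]
    [PreservesLimitsOfShape WalkingCospan R] [PreservesColimitsOfShape WalkingParallelPair L]
    {X Y : Comma L R} (q : X ⟶ Y)
    [EffectiveEpi q.left] [EffectiveEpi q.right] : EffectiveEpi q := by
  apply effectiveEpi_of_kernelPair
  have hP := IsPullback.of_hasPullback q q
  apply Comma.fstSndJointlyReflectColimit
  · refine (isColimitMapCoconeCoforkEquiv (Comma.fst L R) _).symm ?_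
    exact isColimitCoforkOfEffectiveEpi q.left _ (hP.map (Comma.fst L R)).isLimit
  · refine (isColimitMapCoconeCoforkEquiv (Comma.snd L R) _).symm ?_
    exact isColimitCoforkOfEffectiveEpi q.right _ (hP.map (Comma.snd L R)).isLimit

end general

end Groth.Agent.H60.GlueT
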