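import Mathlib
import Groth.Prelude.Def_SGA4a
import Groth.Agent.H60.GlueT3

set_option autoImplicit false
open CategoryTheory CategoryTheory.Limits Opposite
universe w v u

namespace Groth.Agent.H60.GlueT

section coprod

variable {A : Type v} [Category.{u} A]

lemma hasCoproductsOfShape (hb : SGA4.HasDisjointUniversalCoproducts.{v, u} A) (ι : Type u) :
    HasColimitsOfShape (Discrete ι) A := by
  constructor
  intro F
  obtain ⟨c, hc, -, -⟩ := hb ι (F.obj ∘ Discrete.mk)
  have : HasColimit (Discrete.functor (F.obj ∘ Discrete.mk)) := ⟨⟨⟨c, hc⟩⟩⟩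
  exact hasColimit_of_iso Discrete.natIsoFunctor

lemma isUniversal_discrete (hb : SGA4.HasDisjointUniversalCoproducts.{v, u} A) {ι : Type u}
    (G : Discrete ι ⥤ A) (c : Cocone G) (hc : IsColimit c) : IsUniversalColimit c := by
  obtain ⟨c₀, hc₀, -, hu⟩ := hb ι (G.obj ∘ Discrete.mk)
  let e : G ≅ Discrete.functor (G.obj ∘ Discrete.mk) := Discrete.natIsoFunctor
  have h1 : IsUniversalColimit ((Cocone.precompose e.hom).obj c₀) := hu.precompose_isIso e.hom
  exact h1.of_iso (IsColimit.uniqueUpToIso ((IsColimit.precomposeHomEquiv e c₀).symm hc₀) hc)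

end coprod

section hb

variable {A : Type v} [Category.{u} A] {B : Type v} [Category.{u} B] (R : B ⥤ A)
  [HasPullbacks A] [HasPullbacks B] [PreservesLimitsOfShape WalkingCospan R]

theorem hasDisjointUniversalCoproducts_comma
    (hbA : SGA4.HasDisjointUniversalCoproducts.{v, u} A)
    (hbB : SGA4.HasDisjointUniversalCoproducts.{v, u} B) :
    SGA4.HasDisjointUniversalCoproducts.{max v u, u} (Comma (𝟭 A) R) := by
  intro ι X
  have := hasCoproductsOfShape hbA ι
  have := hasCoproductsOfShape hbB ι
  let c : Cofan X := Cofan.mk (∐ X) (Sigma.ι X)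
  have hc : IsColimit c := coproductIsCoproduct X
  have hcA : IsColimit (Cofan.mk _ (fun i => (Sigma.ι X i).left) : Cofan fun i => (X i).left) :=
    isColimitCofanMkObjOfIsColimit (Comma.fst (𝟭 A) R) _ _ hc
  have hcB : IsColimit (Cofan.mk _ (fun i => (Sigma.ι X i).right) : Cofan fun i => (X i).right) :=
    isColimitCofanMkObjOfIsColimit (Comma.snd (𝟭 A) R) _ _ hc
  obtain ⟨_, _, hdA, _⟩ := hbA ι (fun i => (X i).left)
  obtain ⟨_, _, hdB, _⟩ := hbB ι (fun i => (X i).right)
  refine ⟨c, hc, ?_, ?_⟩
  · have hm : ∀ i, Mono (c.inj i) := fun i => by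
      have : Mono (c.inj i).left := Mono.of_coproductDisjoint hcA i
      have : Mono (c.inj i).right := Mono.of_coproductDisjoint hcB i
      exact mono_of_left_right _
    refine CoproductDisjoint.of_cofan hc (fun {i j} _ => pullback.cone (c.inj i) (c.inj j))
      (fun _ => pullback.isLimit _ _) (fun {i j} hij => ?_)
    have hP := IsPullback.of_hasPullback (c.inj i) (c.inj j)
    have h1 := hP.map (Comma.fst (𝟭 A) R)
    have h2 := hP.map (Comma.snd (𝟭 A) R)
    have i1 := (CoproductDisjoint.nonempty_isInitial_of_ne hcA hij h1.cone h1.isLimit).some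
    have i2 := (CoproductDisjoint.nonempty_isInitial_of_ne hcB hij h2.cone h2.isLimit).some
    exact isInitialOfLeftRight R _ i1 i2
  · intro F' c' α f hα _ hpb
    have u1 := isUniversal_discrete hbA _ _ (isColimitOfPreserves (Comma.fst (𝟭 A) R) hc)
    have u2 := isUniversal_discrete hbB _ _ (isColimitOfPreserves (Comma.snd (𝟭 A) R) hc)
    obtain ⟨k1⟩ := u1 ((Comma.fst (𝟭 A) R).mapCocone c') (Functor.whiskerRight α _)
      ((Comma.fst (𝟭 A) R).map f)
      (by ext j; exact congrArg CommaMorphism.left (NatTrans.congr_app hα j))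
      (NatTrans.Equifibered.of_discrete _) (fun j => (hpb j).map (Comma.fst (𝟭 A) R))
    obtain ⟨k2⟩ := u2 ((Comma.snd (𝟭 A) R).mapCocone c') (Functor.whiskerRight α _)
      ((Comma.snd (𝟭 A) R).map f)
      (by ext j; exact congrArg CommaMorphism.right (NatTrans.congr_app hα j))
      (NatTrans.Equifibered.of_discrete _) (fun j => (hpb j).map (Comma.snd (𝟭 A) R))
    exact ⟨Comma.fstSndJointlyReflectColimit k1 k2⟩

end hb

end Groth.Agent.H60.GlueT
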