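import Mathlib
import Groth.Prelude.Def_SGA4a
import Groth.Agent.H60.GlueT4

set_option autoImplicit false
open CategoryTheory CategoryTheory.Limits Opposite
universe w v u

namespace Groth.Agent.H60.GlueT

section hc

variable {A : Type v} [Category.{u} A] {B : Type v} [Category.{u} B] (R : B ⥤ A)
  [HasPullbacks A] [HasPullbacks B] [HasBinaryProducts A] [HasBinaryProducts B]
  [PreservesLimitsOfShape WalkingCospan R] [PreservesLimitsOfShape (Discrete WalkingPair) R]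

lemma effectiveEpi_of_isPullback {X Y Z : A} {π : X ⟶ Z} {g : Y ⟶ Z}
    (h : ∀ (B' : A) (g : B' ⟶ Z), EffectiveEpi (pullback.snd π g))
    {P : A} {a : P ⟶ X} {q : P ⟶ Y} (hP : IsPullback a q π g) : EffectiveEpi q := by
  have := h Y g
  have e : q = hP.isoPullback.hom ≫ pullback.snd π g := by simp
  rw [e]
  infer_instance

theorem isEffectiveUniversalEquivRel_comma
    (hcA : ∀ (R₀ A₀ : A) (p₁ p₂ : R₀ ⟶ A₀), SGA4.IsEquivRel p₁ p₂ →
      SGA4.IsEffectiveUniversalEquivRel p₁ p₂)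
    (hcB : ∀ (R₀ A₀ : B) (p₁ p₂ : R₀ ⟶ A₀), SGA4.IsEquivRel p₁ p₂ →
      SGA4.IsEffectiveUniversalEquivRel p₁ p₂)
    (R₀ A₀ : Comma (𝟭 A) R) (p₁ p₂ : R₀ ⟶ A₀) (hR : SGA4.IsEquivRel p₁ p₂) :
    SGA4.IsEffectiveUniversalEquivRel p₁ p₂ := by
  obtain ⟨BA, πA, hpbA, hpoA, heA⟩ := hcA _ _ _ _ (isEquivRel_map (Comma.fst (𝟭 A) R) hR)
  obtain ⟨BB, πB, hpbB, hpoB, heB⟩ := hcB _ _ _ _ (isEquivRel_map (Comma.snd (𝟭 A) R) hR)
  have hw : p₁.left ≫ A₀.hom ≫ R.map πB = p₂.left ≫ A₀.hom ≫ R.map πB := by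
    have e1 : p₁.left ≫ A₀.hom = R₀.hom ≫ R.map p₁.right := p₁.w
    have e2 : p₂.left ≫ A₀.hom = R₀.hom ≫ R.map p₂.right := p₂.w
    have e3 : p₁.right ≫ πB = p₂.right ≫ πB := hpbB.w
    rw [← Category.assoc, e1, ← Category.assoc, e2, Category.assoc, Category.assoc, ← R.map_comp,
      ← R.map_comp, e3]
  let b : BA ⟶ R.obj BB := hpoA.desc (A₀.hom ≫ R.map πB) (A₀.hom ≫ R.map πB) hw
  let Bq : Comma (𝟭 A) R := { left := BA, right := BB, hom := b }
  let π : A₀ ⟶ Bq := { left := πA, right := πB, w := hpoA.inl_desc _ _ _ }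
  refine ⟨Bq, π, isPullback_of_left_right hpbA hpbB, isPushout_of_left_right hpoA hpoB, ?_⟩
  intro B' g
  have hP := IsPullback.of_hasPullback π g
  have : EffectiveEpi (pullback.snd π g).left :=
    effectiveEpi_of_isPullback heA (hP.map (Comma.fst (𝟭 A) R))
  have : EffectiveEpi (pullback.snd π g).right :=
    effectiveEpi_of_isPullback heB (hP.map (Comma.snd (𝟭 A) R))
  exact effectiveEpi_of_left_right _

end hc

end Groth.Agent.H60.GlueT
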