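import Mathlib
import Groth.Prelude.Def_SGA4a
import Groth.Agent.H60.Canon4

set_option autoImplicit false
open CategoryTheory CategoryTheory.Limits Opposite
universe w v u

namespace Groth.Agent.H60.GlueT

open Groth.Agent.H60.Canon (hat secEquiv_hat hat_secEquiv hat_comp legSieve legSieve_locSurj secSieve
  secSieve_apply LocSurj)
open Groth.Agent.H60.ER (secEquiv secEquiv_comp)

variable {C D : Type u} [SmallCategory C] [SmallCategory D] {J : GrothendieckTopology C}
  {K : GrothendieckTopology D} (ρ : Sheaf J (Type u) ⥤ Sheaf K (Type u))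

/-- the sieve on which a section of `ρ X` comes from a generator -/
def liftSieve (PP : ObjectProperty (Cᵒᵖ ⥤ Type u)) (X : Sheaf J (Type u)) (W : Dᵒᵖ)
    (s : (ρ.obj X).obj.obj W) : Sieve W.unop where
  arrows d φ := ∃ (Q : Cᵒᵖ ⥤ Type u) (_ : PP Q) (r : (presheafToSheaf J (Type u)).obj Q ⟶ X)
     (a₀ : (ρ.obj ((presheafToSheaf J (Type u)).obj Q)).obj.obj (op d)),
     (ρ.map r).hom.app (op d) a₀ = (ρ.obj X).obj.map φ.op s
  downward_closed := by
    rintro d d' φ ⟨Q, hQ, r, a₀, h⟩ ψ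
    refine ⟨Q, hQ, r, (ρ.obj _).obj.map ψ.op a₀, ?_⟩
    have h1 := ConcreteCategory.congr_hom ((ρ.map r).hom.naturality ψ.op) a₀
    have h2 : (ρ.map r).hom.app (op d') ((ρ.obj _).obj.map ψ.op a₀) =
      (ρ.obj X).obj.map ψ.op ((ρ.map r).hom.app (op d) a₀) := h1
    rw [h2, h, op_comp, Functor.map_comp_apply]

theorem liftSieve_mem (κ : Cardinal.{u}) [Fact κ.IsRegular] [ρ.IsCardinalAccessible κ]
    {PP : ObjectProperty (Cᵒᵖ ⥤ Type u)} (hPP : PP.IsCardinalFilteredGenerator κ)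
    (X : Sheaf J (Type u)) (W : Dᵒᵖ) (s : (ρ.obj X).obj.obj W) :
    liftSieve ρ PP X W s ∈ K W.unop := by
  obtain ⟨J', _, _, ⟨p⟩⟩ := hPP.exists_colimitsOfShape X.obj
  let aJ := presheafToSheaf J (Type u)
  let c₀ : Cocone p.diag := p.cocone
  have hc₀ : IsColimit c₀ := p.isColimit
  let c₁ := aJ.mapCocone c₀
  have hc₁ : IsColimit c₁ := isColimitOfPreserves aJ hc₀
  let ε := (sheafificationAdjunction J (Type u)).counit.app X
  have : IsIso ε := inferInstance
  let c₁' : Cocone (p.diag ⋙ aJ) := c₁.extend ε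
  have hc₁' : IsColimit c₁' := IsColimit.ofIsoColimit hc₁ (Cocone.extendIso c₁ (asIso ε))
  have := ρ.preservesColimitsOfShape_of_isCardinalAccessible κ J'
  have hc₂ : IsColimit (ρ.mapCocone c₁') := isColimitOfPreserves ρ hc₁'
  have hS := legSieve_locSurj hc₂ W s
  refine K.superset_covering ?_ hS
  intro d φ hφ
  rw [secSieve_apply] at hφ
  obtain ⟨k, g, hg⟩ := hφ
  refine ⟨p.diag.obj k, p.prop_diag_obj k, c₁'.ι.app k, secEquiv K (op d) _ g, ?_⟩
  rw [← secEquiv_comp]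
  have : g ≫ ρ.map (c₁'.ι.app k) = hat K (op d) ((ρ.obj X).obj.map φ.op s) := hg.symm
  rw [this, secEquiv_hat]

end Groth.Agent.H60.GlueT
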