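import Mathlib
import Groth.Prelude.Def_SGA4a
import Groth.Agent.H60.GlueT6
import Groth.Agent.H60.GlueT1

set_option autoImplicit false
open CategoryTheory CategoryTheory.Limits Opposite
universe w v u

namespace Groth.Agent.H60.GlueT

open Groth.Agent.H60.Canon (hat secEquiv_hat hat_secEquiv hat_comp)
open Groth.Agent.H60.ER (secEquiv secEquiv_comp)

variable {C D : Type u} [SmallCategory C] [SmallCategory D] {J : GrothendieckTopology C}
  {K : GrothendieckTopology D} (ρ : Sheaf J (Type u) ⥤ Sheaf K (Type u))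

lemma hat_injective {X : Sheaf J (Type u)} (W : Cᵒᵖ) {s t : X.obj.obj W}
    (h : hat J W s = hat J W t) : s = t := by
  have := congrArg (secEquiv J W X) h
  rwa [secEquiv_hat, secEquiv_hat] at this

lemma hat_map {X : Sheaf J (Type u)} {W W' : Cᵒᵖ} (φ : W ⟶ W') (s : X.obj.obj W) :
    hat J W' (X.obj.map φ s) =
      (presheafToSheaf J (Type u)).map (yoneda.map φ.unop) ≫ hat J W s :=
  (Groth.Agent.H60.Canon.map_hat φ s).symm

lemma isIso_of_bijective {X Y : Sheaf J (Type u)} (f : X ⟶ Y)
    (h : ∀ W, Function.Bijective (f.hom.app W)) : IsIso f := by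
  have : ∀ W, IsIso (f.hom.app W) := fun W => (isIso_iff_bijective _).2 (h W)
  have : IsIso f.hom := NatIso.isIso_of_isIso_app _
  have : IsIso ((sheafToPresheaf J (Type u)).map f) := this
  exact isIso_of_fully_faithful (sheafToPresheaf J (Type u)) f

lemma hasInitial_sheaf : HasInitial (Sheaf K (Type u)) := by
  have : HasFiniteColimits (Sheaf K (Type u)) := inferInstance
  exact hasColimitsOfShape_of_hasFiniteColimits (Sheaf K (Type u)) (Discrete PEmpty.{1})

attribute [local instance] hasInitial_sheaf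

/-- generators of the first kind -/
noncomputable def gen₁ (c : C) : Comma (𝟭 (Sheaf K (Type u))) ρ where
  left := ⊥_ _
  right := (presheafToSheaf J (Type u)).obj (yoneda.obj c)
  hom := initial.to _

/-- generators of the second kind -/
noncomputable def gen₂ (PP : ObjectProperty (Cᵒᵖ ⥤ Type u))
    (t : Σ (Q : Subtype PP) (d : D), (ρ.obj ((presheafToSheaf J (Type u)).obj Q.1)).obj.obj (op d)) :
    Comma (𝟭 (Sheaf K (Type u))) ρ where
  left := (presheafToSheaf K (Type u)).obj (yoneda.obj t.2.1)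
  right := (presheafToSheaf J (Type u)).obj t.1.1
  hom := hat K (op t.2.1) t.2.2

/-- the generating family -/
def genProp (PP : ObjectProperty (Cᵒᵖ ⥤ Type u)) :
    ObjectProperty (Comma (𝟭 (Sheaf K (Type u))) ρ) :=
  ObjectProperty.ofObj (gen₁ ρ) ⊔ ObjectProperty.ofObj (gen₂ ρ PP)

instance (PP : ObjectProperty (Cᵒᵖ ⥤ Type u)) [ObjectProperty.Small.{u} PP] :
    ObjectProperty.Small.{u} (genProp ρ PP) := by
  unfold genProp
  infer_instance

end Groth.Agent.H60.GlueT

namespace Groth.Agent.H60.GlueT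

open Groth.Agent.H60.Canon (hat secEquiv_hat hat_secEquiv hat_comp)
open Groth.Agent.H60.ER (secEquiv secEquiv_comp)

variable {C D : Type u} [SmallCategory C] [SmallCategory D] {J : GrothendieckTopology C}
  {K : GrothendieckTopology D} (ρ : Sheaf J (Type u) ⥤ Sheaf K (Type u))

attribute [local instance] hasInitial_sheaf

lemma nat_apply {X Y : Sheaf J (Type u)} (p : X ⟶ Y) {W W' : Cᵒᵖ} (ψ : W ⟶ W') (s : X.obj.obj W) :
    p.hom.app W' (X.obj.map ψ s) = Y.obj.map ψ (p.hom.app W s) :=
  ConcreteCategory.congr_hom (p.hom.naturality ψ) s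

lemma comp_apply' {X Y Z : Sheaf J (Type u)} (p : X ⟶ Y) (q : Y ⟶ Z) (W : Cᵒᵖ) (s : X.obj.obj W) :
    (p ≫ q).hom.app W s = q.hom.app W (p.hom.app W s) := rfl

lemma bijective_of_isIso {X Y : Sheaf J (Type u)} (f : X ⟶ Y) [IsIso f] (W : Cᵒᵖ) :
    Function.Bijective (f.hom.app W) := by
  have : IsIso ((sheafToPresheaf J (Type u)).map f) := inferInstance
  have : IsIso f.hom := this
  have : IsIso (f.hom.app W) := inferInstance
  exact (isIso_iff_bijective _).1 this

lemma comm_apply {X Y : Comma (𝟭 (Sheaf K (Type u))) ρ} (f : X ⟶ Y) (W : Dᵒᵖ)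
    (y : X.left.obj.obj W) :
    Y.hom.hom.app W (f.left.hom.app W y) = (ρ.map f.right).hom.app W (X.hom.hom.app W y) := by
  have := f.w
  exact ConcreteCategory.congr_hom (NatTrans.congr_app (congrArg InducedCategory.Hom.hom this) W) y

theorem isDetecting_genProp (κ : Cardinal.{u}) [Fact κ.IsRegular] [ρ.IsCardinalAccessible κ]
    {PP : ObjectProperty (Cᵒᵖ ⥤ Type u)} (hPP : PP.IsCardinalFilteredGenerator κ) :
    (genProp ρ PP).IsDetecting := by
  intro X Y f hf
  have h1 : ∀ (c : C) (h : gen₁ ρ c ⟶ Y), ∃! h' : gen₁ ρ c ⟶ X, h' ≫ f = h :=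
    fun c h => hf _ (Or.inl (ObjectProperty.ofObj_apply _ c)) h
  have h2 : ∀ t (h : gen₂ ρ PP t ⟶ Y), ∃! h' : gen₂ ρ PP t ⟶ X, h' ≫ f = h :=
    fun t h => hf _ (Or.inr (ObjectProperty.ofObj_apply _ t)) h
  have hr : IsIso f.right := by
    apply isIso_of_bijective
    intro W
    constructor
    · intro t₁ t₂ e
      let m : ∀ (t : X.right.obj.obj W), gen₁ ρ W.unop ⟶ X := fun t =>
        { left := initial.to _, right := hat J W t, w := initial.hom_ext _ _ }
      have hm : m t₁ ≫ f = m t₂ ≫ f := by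
        ext1
        · exact initial.hom_ext _ _
        · show hat J W t₁ ≫ f.right = hat J W t₂ ≫ f.right
          rw [hat_comp, hat_comp, e]
      have := (h1 _ (m t₁ ≫ f)).unique rfl hm.symm
      exact hat_injective W (congrArg CommaMorphism.right this)
    · intro t
      let h : gen₁ ρ W.unop ⟶ Y :=
        { left := initial.to _, right := hat J W t, w := initial.hom_ext _ _ }
      obtain ⟨h', hh', -⟩ := h1 _ h
      let r' : (presheafToSheaf J (Type u)).obj (yoneda.obj W.unop) ⟶ X.right := h'.right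
      have e1 : r' ≫ f.right = hat J W t := congrArg CommaMorphism.right hh'
      refine ⟨secEquiv J W _ r', ?_⟩
      have e2 := secEquiv_comp (J := J) W r' f.right
      rw [e1, secEquiv_hat] at e2
      exact e2.symm
  have hρ : ∀ W, Function.Bijective ((ρ.map f.right).hom.app W) :=
    fun W => bijective_of_isIso _ W
  have hinj : ∀ (W : Dᵒᵖ), Function.Injective (f.left.hom.app W) := by
    intro W y₁ y₂ e
    have ea : X.hom.hom.app W y₂ = X.hom.hom.app W y₁ := by
      apply (hρ W).1
      rw [← comm_apply, ← comm_apply, e]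
    have hT := liftSieve_mem ρ κ hPP X.right W (X.hom.hom.app W y₁)
    refine (((isSheaf_iff_isSheaf_of_type _ _).1 X.left.2).isSeparated _ hT).ext ?_
    rintro d φ ⟨Q, hQ, r, a₀, hr'⟩
    let t : Σ (Q : Subtype PP) (d : D),
      (ρ.obj ((presheafToSheaf J (Type u)).obj Q.1)).obj.obj (op d) := ⟨⟨Q, hQ⟩, d, a₀⟩
    have hw : ∀ y, X.hom.hom.app W y = X.hom.hom.app W y₁ →
        hat K (op d) (X.left.obj.map φ.op y) ≫ X.hom = hat K (op d) a₀ ≫ ρ.map r := by
      intro y hy
      rw [hat_comp, hat_comp, hr', nat_apply, hy]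
    let m₁ : gen₂ ρ PP t ⟶ X :=
      { left := hat K (op d) (X.left.obj.map φ.op y₁), right := r, w := hw y₁ rfl }
    let m₂ : gen₂ ρ PP t ⟶ X :=
      { left := hat K (op d) (X.left.obj.map φ.op y₂), right := r, w := hw y₂ ea }
    have hm : m₁ ≫ f = m₂ ≫ f := by
      ext1
      · show hat K (op d) (X.left.obj.map φ.op y₁) ≫ f.left =
          hat K (op d) (X.left.obj.map φ.op y₂) ≫ f.left
        rw [hat_comp, hat_comp, nat_apply, nat_apply, e]
      · rfl
    have := (h2 _ (m₁ ≫ f)).unique rfl hm.symm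
    exact hat_injective _ (congrArg CommaMorphism.left this)
  have hsurj : Sheaf.IsLocallySurjective f.left := by
    refine ⟨fun {U} y' => ?_⟩
    obtain ⟨a, ha⟩ := (hρ (op U)).2 (Y.hom.hom.app (op U) y')
    have hT := liftSieve_mem ρ κ hPP X.right (op U) a
    refine K.superset_covering ?_ hT
    rintro d φ ⟨Q, hQ, r, a₀, hr'⟩
    let t : Σ (Q : Subtype PP) (d : D),
      (ρ.obj ((presheafToSheaf J (Type u)).obj Q.1)).obj.obj (op d) := ⟨⟨Q, hQ⟩, d, a₀⟩
    let h : gen₂ ρ PP t ⟶ Y :=
      { left := hat K (op d) (Y.left.obj.map φ.op y')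
        right := r ≫ f.right
        w := by
          show hat K (op d) (Y.left.obj.map φ.op y') ≫ Y.hom =
            hat K (op d) a₀ ≫ ρ.map (r ≫ f.right)
          rw [hat_comp, hat_comp, ρ.map_comp, comp_apply', hr', nat_apply, nat_apply, ha] }
    obtain ⟨h', hh', -⟩ := h2 t h
    let l' : (presheafToSheaf K (Type u)).obj (yoneda.obj d) ⟶ X.left := h'.left
    refine ⟨secEquiv K (op d) _ l', ?_⟩
    have e1 : l' ≫ f.left = hat K (op d) (Y.left.obj.map φ.op y') :=
      congrArg CommaMorphism.left hh'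
    have e2 := secEquiv_comp (J := K) (op d) l' f.left
    rw [e1, secEquiv_hat] at e2
    exact e2.symm
  have hl : IsIso f.left := by
    have : Mono f.left := Sheaf.mono_of_injective _ hinj
    have : Epi f.left := by
      rw [← Sheaf.isLocallySurjective_iff_epi]
      exact hsurj
    exact isIso_of_mono_of_epi _
  exact isIso_of_left_right f

end Groth.Agent.H60.GlueT
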