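import Groth.Agent.H60.SheafComposeColim
import Groth.Agent.H28.ToposFilt
import Groth.Agent.H31.LocTriv

open CategoryTheory Limits Opposite Abelian

universe u

namespace Groth.Agent.H60.HomColim

open Groth.Agent.H31.SieveExt Groth.Agent.H31.LocTriv Groth.Agent.H28 ToposFin

variable {C : Type u} [SmallCategory C] {J : GrothendieckTopology C}
  {Λ : Type u} [SmallCategory Λ] [IsFiltered Λ] {D : Λ ⥤ Sheaf J AddCommGrpCat.{u}}
  {c : Cocone D} (hc : IsColimit c) {K : Sh J} (hK : IsFP K)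

include hc hK in
/-- every map `ℤ[K] ⟶ colim D` factors through a stage, for `K` finitely presented. -/
lemma hom_surj (φ : Zs J K.obj ⟶ c.pt) :
    ∃ (i : Λ) (φi : Zs J K.obj ⟶ D.obj i), φi ≫ c.ι.app i = φ := by
  let D' : Λ ⥤ Sh J := D ⋙ sheafCompose J (forget AddCommGrpCat.{u})
  let c' : Cocone D' := (sheafCompose J (forget AddCommGrpCat.{u})).mapCocone c
  have hc' : IsColimit c' := isColimitOfPreserves _ hc
  let e : colimit D' ≅ c'.pt := colimit.isoColimitCocone ⟨c', hc'⟩
  have he : ∀ i, colimit.ι D' i ≫ e.hom = c'.ι.app i := fun i =>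
    colimit.isoColimitCocone_ι_hom ⟨c', hc'⟩ i
  obtain ⟨i, f, hf⟩ := (post_surjective_iff D' K).1 (hK Λ D').2 (homEquivS K c.pt φ ≫ e.inv)
  refine ⟨i, (homEquivS K (D.obj i)).symm f, ?_⟩
  apply (homEquivS K c.pt).injective
  rw [homEquivS_naturality_right, Equiv.apply_symm_apply]
  have h1 : f ≫ c'.ι.app i = homEquivS K c.pt φ := by
    rw [← he i, ← Category.assoc, hf, Category.assoc, e.inv_hom_id]
    exact Category.comp_id _
  exact h1

include hc hK in
/-- a map `ℤ[K] ⟶ D_i` vanishing in `colim D` vanishes at a later stage, for `K` finitely presented. -/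
lemma hom_inj {i : Λ} (φi : Zs J K.obj ⟶ D.obj i) (h : φi ≫ c.ι.app i = 0) :
    ∃ (j : Λ) (f : i ⟶ j), φi ≫ D.map f = 0 := by
  let D' : Λ ⥤ Sh J := D ⋙ sheafCompose J (forget AddCommGrpCat.{u})
  let c' : Cocone D' := (sheafCompose J (forget AddCommGrpCat.{u})).mapCocone c
  have hc' : IsColimit c' := isColimitOfPreserves _ hc
  let e : colimit D' ≅ c'.pt := colimit.isoColimitCocone ⟨c', hc'⟩
  have he : ∀ i, colimit.ι D' i ≫ e.hom = c'.ι.app i := fun i =>
    colimit.isoColimitCocone_ι_hom ⟨c', hc'⟩ i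
  have h1 : homEquivS K (D.obj i) φi ≫ c'.ι.app i =
      homEquivS K (D.obj i) 0 ≫ c'.ι.app i := by
    show homEquivS K (D.obj i) φi ≫ (sheafCompose J (forget AddCommGrpCat.{u})).map (c.ι.app i) =
      homEquivS K (D.obj i) 0 ≫ (sheafCompose J (forget AddCommGrpCat.{u})).map (c.ι.app i)
    rw [← homEquivS_naturality_right, ← homEquivS_naturality_right, h, zero_comp]
  have h2 : homEquivS K (D.obj i) φi ≫ colimit.ι D' i =
      homEquivS K (D.obj i) 0 ≫ colimit.ι D' i := by
    rw [← cancel_mono e.hom, Category.assoc, Category.assoc, he, h1]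
  obtain ⟨k, a, b, hk⟩ := (post_injective_iff D' K).1 (hK Λ D').1 i i _ _ h2
  refine ⟨k, a, ?_⟩
  apply (homEquivS K (D.obj k)).injective
  rw [homEquivS_naturality_right]
  refine hk.trans ?_
  show homEquivS K (D.obj i) 0 ≫ (sheafCompose J (forget AddCommGrpCat.{u})).map (D.map b) = _
  rw [← homEquivS_naturality_right, zero_comp]

end Groth.Agent.H60.HomColim
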