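import Groth.Agent.H60.SRCov

set_option autoImplicit false
open CategoryTheory CategoryTheory.Limits Opposite
universe u

namespace Groth.Agent.H60.HyperPB

section abstract

variable {𝒞 : Type*} [Category 𝒞] [HasPullbacks 𝒞] (Cov : MorphismProperty 𝒞)

include Cov in
theorem key
    (hcomp : ∀ {A B C : 𝒞} (f : A ⟶ B) (g : B ⟶ C), Cov f → Cov g → Cov (f ≫ g))
    (hbc : ∀ {P A B C : 𝒞} {fst : P ⟶ A} {snd : P ⟶ B} {g : A ⟶ C} {f : B ⟶ C},
      IsPullback fst snd g f → Cov f → Cov fst)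
    {K1 L1 M1 P1 cK cL cM cP : 𝒞} (a1 : K1 ⟶ L1) (b1 : M1 ⟶ L1) (p1 : P1 ⟶ K1) (p2 : P1 ⟶ M1)
    (ca : cK ⟶ cL) (cb : cM ⟶ cL) (cp1 : cP ⟶ cK) (cp2 : cP ⟶ cM)
    (uK : K1 ⟶ cK) (uL : L1 ⟶ cL) (uM : M1 ⟶ cM) (uP : P1 ⟶ cP)
    (hP : IsPullback p1 p2 a1 b1) (hcP : IsPullback cp1 cp2 ca cb)
    (nK : a1 ≫ uL = uK ≫ ca) (nM : b1 ≫ uL = uM ≫ cb)
    (nP1 : uP ≫ cp1 = p1 ≫ uK) (nP2 : uP ≫ cp2 = p2 ≫ uM)
    (hK : Cov uK)
    (hγ : ∀ (γ : M1 ⟶ pullback uL cb), γ ≫ pullback.fst uL cb = b1 →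
      γ ≫ pullback.snd uL cb = uM → Cov γ) : Cov uP := by
  -- Q = L1 ×_{cL} cM
  let q1 : pullback uL cb ⟶ L1 := pullback.fst uL cb
  let q2 : pullback uL cb ⟶ cM := pullback.snd uL cb
  have hQ : IsPullback q1 q2 uL cb := IsPullback.of_hasPullback uL cb
  let γ : M1 ⟶ pullback uL cb := pullback.lift b1 uM nM
  have hγ1 : γ ≫ q1 = b1 := pullback.lift_fst _ _ _
  have hγ2 : γ ≫ q2 = uM := pullback.lift_snd _ _ _
  have hcγ : Cov γ := hγ γ hγ1 hγ2
  -- R = K1 ×_{cL} cM
  let r1 : pullback (a1 ≫ uL) cb ⟶ K1 := pullback.fst (a1 ≫ uL) cb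
  let r2 : pullback (a1 ≫ uL) cb ⟶ cM := pullback.snd (a1 ≫ uL) cb
  have hR : IsPullback r1 r2 (a1 ≫ uL) cb := IsPullback.of_hasPullback (a1 ≫ uL) cb
  -- ρ : R ⟶ Q
  let ρ : pullback (a1 ≫ uL) cb ⟶ pullback uL cb :=
    pullback.lift (r1 ≫ a1) r2 (by rw [Category.assoc]; exact hR.w)
  have hρ1 : ρ ≫ q1 = r1 ≫ a1 := pullback.lift_fst _ _ _
  have hρ2 : ρ ≫ q2 = r2 := pullback.lift_snd _ _ _
  -- R = K1 ×_{L1} Q
  have hRQ : IsPullback ρ r1 q1 a1 := by
    refine IsPullback.of_right ?_ hρ1 hQ.flip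
    rw [hρ2]
    exact hR.flip
  -- α : P1 ⟶ R
  let α : P1 ⟶ pullback (a1 ≫ uL) cb := pullback.lift p1 (p2 ≫ uM) (by
    rw [← Category.assoc, hP.w, Category.assoc, nM, Category.assoc])
  have hα1 : α ≫ r1 = p1 := pullback.lift_fst _ _ _
  have hα2 : α ≫ r2 = p2 ≫ uM := pullback.lift_snd _ _ _
  have hαρ : α ≫ ρ = p2 ≫ γ := by
    apply pullback.hom_ext
    · show (α ≫ ρ) ≫ q1 = (p2 ≫ γ) ≫ q1
      rw [Category.assoc, hρ1, ← Category.assoc, hα1, Category.assoc, hγ1, hP.w]
    · show (α ≫ ρ) ≫ q2 = (p2 ≫ γ) ≫ q2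
      rw [Category.assoc, hρ2, hα2, Category.assoc, hγ2]
  have hPα : IsPullback α p2 ρ γ := by
    refine IsPullback.of_right ?_ hαρ hRQ.flip
    rw [hα1, hγ1]
    exact hP
  have hcα : Cov α := hbc hPα hcγ
  -- β : R ⟶ cP
  let β : pullback (a1 ≫ uL) cb ⟶ cP := hcP.lift (r1 ≫ uK) r2 (by
    rw [Category.assoc, ← nK]; exact hR.w)
  have hβ1 : β ≫ cp1 = r1 ≫ uK := hcP.lift_fst _ _ _
  have hβ2 : β ≫ cp2 = r2 := hcP.lift_snd _ _ _
  have hPβ : IsPullback β r1 cp1 uK := by
    refine IsPullback.of_right ?_ hβ1 hcP.flip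
    rw [hβ2, ← nK]
    exact hR.flip
  have hcβ : Cov β := hbc hPβ hK
  have huP : uP = α ≫ β := by
    apply hcP.hom_ext
    · rw [Category.assoc, hβ1, ← Category.assoc, hα1, nP1]
    · rw [Category.assoc, hβ2, hα2, nP2]
  rw [huP]
  exact hcomp _ _ hcα hcβ

end abstract


open Hyper SRCov

variable {C : Type u} [SmallCategory C] (J : GrothendieckTopology C)

/-- base change of an SR covering along an arbitrary pullback square -/
theorem of_isPullback [HasPullbacks C] {P A B D : FormalCoproduct.{u} C} {fst : P ⟶ A}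
    {snd : P ⟶ B} {g : A ⟶ D} {f : B ⟶ D} (h : IsPullback fst snd g f)
    (hf : IsSRCovering J f) : IsSRCovering J fst := by
  rw [← h.isoPullback_hom_fst]
  exact comp J _ _ (of_iso J h.isoPullback) (pullback_fst J f g hf)

/-- a covering of a covering family of `X` is a covering family of `X` -/
theorem family_covers {X : C} {P0 K0 : FormalCoproduct.{u} (Over X)} (f : P0 ⟶ K0)
    (hf : IsSRCovering (J.over X) f)
    (hK : Sieve.ofArrows (fun i => (K0.obj i).left) (fun i => (K0.obj i).hom) ∈ J X) :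
    Sieve.ofArrows (fun i => (P0.obj i).left) (fun i => (P0.obj i).hom) ∈ J X := by
  refine J.transitive hK _ ?_
  intro Y h hh
  rw [Sieve.mem_ofArrows_iff] at hh
  obtain ⟨j, c, rfl⟩ := hh
  have h1 := hf j
  rw [GrothendieckTopology.mem_over_iff] at h1
  refine J.superset_covering ?_ (J.pullback_stable c h1)
  intro Z b hb
  rw [Sieve.pullback_apply, Sieve.overEquiv_iff, mem_iff] at hb
  obtain ⟨i, hi, a, ha⟩ := hb
  rw [Sieve.pullback_apply, Sieve.mem_ofArrows_iff]
  refine ⟨i, a.left, ?_⟩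
  rw [← Category.assoc]
  exact (Over.w a).symm


open Simplicial in
theorem isHypercovering_pullback [HasPullbacks C] (X : C)
    [∀ (n : ℕ) (F : (SimplexCategory.Truncated n)ᵒᵖ ⥤ Limits.FormalCoproduct.{u} (Over X)),
      (SimplexCategory.Truncated.inclusion n).op.HasRightKanExtension F]
    {K L M P : SimplicialObject (FormalCoproduct.{u} (Over X))} (a : K ⟶ L) (b : M ⟶ L)
    (p1 : P ⟶ K) (p2 : P ⟶ M) (hP : IsPullback p1 p2 a b)
    (hK : Hyper.IsHypercovering J X K)
    (h0 : Hyper.IsSRCovering (J.over X) (b.app (op (SimplexCategory.mk 0))))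
    (hγ : ∀ (n : ℕ) (Q : FormalCoproduct.{u} (Over X))
      (q1 : Q ⟶ L.obj (op (SimplexCategory.mk (n + 1))))
      (q2 : Q ⟶ ((SimplicialObject.truncation n ⋙ SimplicialObject.Truncated.cosk n).obj M).obj
        (op (SimplexCategory.mk (n + 1))))
      (γ : M.obj (op (SimplexCategory.mk (n + 1))) ⟶ Q),
      IsPullback q1 q2 (((SimplicialObject.coskAdj n).unit.app L).app (op (SimplexCategory.mk (n + 1))))
        (((SimplicialObject.truncation n ⋙ SimplicialObject.Truncated.cosk n).map b).app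
          (op (SimplexCategory.mk (n + 1)))) →
      γ ≫ q1 = b.app (op (SimplexCategory.mk (n + 1))) →
      γ ≫ q2 = ((SimplicialObject.coskAdj n).unit.app M).app (op (SimplexCategory.mk (n + 1))) →
      Hyper.IsSRCovering (J.over X) γ) :
    Hyper.IsHypercovering J X P := by
  have hev : ∀ k : SimplexCategoryᵒᵖ, IsPullback (p1.app k) (p2.app k) (a.app k) (b.app k) :=
    fun k => hP.map ((evaluation _ _).obj k)
  refine ⟨?_, ?_⟩
  · exact family_covers J (p1.app (op (SimplexCategory.mk 0)))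
      (of_isPullback (J.over X) (hev _) h0) hK.1
  · intro n
    have : PreservesLimitsOfSize.{0, 0} (SimplicialObject.Truncated.cosk n :
        SimplicialObject.Truncated (FormalCoproduct.{u} (Over X)) n ⥤ _) :=
      (SimplicialObject.coskAdj n).rightAdjoint_preservesLimits
    have : PreservesLimitsOfShape WalkingCospan (SimplicialObject.truncation n :
        SimplicialObject (FormalCoproduct.{u} (Over X)) ⥤ _) := by
      unfold SimplicialObject.truncation
      infer_instance
    have : PreservesLimitsOfShape WalkingCospan (SimplicialObject.truncation n ⋙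
        (SimplicialObject.Truncated.cosk n :
          SimplicialObject.Truncated (FormalCoproduct.{u} (Over X)) n ⥤ _)) :=
      comp_preservesLimitsOfShape _ _
    have hc : IsPullback
        ((SimplicialObject.truncation n ⋙ SimplicialObject.Truncated.cosk n).map p1)
        ((SimplicialObject.truncation n ⋙ SimplicialObject.Truncated.cosk n).map p2)
        ((SimplicialObject.truncation n ⋙ SimplicialObject.Truncated.cosk n).map a)
        ((SimplicialObject.truncation n ⋙ SimplicialObject.Truncated.cosk n).map b) :=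
      hP.map _
    have hcev := hc.map ((evaluation _ _).obj (op (SimplexCategory.mk (n + 1))))
    refine key (fun _ _ f => Hyper.IsSRCovering (J.over X) f)
      (fun f g hf hg => comp (J.over X) f g hf hg)
      (fun h hf => of_isPullback (J.over X) h hf)
      (a.app _) (b.app _) (p1.app _) (p2.app _) _ _ _ _
      (((SimplicialObject.coskAdj n).unit.app K).app (op (SimplexCategory.mk (n + 1))))
      (((SimplicialObject.coskAdj n).unit.app L).app (op (SimplexCategory.mk (n + 1))))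
      (((SimplicialObject.coskAdj n).unit.app M).app (op (SimplexCategory.mk (n + 1))))
      (((SimplicialObject.coskAdj n).unit.app P).app (op (SimplexCategory.mk (n + 1))))
      (hev _) hcev ?_ ?_ ?_ ?_ (hK.2 n) ?_
    · exact congrArg (fun t => t.app (op (SimplexCategory.mk (n + 1))))
        ((SimplicialObject.coskAdj n).unit.naturality a)
    · exact congrArg (fun t => t.app (op (SimplexCategory.mk (n + 1))))
        ((SimplicialObject.coskAdj n).unit.naturality b)
    · exact (congrArg (fun t => t.app (op (SimplexCategory.mk (n + 1))))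
        ((SimplicialObject.coskAdj n).unit.naturality p1)).symm
    · exact (congrArg (fun t => t.app (op (SimplexCategory.mk (n + 1))))
        ((SimplicialObject.coskAdj n).unit.naturality p2)).symm
    · intro γ h1 h2
      exact hγ n _ _ _ γ (IsPullback.of_hasPullback _ _) h1 h2

end Groth.Agent.H60.HyperPB
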