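import Groth.Agent.H60.QCTop
import Groth.Agent.H60.ExtTransfer

/-!
# Transport from a large (locally small, essentially small) site to its small model

`C₀ : Type (u+1)` with morphisms in `Type u`, and `AsSmall.{u+1} C₀` its small model.
-/

set_option autoImplicit false

open CategoryTheory Limits Opposite Abelian

universe u

namespace Groth.Agent.H60.LargeSite

open Groth.Agent.H28 ToposFin Groth.Agent.H60.QCColim

variable {C₀ : Type (u + 1)} [Category.{u} C₀] (J₀ : GrothendieckTopology C₀)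

/-- hypotheses on a class of quasi-compact objects of a large site, in a form invariant under
equivalences. -/
structure LargeQC (QC₀ : C₀ → Prop) : Prop where
  iso : ∀ {U V : C₀}, (U ≅ V) → QC₀ U → QC₀ V
  pb : ∀ {P A B U : C₀} {p : P ⟶ A} {q : P ⟶ B} {f : A ⟶ U} {g : B ⟶ U}, IsPullback p q f g →
    QC₀ A → QC₀ B → QC₀ U → QC₀ P
  prod : ∀ {P A B : C₀} {p : P ⟶ A} {q : P ⟶ B}, IsLimit (BinaryFan.mk p q) →
    QC₀ A → QC₀ B → QC₀ P
  covfin : ∀ U, QC₀ U → ∀ S ∈ J₀ U, ∃ (n : ℕ) (V : Fin n → C₀) (f : ∀ k, V k ⟶ U),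
    (∀ k, QC₀ (V k)) ∧ (∀ k, S.arrows (f k)) ∧ Sieve.ofArrows V f ∈ J₀ U
  cov : ∀ X : C₀, ∃ (ι : Type (u + 1)) (V : ι → C₀) (g : ∀ i, V i ⟶ X),
    (∀ i, QC₀ (V i)) ∧ Sieve.ofArrows V g ∈ J₀ X
  top : ∃ (n : ℕ) (E : Fin n → C₀), (∀ k, QC₀ (E k)) ∧
    ∀ X : C₀, ∃ R ∈ J₀ X, ∀ ⦃Y : C₀⦄ (f : Y ⟶ X), R f → ∃ k, Nonempty (Y ⟶ E k)

section Equiv

variable {C : Type (u + 1)} [SmallCategory C] (e : C₀ ≌ C)

/-- the induced topology on the small model -/
abbrev Jsm : GrothendieckTopology C := e.inverse.inducedTopology J₀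

lemma mem_Jsm_iff {X : C} (S : Sieve X) :
    S ∈ Jsm J₀ e X ↔ S.functorPushforward e.inverse ∈ J₀ (e.inverse.obj X) :=
  Functor.mem_inducedTopology_iff_of_isCoverDense _ _ S

/-- transport of a family of arrows to the small model -/
lemma unit_comp_inverse_map {V : C₀} {U' : C} (f : V ⟶ e.inverse.obj U') :
    e.unit.app V ≫ e.inverse.map (e.functor.map f ≫ e.counit.app U') = f := by
  rw [Functor.map_comp, ← Category.assoc]
  have h1 : e.unit.app V ≫ e.inverse.map (e.functor.map f) =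
      f ≫ e.unit.app (e.inverse.obj U') := (e.unit.naturality f).symm
  rw [h1, Category.assoc, Equivalence.unit_inverse_comp, Category.comp_id]

lemma ofArrows_mem_Jsm {ι : Type*} {U' : C} (V : ι → C₀) (f : ∀ i, V i ⟶ e.inverse.obj U')
    (h : Sieve.ofArrows V f ∈ J₀ (e.inverse.obj U')) :
    Sieve.ofArrows (fun i => e.functor.obj (V i))
      (fun i => e.functor.map (f i) ≫ e.counit.app U') ∈ Jsm J₀ e U' := by
  rw [mem_Jsm_iff]
  refine J₀.superset_covering ?_ h
  intro Y g hg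
  obtain ⟨i, a, rfl⟩ := (Sieve.mem_ofArrows_iff V f g).1 hg
  refine ⟨e.functor.obj (V i), e.functor.map (f i) ≫ e.counit.app U', a ≫ e.unit.app (V i),
    Sieve.ofArrows_mk _ _ i, ?_⟩
  rw [Category.assoc, unit_comp_inverse_map]

variable {J₀}
variable {QC₀ : C₀ → Prop} (hL : LargeQC J₀ QC₀)

/-- the quasi-compact objects of the small model -/
def QCsm (U' : C) : Prop := QC₀ (e.inverse.obj U')

include hL in
lemma qcsm_functor_obj {V : C₀} (hV : QC₀ V) : QCsm e (QC₀ := QC₀) (e.functor.obj V) :=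
  hL.iso (e.unitIso.app V) hV

variable [HasPullbacks C]

include hL in
theorem qcClass_sm : QCClass (Jsm J₀ e) (QCsm e (QC₀ := QC₀)) where
  cov := by
    intro U' hU' S' hS'
    rw [mem_Jsm_iff] at hS'
    obtain ⟨n, V, f, hV, hf, hcov⟩ := hL.covfin _ hU' _ hS'
    refine ⟨n, fun k => e.functor.obj (V k), fun k => e.functor.map (f k) ≫ e.counit.app U',
      fun k => qcsm_functor_obj e hL (hV k), ?_, ofArrows_mem_Jsm J₀ e V f hcov⟩
    intro k
    obtain ⟨W', g, a, hg, hfa⟩ := hf k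
    have : e.functor.map (f k) ≫ e.counit.app U' =
        (e.functor.map a ≫ e.counit.app W') ≫ g := by
      rw [hfa, Functor.map_comp, Category.assoc, Category.assoc]
      congr 1
      exact e.counit.naturality g
    show S'.arrows (e.functor.map (f k) ≫ e.counit.app U')
    rw [this]
    exact S'.downward_closed hg _
  pb := by
    intro A B U f g hA hB hU
    exact hL.pb ((IsPullback.of_hasPullback f g).map e.inverse) hA hB hU

include hL in
lemma cov_sm : ∀ X : C, ∃ (ι : Type (u + 1)) (V : ι → C) (g : ∀ i, V i ⟶ X),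
    (∀ i, QCsm e (QC₀ := QC₀) (V i)) ∧ Sieve.ofArrows V g ∈ Jsm J₀ e X := by
  intro X
  obtain ⟨ι, V, g, hV, hg⟩ := hL.cov (e.inverse.obj X)
  exact ⟨ι, fun i => e.functor.obj (V i), fun i => e.functor.map (g i) ≫ e.counit.app X,
    fun i => qcsm_functor_obj e hL (hV i), ofArrows_mem_Jsm J₀ e V g hg⟩

include hL in
lemma prod_sm [HasBinaryProducts C] :
    ∀ U V : C, QCsm e (QC₀ := QC₀) U → QCsm e (QC₀ := QC₀) V → QCsm e (QC₀ := QC₀) (U ⨯ V) := by
  intro U V hU hV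
  have hlim : IsLimit (BinaryFan.mk (e.inverse.map (prod.fst : U ⨯ V ⟶ U))
      (e.inverse.map (prod.snd : U ⨯ V ⟶ V))) :=
    (isLimitMapConeBinaryFanEquiv e.inverse prod.fst prod.snd)
      (isLimitOfPreserves _ (prodIsProd U V))
  exact hL.prod hlim hU hV

include hL in
lemma top_sm : ∃ (n : ℕ) (E : Fin n → C), (∀ k, QCsm e (QC₀ := QC₀) (E k)) ∧
    ∀ X : C, ∃ R ∈ Jsm J₀ e X, ∀ ⦃Y : C⦄ (f : Y ⟶ X), R f → ∃ k, Nonempty (Y ⟶ E k) := by
  obtain ⟨n, E, hE, hR⟩ := hL.top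
  refine ⟨n, fun k => e.functor.obj (E k), fun k => qcsm_functor_obj e hL (hE k), ?_⟩
  intro X
  obtain ⟨R₀, hR₀, hfac⟩ := hR (e.inverse.obj X)
  refine ⟨R₀.functorPullback e.inverse, ?_, ?_⟩
  · rw [mem_Jsm_iff]
    refine J₀.superset_covering ?_ hR₀
    intro Y f hf
    refine ⟨e.functor.obj Y, e.functor.map f ≫ e.counit.app X, e.unit.app Y, ?_,
      (unit_comp_inverse_map e f).symm⟩
    show R₀ (e.inverse.map (e.functor.map f ≫ e.counit.app X))
    have h1 : e.inverse.map (e.functor.map f ≫ e.counit.app X) = e.unitInv.app Y ≫ f := by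
      rw [← unit_comp_inverse_map e f]
      simp
    rw [h1]
    exact R₀.downward_closed hf _
  · intro Y f hf
    obtain ⟨k, ⟨g⟩⟩ := hfac (e.inverse.map f) hf
    exact ⟨k, ⟨e.counitInv.app Y ≫ e.functor.map g⟩⟩

end Equiv

/-! ### Transport along isomorphisms in the first variable -/

section IsoTransport

open Groth.Agent.H60.ExtColim

variable {A : Type*} [Category A] [Abelian A] {Λ : Type*} [Category Λ] [HasColimitsOfShape Λ A]

lemma surj0_of_iso {Z Z' : A} (i : Z ≅ Z') (D : Λ ⥤ A) (h : Surj0 Z' D) : Surj0 Z D := by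
  intro φ
  obtain ⟨k, φk, hφk⟩ := h (i.inv ≫ φ)
  refine ⟨k, i.hom ≫ φk, ?_⟩
  rw [Category.assoc, hφk, Iso.hom_inv_id_assoc]

lemma inj0_of_iso {Z Z' : A} (i : Z ≅ Z') (D : Λ ⥤ A) (h : Inj0 Z' D) : Inj0 Z D := by
  intro k φk hφk
  obtain ⟨j, f, hf⟩ := h k (i.inv ≫ φk) (by rw [Category.assoc, hφk, comp_zero])
  refine ⟨j, f, ?_⟩
  have := congrArg (fun t => i.hom ≫ t) hf
  simpa only [Category.assoc, Iso.hom_inv_id_assoc, comp_zero] using this

universe w₁

lemma ext_eq_zero_of_iso [HasExt.{w₁} A] {Z Z' Y : A} (i : Z ≅ Z') {n : ℕ}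
    (h : ∀ y : Ext Z' Y n, y = 0) (x : Ext Z Y n) : x = 0 := by
  have h1 : (Ext.mk₀ i.hom).comp ((Ext.mk₀ i.inv).comp x (zero_add n)) (zero_add n) = x := by
    rw [Ext.mk₀_comp_mk₀_assoc, Iso.hom_inv_id, Ext.mk₀_id_comp]
  rw [← h1, h ((Ext.mk₀ i.inv).comp x (zero_add n)), Ext.comp_zero]

end IsoTransport

/-! ### The equivalence of sheaf categories and the constant sheaf -/

section Main

open Groth.Agent.H60.ExtColim Groth.Agent.H60.ExtTransfer Groth.Agent.H60.CohExt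
  Groth.Agent.H60.QCSite Groth.Agent.H60.QCTop Groth.Agent.H31.SieveExt Groth.Agent.H60.ConstTop

variable {C : Type (u + 1)} [SmallCategory C] (e : C₀ ≌ C)
variable [HasSheafify J₀ AddCommGrpCat.{u + 1}]

/-- the equivalence of sheaf categories, as a functor to the small model -/
noncomputable abbrev Φ : Sheaf J₀ AddCommGrpCat.{u + 1} ⥤ Sheaf (Jsm J₀ e) AddCommGrpCat.{u + 1} :=
  (e.sheafCongr J₀ (Jsm J₀ e) AddCommGrpCat.{u + 1}).functor

/-- constant sheaves correspond under the equivalence -/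
noncomputable def constIso (M : AddCommGrpCat.{u + 1}) :
    (Φ J₀ e).obj ((constantSheaf J₀ AddCommGrpCat.{u + 1}).obj M) ≅
      (constantSheaf (Jsm J₀ e) AddCommGrpCat.{u + 1}).obj M := by
  let i1 : presheafToSheaf J₀ AddCommGrpCat.{u + 1} ≅
      Equivalence.transportAndSheafify J₀ (Jsm J₀ e) e AddCommGrpCat.{u + 1} :=
    (sheafificationAdjunction J₀ AddCommGrpCat.{u + 1}).leftAdjointUniq
      (Equivalence.transportSheafificationAdjunction J₀ (Jsm J₀ e) e AddCommGrpCat.{u + 1})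
  let P₀ : C₀ᵒᵖ ⥤ AddCommGrpCat.{u + 1} := (Functor.const C₀ᵒᵖ).obj M
  let i2 : e.op.congrLeft.functor.obj P₀ ≅ (Functor.const Cᵒᵖ).obj M :=
    NatIso.ofComponents (fun _ => Iso.refl M)
  exact (Φ J₀ e).mapIso (i1.app P₀) ≪≫
    (e.sheafCongr J₀ (Jsm J₀ e) AddCommGrpCat.{u + 1}).counitIso.app _ ≪≫
    (presheafToSheaf (Jsm J₀ e) AddCommGrpCat.{u + 1}).mapIso i2

variable {QC₀ : C₀ → Prop}

include e in
/-- Cohomology of a large site with enough quasi-compact objects commutes with filtered colimits. -/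
theorem preservesColimitsOfShape_functorH_of_equiv
    [HasPullbacks C] [HasBinaryProducts C] [J₀.Subcanonical] (hL : LargeQC J₀ QC₀)
    [HasExt.{u + 1} (Sheaf J₀ AddCommGrpCat.{u + 1})]
    [IsGrothendieckAbelian.{u + 1} (Sheaf J₀ AddCommGrpCat.{u + 1})]
    (Λ : Type (u + 1)) [SmallCategory Λ] [IsFiltered Λ] (q : ℕ) :
    PreservesColimitsOfShape Λ
      (Sheaf.functorH J₀ q : Sheaf J₀ AddCommGrpCat.{u + 1} ⥤ AddCommGrpCat.{u + 1}) := by
  have hsub : (Jsm J₀ e).Subcanonical :=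
    GrothendieckTopology.subcanonical_of_full_of_faithful e.inverse _ J₀
  have hq := qcClass_sm e hL
  have hcov := cov_sm e hL
  have hprod := prod_sm e hL
  have htop := top_sm e hL
  obtain ⟨S, hqc, hgen, hpb, heq⟩ := isAlgebraic hq hcov hprod
  have hS : CoversAll S := CoversAll.of_isGenerating hgen
  have hE' : HasQCGenerators (Jsm J₀ e) := coversAll_qc_iff.1 (coversAll_qc_of_subset hS hqc)
  have hT : IsCoherent (⊤_ (Sh (Jsm J₀ e))) :=
    ⟨isQC_terminal hq htop, isQS_terminal hq hcov hprod⟩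
  have hfp : IsFP (⊤_ (Sh (Jsm J₀ e))) := isFP_of_isCoherent hE' hT
  let Z₀ : Sheaf J₀ AddCommGrpCat.{u + 1} :=
    (constantSheaf J₀ AddCommGrpCat.{u + 1}).obj (AddCommGrpCat.of (ULift.{u + 1} ℤ))
  let i : (Φ J₀ e).obj Z₀ ≅ Zs (Jsm J₀ e) (⊤_ (Sheaf (Jsm J₀ e) (Type (u + 1)))).obj :=
    constIso J₀ e _ ≪≫ constIsoTop (Jsm J₀ e)
  have hinj : ∀ I : Sheaf J₀ AddCommGrpCat.{u + 1}, Injective I →
      Injective ((Φ J₀ e).obj I) := fun I hI =>
    Injective.injective_of_adjoint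
      (e.sheafCongr J₀ (Jsm J₀ e) AddCommGrpCat.{u + 1}).symm.toAdjunction I
  have hpbb : PreservesBinaryBiproducts (Φ J₀ e) :=
    preservesBinaryBiproducts_of_preservesBinaryProducts _
  have hadd : (Φ J₀ e).Additive := Functor.additive_of_preservesBinaryBiproducts _
  have hmain := surj_inj_of_map (Φ J₀ e) hinj Z₀ (Λ := Λ)
    (fun D' => ⟨surj0_of_iso i D' (surj0_inj0_of_isFP hfp D').1,
      inj0_of_iso i D' (surj0_inj0_of_isFP hfp D').2⟩)
    (fun D' hD' q x => ext_eq_zero_of_iso i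
      (fun y => acyc_of_isCoherent hqc hS hpb heq hT D' hD' q y) x)
  exact preservesColimitsOfShape_extFunctor Z₀ q (hmain q)

/-- Cohomology of a large site with enough quasi-compact objects commutes with filtered colimits. -/
theorem preservesColimitsOfShape_functorH
    [HasPullbacks C₀] [HasBinaryProducts C₀] [J₀.Subcanonical] (hL : LargeQC J₀ QC₀)
    [HasExt.{u + 1} (Sheaf J₀ AddCommGrpCat.{u + 1})]
    [IsGrothendieckAbelian.{u + 1} (Sheaf J₀ AddCommGrpCat.{u + 1})]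
    (Λ : Type (u + 1)) [SmallCategory Λ] [IsFiltered Λ] (q : ℕ) :
    PreservesColimitsOfShape Λ
      (Sheaf.functorH J₀ q : Sheaf J₀ AddCommGrpCat.{u + 1} ⥤ AddCommGrpCat.{u + 1}) := by
  let e : C₀ ≌ AsSmall.{u + 1} C₀ := AsSmall.equiv
  haveI : HasPullbacks (AsSmall.{u + 1} C₀) :=
    Adjunction.hasLimitsOfShape_of_equivalence e.inverse
  haveI : HasBinaryProducts (AsSmall.{u + 1} C₀) :=
    Adjunction.hasLimitsOfShape_of_equivalence e.inverse
  exact preservesColimitsOfShape_functorH_of_equiv J₀ e hL Λ q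

end Main

end Groth.Agent.H60.LargeSite
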