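import Mathlib

set_option autoImplicit false
open CategoryTheory CategoryTheory.Limits Opposite
universe u

namespace Groth.Agent.H60.LexRefl

variable {C : Type u} [SmallCategory C] (P : ObjectProperty (Cᵒᵖ ⥤ Type u)) [Reflective P.ι]

/-- a morphism is inverted by the reflector iff every object of `P` is local for it -/
lemma isIso_map_iff {X Y : Cᵒᵖ ⥤ Type u} (g : X ⟶ Y) :
    IsIso ((reflector P.ι).map g) ↔
      ∀ F, P F → Function.Bijective (fun h : Y ⟶ F => g ≫ h) := by
  rw [isIso_iff_coyoneda_map_bijective]
  have key : ∀ T : P.FullSubcategory,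
      (fun h : Y ⟶ T.obj => g ≫ h) =
        (reflectorAdjunction P.ι).homEquiv X T ∘
          (fun x : (reflector P.ι).obj Y ⟶ T => (reflector P.ι).map g ≫ x) ∘
          ((reflectorAdjunction P.ι).homEquiv Y T).symm := by
    intro T
    funext h
    simp only [Function.comp_apply]
    rw [Adjunction.homEquiv_naturality_left, Equiv.apply_symm_apply]
  constructor
  · intro H F hF
    rw [key ⟨F, hF⟩]
    exact ((reflectorAdjunction P.ι).homEquiv X ⟨F, hF⟩).bijective.comp
      ((H ⟨F, hF⟩).comp ((reflectorAdjunction P.ι).homEquiv Y ⟨F, hF⟩).symm.bijective)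
  · intro H T
    have h1 := H T.obj T.property
    rw [key T] at h1
    have h2 := (Equiv.comp_bijective _ _).1 h1
    exact (Equiv.bijective_comp _ _).1 h2

lemma isIso_functorInclusion_iff {X : C} (S : Sieve X) :
    IsIso ((reflector P.ι).map S.functorInclusion) ↔
      ∀ F, P F → Presieve.IsSheafFor F S.arrows := by
  rw [isIso_map_iff]
  refine forall_congr' fun F => forall_congr' fun hF => ?_
  rw [Presieve.isSheafFor_iff_yonedaSheafCondition, Function.bijective_iff_existsUnique]
  rfl

/-- the canonical map `(f^* S).functor ⟶ S.functor` -/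
def pullbackTop {X Y : C} (S : Sieve X) (f : Y ⟶ X) : (S.pullback f).functor ⟶ S.functor where
  app W := ↾fun g => ⟨g.1 ≫ f, g.2⟩
  naturality W W' k := by
    refine ConcreteCategory.hom_ext _ _ (fun g => ?_)
    apply Subtype.ext
    show (k.unop ≫ g.1) ≫ f = k.unop ≫ g.1 ≫ f
    rw [Category.assoc]

omit [Reflective P.ι] in
lemma isPullback_pullbackTop {X Y : C} (S : Sieve X) (f : Y ⟶ X) :
    IsPullback (pullbackTop S f) (S.pullback f).functorInclusion S.functorInclusion
      (yoneda.map f) := by
  apply IsPullback.of_forall_isPullback_app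
  intro W
  rw [Types.isPullback_iff]
  refine ⟨?_, ?_, ?_⟩
  · refine ConcreteCategory.hom_ext _ _ (fun g => ?_)
    rfl
  · rintro g g' ⟨-, h2⟩
    exact Subtype.ext h2
  · rintro ⟨k, hk⟩ g hkg
    have hkg' : k = g ≫ f := hkg
    subst hkg'
    exact ⟨⟨g, hk⟩, rfl, rfl⟩

variable [PreservesFiniteLimits (reflector P.ι)]

lemma isIso_pullback {X Y : C} (S : Sieve X) (f : Y ⟶ X)
    (h : IsIso ((reflector P.ι).map S.functorInclusion)) :
    IsIso ((reflector P.ι).map (S.pullback f).functorInclusion) :=
  ((isPullback_pullbackTop S f).map (reflector P.ι)).isIso_snd_of_isIso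

/-- the topology -/
def topology : GrothendieckTopology C := Sheaf.finestTopology {F | P F}

omit [PreservesFiniteLimits (reflector P.ι)] [Reflective P.ι] in
lemma mem_topology_iff' {X : C} (S : Sieve X) :
    S ∈ topology P X ↔ ∀ F, P F → ∀ ⦃Y : C⦄ (f : Y ⟶ X), Presieve.IsSheafFor F (S.pullback f).arrows := by
  constructor
  · intro hS F hF Y f
    exact hS _ ⟨⟨_, _, ⟨_, hF, rfl⟩, rfl⟩, rfl⟩ _ f
  · intro H
    exact Sheaf.mem_finestTopology_of_forall_isSheafFor (fun F hF Y f => H F hF f)

lemma mem_topology_iff {X : C} (S : Sieve X) :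
    S ∈ topology P X ↔ IsIso ((reflector P.ι).map S.functorInclusion) := by
  rw [mem_topology_iff']
  constructor
  · intro H
    rw [isIso_functorInclusion_iff]
    intro F hF
    have := H F hF (𝟙 X)
    rwa [Sieve.pullback_id] at this
  · intro H F hF Y f
    exact (isIso_functorInclusion_iff P _).1 (isIso_pullback P S f H) F hF

omit [PreservesFiniteLimits (reflector P.ι)] [Reflective P.ι] in
lemma isSheaf_of_mem {F : Cᵒᵖ ⥤ Type u} (hF : P F) : Presieve.IsSheaf (topology P) F :=
  Sheaf.sheaf_for_finestTopology _ hF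

/-- the map from the pullback to the image sieve -/
noncomputable def toImage {G H : Cᵒᵖ ⥤ Type u} (g : G ⟶ H) {X : C} (s : H.obj (op X)) :
    pullback g (yonedaEquiv.symm s) ⟶ (Presheaf.imageSieve g s).functor where
  app W := ↾fun z => ⟨(pullback.snd g (yonedaEquiv.symm s)).app W z,
    ⟨(pullback.fst g (yonedaEquiv.symm s)).app W z, by
      have h1 := ConcreteCategory.congr_hom (NatTrans.congr_app
        (pullback.condition (f := g) (g := yonedaEquiv.symm s)) W) z
      simp only [NatTrans.comp_app, ConcreteCategory.comp_apply] at h1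
      rw [h1]
      rfl⟩⟩
  naturality W W' k := by
    refine ConcreteCategory.hom_ext _ _ (fun z => ?_)
    apply Subtype.ext
    exact ConcreteCategory.congr_hom ((pullback.snd g (yonedaEquiv.symm s)).naturality k) z

omit [PreservesFiniteLimits (reflector P.ι)] [Reflective P.ι] in
lemma toImage_comp {G H : Cᵒᵖ ⥤ Type u} (g : G ⟶ H) {X : C} (s : H.obj (op X)) :
    toImage g s ≫ (Presheaf.imageSieve g s).functorInclusion =
      pullback.snd g (yonedaEquiv.symm s) := by
  ext W z
  rfl

lemma isLocallySurjective_of_isIso {G H : Cᵒᵖ ⥤ Type u} (g : G ⟶ H)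
    (hg : IsIso ((reflector P.ι).map g)) : Presheaf.IsLocallySurjective (topology P) g := by
  refine ⟨fun {X} s => ?_⟩
  rw [mem_topology_iff]
  have hP := IsPullback.of_hasPullback g (yonedaEquiv.symm s)
  have h1 : IsIso ((reflector P.ι).map (pullback.snd g (yonedaEquiv.symm s))) :=
    (hP.map (reflector P.ι)).isIso_snd_of_isIso
  have h2 : (reflector P.ι).map (toImage g s) ≫
      (reflector P.ι).map (Presheaf.imageSieve g s).functorInclusion =
      (reflector P.ι).map (pullback.snd g (yonedaEquiv.symm s)) := by
    rw [← Functor.map_comp, toImage_comp]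
  have h3 : Mono ((reflector P.ι).map (Presheaf.imageSieve g s).functorInclusion) :=
    inferInstance
  have h4 : IsSplitEpi ((reflector P.ι).map (Presheaf.imageSieve g s).functorInclusion) :=
    ⟨⟨⟨inv ((reflector P.ι).map (pullback.snd g (yonedaEquiv.symm s))) ≫
      (reflector P.ι).map (toImage g s), by
        rw [Category.assoc, h2, IsIso.inv_hom_id]⟩⟩⟩
  exact isIso_of_mono_of_isSplitEpi _

lemma isLocallyInjective_of_isIso {G H : Cᵒᵖ ⥤ Type u} (g : G ⟶ H)
    (hg : IsIso ((reflector P.ι).map g)) : Presheaf.IsLocallyInjective (topology P) g := by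
  have hP := IsPullback.of_hasPullback g g
  have h1 : IsIso ((reflector P.ι).map (pullback.fst g g)) :=
    (hP.map (reflector P.ι)).isIso_fst_of_isIso
  have h2 : IsIso ((reflector P.ι).map (pullback.diagonal g)) := by
    have h3 : (reflector P.ι).map (pullback.diagonal g) ≫
        (reflector P.ι).map (pullback.fst g g) = 𝟙 _ := by
      rw [← Functor.map_comp, pullback.diagonal_fst, CategoryTheory.Functor.map_id]
    have h4 : IsIso ((reflector P.ι).map (pullback.diagonal g) ≫
        (reflector P.ι).map (pullback.fst g g)) := by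
      rw [h3]; exact IsIso.id _
    exact IsIso.of_isIso_comp_right _ ((reflector P.ι).map (pullback.fst g g))
  have hLS := isLocallySurjective_of_isIso P (pullback.diagonal g) h2
  refine ⟨fun {X} t t' htt' => ?_⟩
  obtain ⟨z, hz1, hz2⟩ := Types.exists_of_isPullback (hP.app X) t t' htt'
  have h5 := Presheaf.imageSieve_mem (topology P) (pullback.diagonal g) z
  refine (topology P).superset_covering ?_ h5
  rintro W f ⟨u, hu⟩
  show G.map f.op t = G.map f.op t'
  have e1 : (pullback.fst g g).app (op W) ((pullback.diagonal g).app (op W) u) = u :=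
    ConcreteCategory.congr_hom (NatTrans.congr_app (pullback.diagonal_fst g) (op W)) u
  have e2 : (pullback.snd g g).app (op W) ((pullback.diagonal g).app (op W) u) = u :=
    ConcreteCategory.congr_hom (NatTrans.congr_app (pullback.diagonal_snd g) (op W)) u
  rw [hu] at e1 e2
  have n1 := ConcreteCategory.congr_hom ((pullback.fst g g).naturality f.op) z
  have n2 := ConcreteCategory.congr_hom ((pullback.snd g g).naturality f.op) z
  simp only [ConcreteCategory.comp_apply] at n1 n2
  rw [← hz1, ← hz2, ← n1, ← n2]
  exact e1.trans e2.symm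

theorem mem_of_isSheaf [P.IsClosedUnderIsomorphisms] {F : Cᵒᵖ ⥤ Type u}
    (hF : Presieve.IsSheaf (topology P) F) : P F := by
  set J := topology P
  let η := (reflectorAdjunction P.ι).unit.app F
  have h1 : IsIso ((reflector P.ι).map η) := by
    have h := (reflectorAdjunction P.ι).left_triangle_components F
    have h2 : IsIso ((reflectorAdjunction P.ι).counit.app ((reflector P.ι).obj F)) := inferInstance
    have h3 : IsIso ((reflector P.ι).map η ≫
        (reflectorAdjunction P.ι).counit.app ((reflector P.ι).obj F)) := by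
      rw [h]; exact IsIso.id _
    exact IsIso.of_isIso_comp_right _
      ((reflectorAdjunction P.ι).counit.app ((reflector P.ι).obj F))
  have hLI := isLocallyInjective_of_isIso P η h1
  have hLS := isLocallySurjective_of_isIso P η h1
  have hF' : Presheaf.IsSheaf J F := (isSheaf_iff_isSheaf_of_type J F).2 hF
  have hG' : Presheaf.IsSheaf J ((reflector P.ι).obj F).obj :=
    (isSheaf_iff_isSheaf_of_type J _).2 (isSheaf_of_mem P ((reflector P.ι).obj F).property)
  let m : (⟨F, hF'⟩ : Sheaf J (Type u)) ⟶ ⟨((reflector P.ι).obj F).obj, hG'⟩ :=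
    ObjectProperty.homMk η
  have hm : IsIso m := by
    have hW : J.W η := (J.W_iff_isLocallyBijective η).2 ⟨hLI, hLS⟩
    rw [J.W_iff] at hW
    exact (NatIso.isIso_map_iff (asIso (sheafificationAdjunction J (Type u)).counit) m).1 hW
  have hη : IsIso η := by
    have : IsIso ((sheafToPresheaf J (Type u)).map m) := inferInstance
    exact this
  exact P.prop_of_iso (asIso η).symm ((reflector P.ι).obj F).property

end Groth.Agent.H60.LexRefl
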