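import Groth.Agent.H60.LocColim

/-!
# Cohomology of a localization of an abelian étale sheaf (helper60)
-/

set_option autoImplicit false
open CategoryTheory CategoryTheory.Limits AlgebraicGeometry Opposite
universe u

namespace Groth.Agent.H60.LocColim

open Groth.Agent.H60.ConstrCompact Groth.Agent.H60.QCEtale Groth.Agent.H60.ConstrDense

variable {X : Scheme.{u}}

lemma zsmul_app_apply {Y Z : EtCoh.Ab X} (f : Y ⟶ Z) (n : ℤ) (U : X.Etale) (s : EtCoh.sect Y U) :
    ((n • f : Y ⟶ Z).hom.app (op U)).hom s = n • (f.hom.app (op U)).hom s := by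
  have h1 : (secF U).map (n • f) = n • (secF U).map f := Functor.map_zsmul _
  have h2 := congrArg (fun k => k.hom s) h1
  exact h2

instance (n : ℕ) : (EtCoh.HF X n).Additive := by
  unfold EtCoh.HF
  infer_instance

section Seq

variable (S : Submonoid ℤ)

/-- an enumeration of `S` in which every element occurs infinitely often -/
lemma exists_enum : ∃ e : ℕ → S, ∀ (s : S) (n : ℕ), ∃ m, n ≤ m ∧ e m = s := by
  obtain ⟨f, hf⟩ := exists_surjective_nat S
  refine ⟨fun n => f (Nat.unpair n).1, fun s n => ?_⟩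
  obtain ⟨a, rfl⟩ := hf s
  exact ⟨Nat.pair a n, Nat.right_le_pair a n, by simp⟩

variable {S} (F G : EtCoh.Ab X) (φ : F ⟶ G) (e : ℕ → S)

/-- the sequence `F → F → F → …` with transition maps multiplication by `e n` -/
noncomputable abbrev seq : ℕ ⥤ EtCoh.Ab X :=
  Functor.ofSequence (X := fun _ => F) (fun n => ((e n : ℤ)) • 𝟙 F)

lemma seq_map_succ (n : ℕ) :
    (seq F e).map (homOfLE (Nat.le_add_right n 1)) = ((e n : ℤ)) • 𝟙 F :=
  Functor.ofSequence_map_homOfLE_succ _ n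

lemma zsmul_id_comp (q r : ℤ) :
    ((q • 𝟙 F : F ⟶ F) ≫ (r • 𝟙 F : F ⟶ F)) = ((q * r) • 𝟙 F : F ⟶ F) := by
  rw [Preadditive.zsmul_comp, Preadditive.comp_zsmul, Category.id_comp, smul_smul]

/-- every transition map of the sequence is multiplication by an element of `S` -/
lemma seq_map_eq' (n k : ℕ) (h : n ≤ k) :
    ∃ q : S, (seq F e).map (homOfLE h) = (((q : ℤ)) • 𝟙 F : F ⟶ F) := by
  induction k, h using Nat.le_induction with
  | base =>
    refine ⟨1, ?_⟩
    have : (homOfLE (le_refl n)) = 𝟙 n := rfl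
    rw [this, CategoryTheory.Functor.map_id]
    simp
    rfl
  | succ k hk ih =>
    obtain ⟨q, hq⟩ := ih
    refine ⟨q * e k, ?_⟩
    have : homOfLE (hk.trans (Nat.le_succ k)) = homOfLE hk ≫ homOfLE (Nat.le_add_right k 1) := rfl
    rw [this, CategoryTheory.Functor.map_comp, hq, seq_map_succ]
    exact zsmul_id_comp F _ _

lemma seq_map_eq {n k : ℕ} (a : n ⟶ k) :
    ∃ q : S, (seq F e).map a = (((q : ℤ)) • 𝟙 F : F ⟶ F) := by
  have : a = homOfLE (leOfHom a) := Subsingleton.elim _ _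
  rw [this]
  exact seq_map_eq' F e n k (leOfHom a)

end Seq

section Cocone

variable {S : Submonoid ℤ} (F G : EtCoh.Ab X) (φ : F ⟶ G) (e : ℕ → S)
  (hS : ∀ s : S, IsIso (((s : ℤ)) • 𝟙 G : G ⟶ G))

/-- the legs of the cocone: `φ` divided by `e 0 * … * e (n-1)` -/
noncomputable def leg : ℕ → (F ⟶ G)
  | 0 => φ
  | n + 1 => leg n ≫ @inv _ _ _ _ (((e n : ℤ)) • 𝟙 G : G ⟶ G) (hS (e n))

lemma leg_zero : leg F G φ e hS 0 = φ := rfl

lemma leg_succ (n : ℕ) : leg F G φ e hS (n + 1) =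
    leg F G φ e hS n ≫ @inv _ _ _ _ (((e n : ℤ)) • 𝟙 G : G ⟶ G) (hS (e n)) := rfl

lemma smul_leg_succ (n : ℕ) :
    ((e n : ℤ)) • leg F G φ e hS (n + 1) = leg F G φ e hS n := by
  haveI := hS (e n)
  rw [leg_succ, ← Preadditive.zsmul_comp]
  have : ((e n : ℤ)) • leg F G φ e hS n = leg F G φ e hS n ≫ (((e n : ℤ)) • 𝟙 G : G ⟶ G) := by
    rw [Preadditive.comp_zsmul, Category.comp_id]
  rw [this, Category.assoc, IsIso.hom_inv_id, Category.comp_id]

lemma exists_smul_leg (n : ℕ) : ∃ s : S, ((s : ℤ)) • leg F G φ e hS n = φ := by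
  induction n with
  | zero => exact ⟨1, by simp [leg_zero]⟩
  | succ n ih =>
    obtain ⟨s, hs⟩ := ih
    refine ⟨s * e n, ?_⟩
    rw [Submonoid.coe_mul, mul_smul, smul_leg_succ, hs]

/-- the cocone over the sequence with point `G` -/
noncomputable def cocone : Cocone (seq F e) where
  pt := G
  ι := NatTrans.ofSequence (fun n => leg F G φ e hS n) (fun n => by
    rw [seq_map_succ]
    show (((e n : ℤ)) • 𝟙 F : F ⟶ F) ≫ leg F G φ e hS (n + 1) = leg F G φ e hS n ≫ 𝟙 G
    rw [Preadditive.zsmul_comp, Category.id_comp, smul_leg_succ, Category.comp_id])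

lemma cocone_ι_app (n : ℕ) : (cocone F G φ e hS).ι.app n = leg F G φ e hS n := rfl

end Cocone

section IsColimit

variable {S : Submonoid ℤ} (F G : EtCoh.Ab X) (φ : F ⟶ G) (e : ℕ → S)
  (hS : ∀ s : S, IsIso (((s : ℤ)) • 𝟙 G : G ⟶ G))

lemma comp_app_apply {A B C : EtCoh.Ab X} (f : A ⟶ B) (g : B ⟶ C) (U : X.Etale)
    (s : EtCoh.sect A U) :
    ((f ≫ g).hom.app (op U)).hom s = (g.hom.app (op U)).hom ((f.hom.app (op U)).hom s) := rfl

lemma leg_succ_apply (m : ℕ) (U : X.Etale) (y : EtCoh.sect F U) (t : EtCoh.sect G U)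
    (h : ((leg F G φ e hS m).hom.app (op U)).hom y = ((e m : ℤ)) • t) :
    ((leg F G φ e hS (m + 1)).hom.app (op U)).hom y = t := by
  have := hS (e m)
  rw [leg_succ, comp_app_apply, h]
  have h3 := congrArg (fun k => (k.hom.app (op U)).hom t)
    (IsIso.hom_inv_id (((e m : ℤ)) • 𝟙 G : G ⟶ G))
  simp only [comp_app_apply] at h3
  rw [zsmul_app_apply] at h3
  exact h3

lemma leg_apply_seq_map (n m : ℕ) (h : n ≤ m) (U : X.Etale) (x : EtCoh.sect F U) :
    ((leg F G φ e hS m).hom.app (op U)).hom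
      ((((seq F e).map (homOfLE h)).hom.app (op U)).hom x) =
    ((leg F G φ e hS n).hom.app (op U)).hom x := by
  have hw := (cocone F G φ e hS).w (homOfLE h)
  rw [cocone_ι_app, cocone_ι_app] at hw
  exact congrArg (fun k => (k.hom.app (op U)).hom x) hw

lemma phi_apply_eq_zero (n : ℕ) (U : X.Etale) (x : EtCoh.sect F U)
    (hx : ((leg F G φ e hS n).hom.app (op U)).hom x = 0) : (φ.hom.app (op U)).hom x = 0 := by
  obtain ⟨s, hs⟩ := exists_smul_leg F G φ e hS n
  rw [← hs, zsmul_app_apply, hx, smul_zero]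

lemma seq_map_apply_eq_zero (n m : ℕ) (h : n ≤ m) (U : X.Etale) (x : EtCoh.sect F U)
    (hx : ((e m : ℤ)) • x = 0) :
    (((seq F e).map (homOfLE (h.trans (Nat.le_succ m)))).hom.app (op U)).hom x = 0 := by
  have h3 : homOfLE (h.trans (Nat.le_succ m)) =
      homOfLE h ≫ homOfLE (Nat.le_add_right m 1) := rfl
  obtain ⟨q, hq⟩ := seq_map_eq F e (homOfLE h)
  rw [h3, CategoryTheory.Functor.map_comp, hq, seq_map_succ]
  show (((((e m : ℤ)) • 𝟙 F : F ⟶ F)).hom.app (op U)).hom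
    ((((((q : ℤ)) • 𝟙 F : F ⟶ F)).hom.app (op U)).hom x) = 0
  rw [zsmul_app_apply, zsmul_app_apply]
  show ((e m : ℤ)) • ((q : ℤ)) • x = 0
  rw [smul_comm, hx, smul_zero]

/-- the cocone is a colimit cocone as soon as `φ` is a localization at `S` on affine sections and
`e` enumerates `S` with infinite repetition -/
theorem nonempty_isColimit_cocone
    (hφ : ∀ U : X.Etale, IsAffine U.left →
      IsLocalizedModule S (φ.hom.app (op U)).hom.toIntLinearMap)
    (he : ∀ (s : S) (n : ℕ), ∃ m, n ≤ m ∧ e m = s) :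
    Nonempty (IsColimit (cocone F G φ e hS)) := by
  apply isColimit_of_sections'
  · intro U hU t
    have := hφ U hU
    obtain ⟨⟨x, s⟩, hx⟩ := IsLocalizedModule.surj S (φ.hom.app (op U)).hom.toIntLinearMap t
    obtain ⟨m, -, hm⟩ := he s 0
    let y : EtCoh.sect F U := (((seq F e).map (homOfLE (Nat.zero_le m))).hom.app (op U)).hom x
    have h1 : ((leg F G φ e hS m).hom.app (op U)).hom y = ((e m : ℤ)) • t := by
      refine (leg_apply_seq_map F G φ e hS 0 m (Nat.zero_le m) U x).trans ?_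
      rw [hm]
      exact hx.symm
    exact ⟨m + 1, y, leg_succ_apply F G φ e hS m U y t h1⟩
  · intro U hU n x hx
    have := hφ U hU
    have h1 : (φ.hom.app (op U)).hom x = 0 := phi_apply_eq_zero F G φ e hS n U x hx
    have h2 : (φ.hom.app (op U)).hom.toIntLinearMap x = (φ.hom.app (op U)).hom.toIntLinearMap 0 := by
      rw [map_zero]
      exact h1
    obtain ⟨c, hc⟩ := IsLocalizedModule.exists_of_eq (S := S) h2
    rw [smul_zero] at hc
    obtain ⟨m, hnm, hm⟩ := he c n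
    refine ⟨m + 1, homOfLE (hnm.trans (Nat.le_succ m)), ?_⟩
    apply seq_map_apply_eq_zero F e n m hnm U x
    rw [hm]
    exact hc

end IsColimit

section Coh

open Groth.Agent.H69.EtColimH

theorem preservesColimitsOfShape_HF_nat (X : Scheme.{u}) [CompactSpace X] [QuasiSeparatedSpace X]
    (n : ℕ) : PreservesColimitsOfShape ℕ (EtCoh.HF X n) := by
  let e : ℕ ≌ AsSmall.{u + 1} ℕ := AsSmall.equiv
  have : IsFiltered (AsSmall.{u + 1} ℕ) := IsFiltered.of_equivalence e
  have := preservesColimitsOfShape_HF (Λ := AsSmall.{u + 1} ℕ) X n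
  exact preservesColimitsOfShape_of_equiv e.symm (EtCoh.HF X n)

lemma isIso_zsmul_of_isLocalizedModule {S : Submonoid ℤ} {F G : EtCoh.Ab X} (φ : F ⟶ G)
    (hφ : ∀ U : X.Etale, IsAffine U.left →
      IsLocalizedModule S (φ.hom.app (op U)).hom.toIntLinearMap) (s : S) :
    IsIso (((s : ℤ)) • 𝟙 G : G ⟶ G) := by
  apply isIso_of_affine
  intro U hU
  have := hφ U hU
  have h1 := IsLocalizedModule.map_units (S := S) (φ.hom.app (op U)).hom.toIntLinearMap s
  rw [Module.End.isUnit_iff] at h1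
  have h2 : ⇑(((((s : ℤ)) • 𝟙 G : G ⟶ G)).hom.app (op U)) =
      ⇑((algebraMap ℤ (Module.End ℤ (G.obj.obj (op U)))) (s : ℤ)) := by
    funext x
    refine (zsmul_app_apply (𝟙 G) (s : ℤ) U x).trans ?_
    rw [Module.algebraMap_end_apply]
    rfl
  rw [h2]
  exact h1

lemma HF_map_zsmul_apply (i : ℕ) {F G : EtCoh.Ab X} (f : F ⟶ G) (n : ℤ) (x : EtCoh.H X F i) :
    ((EtCoh.HF X i).map (n • f)).hom x = n • ((EtCoh.HF X i).map f).hom x := by
  have h1 : (EtCoh.HF X i).map (n • f) = n • (EtCoh.HF X i).map f := Functor.map_zsmul _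
  exact congrArg (fun k => k.hom x) h1

/-- cohomology of a qcqs scheme commutes with localization at a submonoid of `ℤ` -/
theorem isLocalizedModule_HF (X : Scheme.{u}) [CompactSpace X] [QuasiSeparatedSpace X]
    (S : Submonoid ℤ) (F G : EtCoh.Ab X) (φ : F ⟶ G)
    (hφ : ∀ U : X.Etale, IsAffine U.left →
      IsLocalizedModule S (φ.hom.app (op U)).hom.toIntLinearMap)
    (i : ℕ) : IsLocalizedModule S ((EtCoh.HF X i).map φ).hom.toIntLinearMap := by
  have hS : ∀ s : S, IsIso (((s : ℤ)) • 𝟙 G : G ⟶ G) := isIso_zsmul_of_isLocalizedModule φ hφ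
  obtain ⟨e, he⟩ := exists_enum S
  obtain ⟨hc⟩ := nonempty_isColimit_cocone F G φ e hS hφ he
  have := preservesColimitsOfShape_HF_nat X i
  have hcH : IsColimit ((EtCoh.HF X i).mapCocone (cocone F G φ e hS)) :=
    isColimitOfPreserves (EtCoh.HF X i) hc
  have := preservesColimitsOfShape_forget'.{0, 0, u} ℕ
  refine ⟨?_, ?_, ?_⟩
  · intro s
    rw [Module.End.isUnit_iff]
    have := hS s
    have h1 : IsIso ((EtCoh.HF X i).map (((s : ℤ)) • 𝟙 G : G ⟶ G)) := inferInstance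
    have h2 : Function.Bijective ((EtCoh.HF X i).map (((s : ℤ)) • 𝟙 G : G ⟶ G)).hom :=
      ConcreteCategory.bijective_of_isIso _
    have h3 : ⇑((algebraMap ℤ (Module.End ℤ ((EtCoh.HF X i).obj G))) (s : ℤ)) =
        ⇑((EtCoh.HF X i).map (((s : ℤ)) • 𝟙 G : G ⟶ G)).hom := by
      funext x
      rw [Module.algebraMap_end_apply]
      refine Eq.trans ?_ (HF_map_zsmul_apply i (𝟙 G) (s : ℤ) x).symm
      rw [CategoryTheory.Functor.map_id]
      rfl
    rw [h3]
    exact h2
  · intro y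
    obtain ⟨n, x, hx⟩ := Concrete.isColimit_exists_rep (seq F e ⋙ EtCoh.HF X i) hcH y
    obtain ⟨s, hs⟩ := exists_smul_leg F G φ e hS n
    refine ⟨(x, s), ?_⟩
    have hx' : ((EtCoh.HF X i).map (leg F G φ e hS n)).hom x = y := hx
    show ((s : ℤ)) • y = ((EtCoh.HF X i).map φ).hom x
    rw [← hs, HF_map_zsmul_apply, hx']
  · intro x₁ x₂ h
    have h' : ((EtCoh.HF X i).mapCocone (cocone F G φ e hS)).ι.app 0 x₁ =
        ((EtCoh.HF X i).mapCocone (cocone F G φ e hS)).ι.app 0 x₂ := h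
    obtain ⟨k, f, g, hk⟩ :=
      Concrete.isColimit_exists_of_rep_eq (seq F e ⋙ EtCoh.HF X i) hcH x₁ x₂ h'
    obtain rfl : f = g := Subsingleton.elim _ _
    obtain ⟨q, hq⟩ := seq_map_eq F e f
    refine ⟨q, ?_⟩
    have hk' : ((EtCoh.HF X i).map ((seq F e).map f)).hom x₁ =
        ((EtCoh.HF X i).map ((seq F e).map f)).hom x₂ := hk
    have h5 : ∀ x : EtCoh.H X F i,
        ((EtCoh.HF X i).map ((seq F e).map f)).hom x = ((q : ℤ)) • x := by
      intro x
      have h6 : ((seq F e).map f : F ⟶ F) = (((q : ℤ)) • 𝟙 F : F ⟶ F) := hq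
      have h7 : ((EtCoh.HF X i).map ((seq F e).map f : F ⟶ F)).hom x =
          ((EtCoh.HF X i).map (((q : ℤ)) • 𝟙 F : F ⟶ F)).hom x :=
        congrArg (fun k : F ⟶ F => ((EtCoh.HF X i).map k).hom x) h6
      refine h7.trans ?_
      rw [HF_map_zsmul_apply, CategoryTheory.Functor.map_id]
      rfl
    rw [h5, h5] at hk'
    exact hk'

end Coh

end Groth.Agent.H60.LocColim
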