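import Groth.Agent.H31.ExtZeroS

open CategoryTheory Limits Opposite DirectSum
open scoped Classical
universe u

namespace Groth.Agent.H60.ModShriek

open Groth.Agent.H31.ExtZero

variable {C : Type u} [SmallCategory C] {J : GrothendieckTopology C} (A : Sheaf J RingCat.{u})
  (X : C)

/-- the explicit model of extension by zero of sheaves of modules over a sheaf of rings -/
noncomputable def extS : SheafOfModules.{u} (A.over X) ⥤ SheafOfModules.{u} A :=
  SheafOfModules.forget (A.over X) ⋙ extP A.obj X ⋙
    PresheafOfModules.sheafification.{u} (𝟙 A.obj)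

/-- Mathlib's pullback is the explicit model -/
noncomputable def pullIso : SheafOfModules.pullback.{u} (𝟙 (A.over X)) ≅ extS A X :=
  SheafOfModules.pullbackIso.{u} (𝟙 (A.over X)) ≪≫
    Functor.isoWhiskerLeft _ (Functor.isoWhiskerRight (extPIsoPullback A.obj X).symm _)

instance : (extS A X).PreservesMonomorphisms := by
  have h1 : (SheafOfModules.forget (A.over X)).PreservesMonomorphisms :=
    Functor.preservesMonomorphisms_of_adjunction
      (PresheafOfModules.sheafificationAdjunction (𝟙 (A.over X).obj))
  have h2 : PreservesFiniteLimits (PresheafOfModules.sheafification.{u} (𝟙 A.obj)) :=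
    inferInstance
  have h3 : (PresheafOfModules.sheafification.{u} (𝟙 A.obj)).PreservesMonomorphisms :=
    inferInstance
  have h0 : (extP A.obj X).PreservesMonomorphisms := inferInstance
  have h4 : (extP A.obj X ⋙
      PresheafOfModules.sheafification.{u} (𝟙 A.obj)).PreservesMonomorphisms :=
    @Functor.preservesMonomorphisms_comp _ _ _ _ _ _ _ _ h0 h3
  exact @Functor.preservesMonomorphisms_comp _ _ _ _ _ _ _ _ h1 h4

instance additive_overFunctor : (SheafOfModules.overFunctor.{u} A X).Additive where

instance isRightAdjoint_overFunctor : (SheafOfModules.overFunctor.{u} A X).IsRightAdjoint :=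
  inferInstanceAs (SheafOfModules.pushforward.{u} (𝟙 (A.over X))).IsRightAdjoint

/-- the standard adjunction -/
noncomputable abbrev adj₀ :
    SheafOfModules.pullback.{u} (𝟙 (A.over X)) ⊣ SheafOfModules.overFunctor.{u} A X :=
  SheafOfModules.pullbackPushforwardAdjunction.{u} (𝟙 (A.over X))

instance additive_pullback : (SheafOfModules.pullback.{u} (𝟙 (A.over X))).Additive :=
  (adj₀ A X).left_adjoint_additive

instance preservesMonomorphisms_pullback :
    (SheafOfModules.pullback.{u} (𝟙 (A.over X))).PreservesMonomorphisms :=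
  Functor.PreservesMonomorphisms.of_iso (pullIso A X).symm

theorem preservesFiniteColimits_pullback :
    PreservesFiniteColimits (SheafOfModules.pullback.{u} (𝟙 (A.over X))) := by
  have : PreservesColimitsOfSize.{0, 0} (SheafOfModules.pullback.{u} (𝟙 (A.over X))) :=
    (adj₀ A X).leftAdjoint_preservesColimits
  exact PreservesColimitsOfSize.preservesFiniteColimits _

theorem preservesFiniteLimits_pullback :
    PreservesFiniteLimits (SheafOfModules.pullback.{u} (𝟙 (A.over X))) := by
  have hc := preservesFiniteColimits_pullback A X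
  rw [Functor.preservesFiniteLimits_iff_forall_exact_map_and_mono]
  intro S hS
  have := hS.mono_f
  exact ⟨((Functor.preservesFiniteColimits_iff_forall_exact_map_and_epi _).1 hc S hS).1,
    inferInstance⟩

/-- if sheafification kills `ψ`, then `ψ` has locally zero values -/
lemma locZero_of_sheafification_map_eq_zero {P P' : PresheafOfModules.{u} A.obj} (ψ : P ⟶ P')
    (h : (PresheafOfModules.sheafification.{u} (𝟙 A.obj)).map ψ = 0) (W : C)
    (y : P.obj (op W)) :
    ∃ S ∈ J W, ∀ ⦃Z : C⦄ (k : Z ⟶ W), S k → P'.map k.op (ψ.app (op W) y) = 0 := by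
  have nat := (PresheafOfModules.sheafificationAdjunction (𝟙 A.obj)).unit.naturality ψ
  have h0 : ψ ≫ (PresheafOfModules.sheafificationAdjunction (𝟙 A.obj)).unit.app P' = 0 := by
    erw [nat]
    rw [Functor.comp_map, h, Functor.map_zero, comp_zero]
  have h1 := congrArg (fun t => (PresheafOfModules.toPresheaf _).map t) h0
  simp only [Functor.map_comp, PresheafOfModules.toPresheaf_map_sheafificationAdjunction_unit_app]
    at h1
  have h2 : (CategoryTheory.toSheafify J P'.presheaf).app (op W) (ψ.app (op W) y) =
      (CategoryTheory.toSheafify J P'.presheaf).app (op W) 0 := by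
    rw [map_zero]
    exact ConcreteCategory.congr_hom (NatTrans.congr_app h1 (op W)) y
  have h3 := Presheaf.equalizerSieve_mem J (CategoryTheory.toSheafify J P'.presheaf) _ _ h2
  refine ⟨_, h3, fun Z k hk => ?_⟩
  have h4 : P'.presheaf.map k.op (ψ.app (op W) y) = P'.presheaf.map k.op 0 := hk
  rw [map_zero] at h4
  exact h4

/-- two sections of a sheaf of modules agree if they agree on a covering sieve -/
lemma sect_ext_of_sieve {D : Type u} [SmallCategory D] {K : GrothendieckTopology D}
    {R' : Sheaf K RingCat.{u}} (N : SheafOfModules.{u} R') {W : D} (S : Sieve W) (hS : S ∈ K W)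
    (a b : N.val.obj (op W))
    (h : ∀ ⦃Z : D⦄ (g : Z ⟶ W), S g → N.val.map g.op a = N.val.map g.op b) : a = b := by
  have hsh : Presieve.IsSheaf K (N.val.presheaf ⋙ forget _) :=
    (isSheaf_iff_isSheaf_of_type _ _).1
      ((Presheaf.isSheaf_iff_isSheaf_forget K N.val.presheaf (forget _)).1 N.isSheaf)
  exact (hsh.isSeparated _ hS).ext (fun Z g hg => h g hg)

lemma inc_injective' {R : Cᵒᵖ ⥤ RingCat.{u}} (P : PresheafOfModules.{u} (ringOver R X)) (W : C)
    (φ : W ⟶ X) : Function.Injective (inc P W φ) :=
  DirectSum.of_injective (β := fun φ : W ⟶ X => summand P W φ) φ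

lemma app_eq_zero_of_extS_map_eq_zero {P P' : SheafOfModules.{u} (A.over X)} (f : P ⟶ P')
    (h : (extS A X).map f = 0) (W : C) (φ : W ⟶ X) (x : P.val.obj (op (Over.mk φ))) :
    f.val.app (op (Over.mk φ)) x = 0 := by
  let ψ := (extP A.obj X).map ((SheafOfModules.forget (A.over X)).map f)
  have h' : (PresheafOfModules.sheafification.{u} (𝟙 A.obj)).map ψ = 0 := h
  obtain ⟨S, hS, hS'⟩ := locZero_of_sheafification_map_eq_zero A ψ h' W
    (inc (R := A.obj) P.val W φ x)
  refine sect_ext_of_sieve P' ((Sieve.overEquiv (Over.mk φ)).symm S)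
    (GrothendieckTopology.overEquiv_symm_mem_over J (Over.mk φ) S hS) _ 0 ?_
  intro Z k hk
  have hk' : S k.left := hk
  have h1 := hS' k.left hk'
  have h2 : ψ.app (op W) (inc (R := A.obj) P.val W φ x) =
      inc (R := A.obj) P'.val W φ (f.val.app (op (Over.mk φ)) x) :=
    extMap_app_inc (R := A.obj) _ (op W) φ x
  have h3 : (extObj (R := A.obj) P'.val).map k.left.op
      (inc (R := A.obj) P'.val W φ (f.val.app (op (Over.mk φ)) x)) = 0 :=
    (congrArg (fun t => (extObj (R := A.obj) P'.val).map k.left.op t) h2).symm.trans h1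
  have h3' := (extObj_map_inc (R := A.obj) (P := P'.val) k.left.op φ
    (f.val.app (op (Over.mk φ)) x)).symm.trans h3
  have h4 := inc_injective' (R := A.obj) X P'.val _ _ (h3'.trans (map_zero _).symm)
  have key : ∀ (Zh : Z.left ⟶ X) (w : k.left ≫ φ = Zh),
      P'.val.map (Over.homMk k.left w : Over.mk Zh ⟶ Over.mk φ).op
        (f.val.app (op (Over.mk φ)) x) = 0 := by
    intro Zh w
    subst w
    exact h4
  have hk_eq : k = (Over.homMk k.left (Over.w k) : Over.mk Z.hom ⟶ Over.mk φ) := by
    ext
    rfl
  rw [map_zero, hk_eq]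
  exact key Z.hom (Over.w k)

lemma eq_zero_of_extS_map_eq_zero {P P' : SheafOfModules.{u} (A.over X)} (f : P ⟶ P')
    (h : (extS A X).map f = 0) : f = 0 := by
  apply SheafOfModules.hom_ext
  apply PresheafOfModules.hom_ext
  intro Y
  ext x
  exact app_eq_zero_of_extS_map_eq_zero A X f h Y.unop.left Y.unop.hom x

instance additive_extS : (extS A X).Additive :=
  Functor.additive_of_iso (pullIso A X)

instance faithful_extS : (extS A X).Faithful where
  map_injective {P P'} f g h := by
    have : (extS A X).map (f - g) = 0 := by rw [Functor.map_sub, h, sub_self]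
    exact sub_eq_zero.1 (eq_zero_of_extS_map_eq_zero A X _ this)

instance faithful_pullback : (SheafOfModules.pullback.{u} (𝟙 (A.over X))).Faithful :=
  Functor.Faithful.of_iso (pullIso A X).symm

/-- any left adjoint of the restriction functor is exact and faithful -/
theorem exact_faithful_of_adj (L : SheafOfModules.{u} (A.over X) ⥤ SheafOfModules.{u} A)
    (adj : L ⊣ SheafOfModules.overFunctor.{u} A X) :
    PreservesFiniteLimits L ∧ PreservesFiniteColimits L ∧ L.Faithful := by
  let e : SheafOfModules.pullback.{u} (𝟙 (A.over X)) ≅ L := (adj₀ A X).leftAdjointUniq adj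
  have h1 := preservesFiniteLimits_pullback A X
  have h2 := preservesFiniteColimits_pullback A X
  exact ⟨preservesFiniteLimits_of_natIso e, preservesFiniteColimits_of_natIso e,
    Functor.Faithful.of_iso e⟩

end Groth.Agent.H60.ModShriek
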