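import Groth.Agent.H31.PushAcyc

namespace Groth.Agent.H60.OverAcyc

open CategoryTheory Abelian Limits Opposite AlgebraicTopology Simplicial
open Groth.Agent.H31.SieveExt Groth.Agent.H31.LocTriv Groth.Agent.H31.PushAdj
open Groth.Agent.H31 Groth.Agent.H31.PushAcyc

universe u

variable {C D : Type u} [SmallCategory C] [SmallCategory D]
  {J : GrothendieckTopology C} {K : GrothendieckTopology D} {u : D ⥤ C} [u.IsContinuous K J]
  {T' T : Sheaf K (Type u)} (f : T' ⟶ T)

lemma quasiIso_WG' [Epi f]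
    (hG : ∀ n : ℕ, PreservesLimitsOfShape (WidePullbackShape (Fin (n + 1))) (Gam J K u)) :
    QuasiIso (AlternatingFaceMapComplex.ε.app (WG J u f)) := by
  have : Epi ((Gam J K u).map f) := by
    have h1 : (Gam J K u).PreservesEpimorphisms :=
      (Gam J K u).preservesEpimorphisms_of_adjunction (adjS J K u)
    exact (Gam J K u).map_epi f
  have hG' : ∀ n : ℕ, PreservesLimit
      (WidePullbackShape.wideCospan (Arrow.mk f).right (fun _ : Fin (n + 1) => (Arrow.mk f).left)
        fun _ => (Arrow.mk f).hom) (Gam J K u) := fun n => (hG n).preservesLimit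
  rw [CechRes.quasiIso_ε_iff_of_iso (((SimplicialObject.Augmented.whiskering _ _).obj
    (Sheaf.composeAndSheafify J AddCommGrpCat.free.{u})).mapIso
      (CechExtra.augmentedCechNerveIso (Arrow.mk f) (Gam J K u)))]
  exact CechRes.quasiIso_free_cechNerve ((Gam J K u).map f)

/-- direct images along a continuous functor whose inverse image on sheaves of sets preserves
wide pullbacks preserve total acyclicity -/
theorem isTotallyAcyclic_push'
    (hG : ∀ n : ℕ, PreservesLimitsOfShape (WidePullbackShape (Fin (n + 1))) (Gam J K u))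
    (F : Sheaf J AddCommGrpCat.{u})
    (hF : CohCx.IsTotallyAcyclic F) :
    CohCx.IsTotallyAcyclic ((CohSite.push J K u).obj F) := by
  apply CechAcyc.isTotallyAcyclic_of_cech
  intro T' T f hf q
  rw [← HomologicalComplex.exactAt_iff_isZero_homology,
    HomologicalComplex.exactAt_iff' _ q (q + 1) (q + 2) (by simp) (by simp),
    ShortComplex.ab_exact_iff]
  intro x hx
  let x0 : Zs K ((Arrow.mk f).cechNerve.obj (op ⦋q + 1⦌)).obj ⟶ (CohSite.push J K u).obj F := x
  have hx' : ((CechAcyc.PP f).d (q + 2) (q + 1) : Zs K ((Arrow.mk f).cechNerve.obj (op ⦋q + 1 + 1⦌)).obj ⟶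
        Zs K ((Arrow.mk f).cechNerve.obj (op ⦋q + 1⦌)).obj) ≫ x0 = 0 :=
    (CechAcyc.d_apply _ f (q + 1) x).symm.trans hx
  have hq := quasiIso_WG' (J := J) (u := u) f hG
  have hP : ∀ n, ResShift.Acyc F ((PG J u f).X n) := fun n j => hF _ j
  have hM : ResShift.Acyc F (WG J u f).right := fun j => hF _ j
  have hc : (PG J u f).d (q + 2) (q + 1) ≫
      (thetaAdd ((Arrow.mk f).cechNerve.obj (op ⦋q + 1⦌)) F x0 : (PG J u f).X (q + 1) ⟶ F) = 0 := by
    refine (theta_d f F (q + 1) x0).symm.trans ?_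
    exact (congrArg (thetaAdd ((Arrow.mk f).cechNerve.obj (op ⦋q + 1 + 1⦌)) F) hx').trans
      (map_zero _)
  obtain ⟨ψ, hψ⟩ := ResShift.exists_factor (AlternatingFaceMapComplex.ε.app (WG J u f)) hP hM q
    (thetaAdd ((Arrow.mk f).cechNerve.obj (op ⦋q + 1⦌)) F x0) hc
  let ψ0 : Zs J ((Gam J K u).obj ((Arrow.mk f).cechNerve.obj (op ⦋q⦌))).obj ⟶ F := ψ
  refine ⟨(thetaAdd ((Arrow.mk f).cechNerve.obj (op ⦋q⦌)) F).symm ψ0, ?_⟩
  refine (CechAcyc.d_apply _ f q _).trans ?_
  apply (thetaAdd ((Arrow.mk f).cechNerve.obj (op ⦋q + 1⦌)) F).injective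
  refine (theta_d f F q _).trans ?_
  rw [AddEquiv.apply_symm_apply]
  exact hψ

end Groth.Agent.H60.OverAcyc
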