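import Groth.Agent.H60.OverShriekSet
import Groth.Agent.H60.OverAcyc1

set_option autoImplicit false
open CategoryTheory CategoryTheory.Limits Opposite
universe u

namespace Groth.Agent.H60.OverShriekSet

variable {C : Type u} [SmallCategory C] (X : C) (J : GrothendieckTopology C)

/-- the sheaf-level extension by the empty set -/
noncomputable def shriekSh : Sheaf (J.over X) (Type u) ⥤ Sheaf J (Type u) :=
  sheafToPresheaf (J.over X) (Type u) ⋙ shriek X ⋙ presheafToSheaf J (Type u)

/-- the sheaf-level adjunction -/
noncomputable def adjSh :
    shriekSh X J ⊣ (Over.forget X).sheafPushforwardContinuous (Type u) (J.over X) J :=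
  ((adj X).comp (sheafificationAdjunction J (Type u))).restrictFullyFaithful
    (fullyFaithfulSheafToPresheaf (J.over X) (Type u)) (Functor.FullyFaithful.id _)
    (Iso.refl _) (Iso.refl _)

/-- comparison with the abstract inverse image -/
noncomputable def gamIso :
    (Over.forget X).sheafPullback (Type u) (J.over X) J ≅ shriekSh X J :=
  Adjunction.leftAdjointUniq ((Over.forget X).sheafAdjunctionContinuous (Type u) (J.over X) J)
    (adjSh X J)

instance preservesWidePullbacks_shriekSh (n : ℕ) :
    PreservesLimitsOfShape (WidePullbackShape (Fin (n + 1))) (shriekSh X J) := by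
  have h1 : PreservesLimitsOfShape (WidePullbackShape (Fin (n + 1))) (shriek X) :=
    preservesWidePullbacks_shriek X _
  have h2 : PreservesLimitsOfShape (WidePullbackShape (Fin (n + 1)))
      (presheafToSheaf J (Type u)) := inferInstance
  have h3 : PreservesLimitsOfShape (WidePullbackShape (Fin (n + 1)))
      (sheafToPresheaf (J.over X) (Type u)) := inferInstance
  unfold shriekSh
  infer_instance

theorem preservesWidePullbacks_gam (n : ℕ) :
    PreservesLimitsOfShape (WidePullbackShape (Fin (n + 1)))
      ((Over.forget X).sheafPullback (Type u) (J.over X) J) :=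
  preservesLimitsOfShape_of_natIso (gamIso X J).symm

/-- restriction to the localized site preserves total acyclicity -/
theorem isTotallyAcyclic_over (F : Sheaf J AddCommGrpCat.{u}) (hF : CohCx.IsTotallyAcyclic F) :
    CohCx.IsTotallyAcyclic
      (((Over.forget X).sheafPushforwardContinuous AddCommGrpCat.{u} (J.over X) J).obj F) :=
  Groth.Agent.H60.OverAcyc.isTotallyAcyclic_push' (J := J) (K := J.over X) (u := Over.forget X)
    (fun n => preservesWidePullbacks_gam X J n) F hF

end Groth.Agent.H60.OverShriekSet
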