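import Groth.Agent.H30.OverShriek
import Groth.Agent.H31.LeraySS
import Groth.Agent.H31.DeltaComp

set_option autoImplicit false
open CategoryTheory CategoryTheory.Limits Opposite
universe u

namespace Groth.Agent.H60.OverH

open Groth.Agent.H30.OverShriek

variable {C : Type u} [SmallCategory C] (J : GrothendieckTopology C) (U : C)

/-- restriction to `C/U` preserves locally surjective morphisms -/
lemma isLocallySurjective_restr {M N : Sheaf J AddCommGrpCat.{u}} (g : M ⟶ N)
    (hg : Sheaf.IsLocallySurjective g) : Sheaf.IsLocallySurjective ((restr J U).map g) := by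
  refine ⟨fun {Y} s => ?_⟩
  rw [GrothendieckTopology.mem_over_iff]
  have h := Presheaf.imageSieve_mem J g.hom (U := op Y.left) s
  refine J.superset_covering ?_ h
  intro Z f hf
  rw [Sieve.overEquiv_iff]
  obtain ⟨t, ht⟩ := hf
  exact ⟨t, ht⟩

instance preservesEpimorphisms_restr : (restr J U).PreservesEpimorphisms where
  preserves {M N} g hg := by
    rw [← Sheaf.isLocallySurjective_iff_epi'] at hg ⊢
    exact isLocallySurjective_restr J U g hg

instance preservesFiniteLimits_restr : PreservesFiniteLimits (restr J U) := by
  have := (shriekAdj J U).rightAdjoint_preservesLimits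
  infer_instance

instance preservesFiniteColimits_restr : PreservesFiniteColimits (restr J U) := by
  rw [Functor.preservesFiniteColimits_iff_forall_exact_map_and_epi]
  intro S hS
  have h1 := (Functor.preservesFiniteLimits_iff_forall_exact_map_and_mono (restr J U)).1
    (preservesFiniteLimits_restr J U) S hS
  have := hS.epi_g
  exact ⟨h1.1, inferInstance⟩

end Groth.Agent.H60.OverH
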