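import Mathlib

set_option autoImplicit false
open CategoryTheory CategoryTheory.Limits Opposite
universe u

namespace Groth.Agent.H60.OverShriekSet

variable {C : Type u} [SmallCategory C] (X : C)

section obj

variable {X} (P : (Over X)ᵒᵖ ⥤ Type u)

/-- sections of the extension by the empty set -/
abbrev Sec (U : Cᵒᵖ) : Type u := Σ φ : U.unop ⟶ X, P.obj (op (Over.mk φ))

lemma sec_ext {U : Cᵒᵖ} {φ φ' : U.unop ⟶ X} (h : φ = φ') (p : P.obj (op (Over.mk φ)))
    (p' : P.obj (op (Over.mk φ')))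
    (hp : P.map (Over.homMk (𝟙 _) (by rw [h]; exact Category.id_comp _) :
      Over.mk φ' ⟶ Over.mk φ).op p = p') :
    (⟨φ, p⟩ : Sec P U) = ⟨φ', p'⟩ := by
  subst h
  have : (Over.homMk (𝟙 _) (Category.id_comp _) : Over.mk φ ⟶ Over.mk φ) = 𝟙 _ := by
    ext
    rfl
  rw [this, op_id] at hp
  rw [← hp]
  simp

lemma map_map_op {Y Y' Y'' : Over X} (a : Y ⟶ Y') (b : Y' ⟶ Y'') (c : Y ⟶ Y'') (h : a ≫ b = c)
    (p : P.obj (op Y'')) : P.map a.op (P.map b.op p) = P.map c.op p := by
  subst h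
  rw [op_comp, Functor.map_comp_apply]

/-- restriction of sections -/
def secMap {U U' : Cᵒᵖ} (g : U ⟶ U') (x : Sec P U) : Sec P U' :=
  ⟨g.unop ≫ x.1, P.map (Over.homMk g.unop rfl : Over.mk (g.unop ≫ x.1) ⟶ Over.mk x.1).op x.2⟩

lemma secMap_mk {U U' : Cᵒᵖ} (g : U ⟶ U') (φ : U.unop ⟶ X) (p : P.obj (op (Over.mk φ))) :
    secMap P g ⟨φ, p⟩ = ⟨g.unop ≫ φ,
      P.map (Over.homMk g.unop rfl : Over.mk (g.unop ≫ φ) ⟶ Over.mk φ).op p⟩ := rfl

/-- the extension by the empty set of a presheaf on `C/X` -/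
def shriekObj : Cᵒᵖ ⥤ Type u where
  obj U := Sec P U
  map g := ↾(secMap P g)
  map_id U := by
    refine ConcreteCategory.hom_ext _ _ (fun x => ?_)
    obtain ⟨φ, p⟩ := x
    refine sec_ext P (Category.id_comp φ) _ _ ?_
    rw [← Functor.map_comp_apply, ← op_comp]
    have : (Over.homMk (𝟙 _) (by simp) : Over.mk φ ⟶ Over.mk ((𝟙 U).unop ≫ φ)) ≫
        (Over.homMk (𝟙 U).unop rfl : Over.mk ((𝟙 U).unop ≫ φ) ⟶ Over.mk φ) = 𝟙 _ := by
      ext
      simp
    rw [this]
    simp
  map_comp {U U' U''} g g' := by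
    refine ConcreteCategory.hom_ext _ _ (fun x => ?_)
    obtain ⟨φ, p⟩ := x
    show secMap P (g ≫ g') ⟨φ, p⟩ = secMap P g' (secMap P g ⟨φ, p⟩)
    rw [secMap_mk, secMap_mk, secMap_mk]
    refine sec_ext P (by simp) _ _ ?_
    rw [map_map_op P _ _ (Over.homMk (g'.unop ≫ g.unop) (by simp) :
        Over.mk (g'.unop ≫ g.unop ≫ φ) ⟶ Over.mk φ) (by ext; simp),
      map_map_op P _ _ (Over.homMk (g'.unop ≫ g.unop) (by simp) :
        Over.mk (g'.unop ≫ g.unop ≫ φ) ⟶ Over.mk φ) (by ext; simp)]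

end obj

section functor

variable {X}

/-- functoriality of the extension by the empty set -/
def shriekMap {P Q : (Over X)ᵒᵖ ⥤ Type u} (α : P ⟶ Q) : shriekObj P ⟶ shriekObj Q where
  app U := ↾fun x => ⟨x.1, α.app _ x.2⟩
  naturality U U' g := by
    refine ConcreteCategory.hom_ext _ _ (fun x => ?_)
    obtain ⟨φ, p⟩ := x
    show (⟨g.unop ≫ φ, α.app _ (P.map _ p)⟩ : Sec Q U') = ⟨g.unop ≫ φ, Q.map _ (α.app _ p)⟩
    congr 1
    exact ConcreteCategory.congr_hom (α.naturality _) p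

lemma shriekMap_app_mk {P Q : (Over X)ᵒᵖ ⥤ Type u} (α : P ⟶ Q) (U : Cᵒᵖ) (φ : U.unop ⟶ X)
    (p : P.obj (op (Over.mk φ))) :
    (shriekMap α).app U ⟨φ, p⟩ = ⟨φ, α.app _ p⟩ := rfl

variable (X)

/-- the extension by the empty set functor on presheaves of sets -/
def shriek : ((Over X)ᵒᵖ ⥤ Type u) ⥤ (Cᵒᵖ ⥤ Type u) where
  obj P := shriekObj P
  map α := shriekMap α
  map_id P := by
    ext U x
    rfl
  map_comp α β := by
    ext U x
    rfl

/-- restriction of presheaves to `C/X` -/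
abbrev restr : (Cᵒᵖ ⥤ Type u) ⥤ ((Over X)ᵒᵖ ⥤ Type u) :=
  (Functor.whiskeringLeft (Over X)ᵒᵖ Cᵒᵖ (Type u)).obj (Over.forget X).op

variable {X}

/-- the forward map of the adjunction -/
def homTo {P : (Over X)ᵒᵖ ⥤ Type u} {Q : Cᵒᵖ ⥤ Type u} (α : shriekObj P ⟶ Q) :
    P ⟶ (restr X).obj Q where
  app Y := ↾fun p => α.app (op Y.unop.left) ⟨Y.unop.hom, p⟩
  naturality Y Y' g := by
    refine ConcreteCategory.hom_ext _ _ (fun p => ?_)
    have h1 := ConcreteCategory.congr_hom (α.naturality g.unop.left.op) ⟨Y.unop.hom, p⟩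
    show α.app (op Y'.unop.left) ⟨Y'.unop.hom, P.map g p⟩ =
      Q.map g.unop.left.op (α.app (op Y.unop.left) ⟨Y.unop.hom, p⟩)
    refine Eq.trans ?_ h1
    show α.app (op Y'.unop.left) ⟨Y'.unop.hom, P.map g p⟩ =
      α.app (op Y'.unop.left) (secMap P g.unop.left.op ⟨Y.unop.hom, p⟩)
    congr 1
    rw [secMap_mk]
    symm
    refine sec_ext P (Over.w g.unop) _ _ ?_
    exact map_map_op P _ _ g.unop (by ext; simp) p

/-- the backward map of the adjunction -/
def homFrom {P : (Over X)ᵒᵖ ⥤ Type u} {Q : Cᵒᵖ ⥤ Type u} (β : P ⟶ (restr X).obj Q) :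
    shriekObj P ⟶ Q where
  app U := ↾fun x => β.app (op (Over.mk x.1)) x.2
  naturality U U' g := by
    refine ConcreteCategory.hom_ext _ _ (fun x => ?_)
    obtain ⟨φ, p⟩ := x
    exact ConcreteCategory.congr_hom (β.naturality
      (Over.homMk g.unop rfl : Over.mk (g.unop ≫ φ) ⟶ Over.mk φ).op) p

variable (X)

/-- extension by the empty set is left adjoint to restriction -/
def adj : shriek X ⊣ restr X :=
  Adjunction.mkOfHomEquiv
    { homEquiv := fun P Q =>
        { toFun := fun α => homTo α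
          invFun := fun β => homFrom β
          left_inv := fun α => by
            ext U x
            obtain ⟨φ, p⟩ := x
            rfl
          right_inv := fun β => by
            ext Y p
            rfl }
      homEquiv_naturality_left_symm := fun {P P' Q} f g => by
        ext U x
        obtain ⟨φ, p⟩ := x
        rfl
      homEquiv_naturality_right := fun {P Q Q'} f g => by
        ext Y p
        rfl }

end functor

section preserves

universe w w'

variable {K : Type w} [Category.{w'} K] (t : K) (τ : ∀ j : K, j ⟶ t)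

include τ in
/-- extension by the empty set preserves limits indexed by categories with a weakly terminal
object (e.g. wide pullbacks) -/
theorem preservesLimit_shriek (F : K ⥤ (Over X)ᵒᵖ ⥤ Type u) : PreservesLimit F (shriek X) := by
  refine ⟨fun {c} hc => ⟨evaluationJointlyReflectsLimits _ (fun U => ?_)⟩⟩
  refine Nonempty.some ((Types.isLimit_iff _).2 ?_)
  intro s hs
  obtain ⟨φ, hφt⟩ : ∃ φ, (s t).1 = φ := ⟨_, rfl⟩
  have hφ : ∀ j, (s j).1 = φ := fun j => by
    have := hs (τ j)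
    exact (congrArg Sigma.fst this).trans hφt
  have : ∀ j, ∃ p : (F.obj j).obj (op (Over.mk φ)), s j = ⟨φ, p⟩ := fun j => by
    have h := hφ j
    rcases hsj : s j with ⟨φj, pj⟩
    rw [hsj] at h
    dsimp at h
    subst h
    exact ⟨pj, rfl⟩
  choose p hp using this
  have hpc : ∀ {j j' : K} (f : j ⟶ j'), ((F.map f).app (op (Over.mk φ))) (p j) = p j' := by
    intro j j' f
    have := hs f
    rw [hp j, hp j'] at this
    have h2 : (⟨φ, (F.map f).app _ (p j)⟩ : Sec (F.obj j') U) = ⟨φ, p j'⟩ := this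
    exact eq_of_heq (Sigma.mk.inj h2).2
  have hcφ := isLimitOfPreserves ((evaluation (Over X)ᵒᵖ (Type u)).obj (op (Over.mk φ))) hc
  obtain ⟨x, hx, hxu⟩ := (Types.isLimit_iff _).1 ⟨hcφ⟩ p (fun {j j'} f => hpc f)
  refine ⟨⟨φ, x⟩, fun j => ?_, ?_⟩
  · rw [hp j]
    show (⟨φ, (c.π.app j).app _ x⟩ : Sec _ U) = ⟨φ, p j⟩
    congr 1
    exact hx j
  · rintro ⟨φ', x'⟩ h'
    have e : φ' = φ := by
      have := h' t
      rw [hp t] at this
      exact congrArg Sigma.fst this
    subst e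
    congr 1
    apply hxu
    intro j
    have := h' j
    rw [hp j] at this
    have h2 : (⟨φ', (c.π.app j).app _ x'⟩ : Sec _ U) = ⟨φ', p j⟩ := this
    exact eq_of_heq (Sigma.mk.inj h2).2

/-- the maps to the base object of a wide pullback shape -/
def toNone {ι : Type w} : ∀ j : WidePullbackShape ι, j ⟶ (none : WidePullbackShape ι)
  | none => WidePullbackShape.Hom.id _
  | some i => WidePullbackShape.Hom.term i

theorem preservesWidePullbacks_shriek (ι : Type w) :
    PreservesLimitsOfShape (WidePullbackShape ι) (shriek X) where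
  preservesLimit {F} := preservesLimit_shriek (K := WidePullbackShape ι) X none toNone F

end preserves

end Groth.Agent.H60.OverShriekSet
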