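import Groth.Agent.H60.LargeSite
import Groth.Agent.H27.ProEtFinAff
import Groth.Agent.H97.CoprodFiltered
import Groth.Prelude.Def_ProEtS

set_option autoImplicit false
set_option linter.style.haveILetI false
set_option backward.isDefEq.respectTransparency.types false
universe u
open CategoryTheory CategoryTheory.Limits AlgebraicGeometry Opposite

namespace Groth.Agent.H60.ProEtQC

variable {X : Scheme.{u}}

/-- objects of the small pro-etale site whose underlying scheme is qcqs -/
def QC (U : X.ProEt) : Prop := CompactSpace U.left ∧ QuasiSeparatedSpace U.left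

instance weaklyEtale_left {U V : X.ProEt} (g : V ⟶ U) : WeaklyEtale g.left := by
  have h1 : WeaklyEtale (g.left ≫ U.hom) := by
    rw [Over.w g.hom]
    infer_instance
  exact WeaklyEtale.of_comp g.left U.hom

/-- a family is in the pro-etale precoverage of the small site iff its image is. -/
lemma ofArrows_mem_precoverage_iff {U : X.ProEt} {ι : Type*} (V : ι → X.ProEt)
    (g : ∀ k, V k ⟶ U) :
    Presieve.ofArrows V g ∈ Scheme.ProEt.precoverage X U ↔
      Presieve.ofArrows (fun k => (V k).left) (fun k => (g k).left) ∈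
        Scheme.proetalePrecoverage U.left := by
  unfold Scheme.ProEt.precoverage
  rw [Precoverage.mem_comap_iff, Presieve.map_ofArrows]
  rfl


/-- a finite jointly surjective family of weakly etale maps from quasi-compact schemes to a
quasi-separated scheme is a pro-etale covering. -/
lemma mem_proetalePrecoverage_of_finite {Y : Scheme.{u}} [QuasiSeparatedSpace Y] {n : ℕ}
    (V : Fin n → Scheme.{u}) (g : ∀ k, V k ⟶ Y)
    [∀ k, WeaklyEtale (g k)] [∀ k, CompactSpace (V k)]
    (hsurj : ∀ x : Y, ∃ k, x ∈ Set.range (g k).base) :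
    Presieve.ofArrows V g ∈ Scheme.proetalePrecoverage Y := by
  let 𝒰 : Y.Cover (Scheme.precoverage @WeaklyEtale) :=
    { I₀ := Fin n
      X := V
      f := g
      mem₀ := by
        rw [Scheme.presieve₀_mem_precoverage_iff]
        exact ⟨hsurj, fun k => inferInstance⟩ }
  haveI : ∀ k, QuasiCompact (𝒰.f k) := fun k => quasiCompact_of_compactSpace (g k)
  haveI : Finite 𝒰.I₀ := inferInstanceAs (Finite (Fin n))
  haveI : QuasiCompactCover 𝒰.toPreZeroHypercover := QuasiCompactCover.of_finite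
  exact ⟨Scheme.presieve₀_mem_qcPrecoverage_iff.mpr ‹_›, 𝒰.mem₀⟩


lemma qc_of_iso {U V : X.ProEt} (e : U ≅ V) (h : QC U) : QC V := by
  obtain ⟨h1, h2⟩ := h
  let e' : U.left ≅ V.left := (Scheme.ProEt.forget X ⋙ Over.forget X).mapIso e
  exact ⟨QuasiCompact.compactSpace_of_compactSpace e'.inv,
    quasiSeparatedSpace_of_quasiSeparated e'.inv⟩

lemma qcqs_of_isPullback_scheme {P A B U : Scheme.{u}} {p : P ⟶ A} {q : P ⟶ B} {f : A ⟶ U}
    {g : B ⟶ U} (sq : IsPullback p q f g) [CompactSpace A] [QuasiSeparatedSpace A]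
    [CompactSpace B] [QuasiSeparatedSpace B] [QuasiSeparatedSpace U] :
    CompactSpace P ∧ QuasiSeparatedSpace P := by
  have : QuasiCompact g := quasiCompact_of_compactSpace g
  have : QuasiSeparated g := inferInstance
  have : CompactSpace ↑(pullback f g) := inferInstance
  have : QuasiSeparatedSpace ↑(pullback f g) :=
    quasiSeparatedSpace_of_quasiSeparated (pullback.fst f g)
  exact ⟨QuasiCompact.compactSpace_of_compactSpace sq.isoPullback.hom,
    quasiSeparatedSpace_of_quasiSeparated sq.isoPullback.hom⟩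

lemma qc_of_isPullback {P A B U : X.ProEt} {p : P ⟶ A} {q : P ⟶ B} {f : A ⟶ U} {g : B ⟶ U}
    (sq : IsPullback p q f g) (hA : QC A) (hB : QC B) (hU : QC U) : QC P := by
  obtain ⟨hA1, hA2⟩ := hA
  obtain ⟨hB1, hB2⟩ := hB
  obtain ⟨hU1, hU2⟩ := hU
  have sq' := sq.map (Scheme.ProEt.forget X ⋙ Over.forget X)
  exact @qcqs_of_isPullback_scheme _ _ _ _ _ _ _ _ sq' hA1 hA2 hB1 hB2 hU2

/-- an open subscheme of an object of the pro-etale site, as an object. -/
noncomputable def sub (V : X.ProEt) (W : V.left.Opens) : X.ProEt :=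
  Scheme.ProEt.mk (W.ι ≫ V.hom)

noncomputable def subι (V : X.ProEt) (W : V.left.Opens) : sub V W ⟶ V :=
  MorphismProperty.Over.homMk W.ι rfl trivial

lemma subι_left (V : X.ProEt) (W : V.left.Opens) : (subι V W).left = W.ι := rfl


lemma qc_sub_of_isAffineOpen (V : X.ProEt) (W : V.left.Opens) (hW : IsAffineOpen W) :
    QC (sub V W) := by
  have : IsAffine (W : Scheme) := hW
  exact ⟨(inferInstance : CompactSpace (W : Scheme)),
    (inferInstance : QuasiSeparatedSpace (W : Scheme))⟩

/-- a finite jointly surjective family with quasi-compact sources over a quasi-separated object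
generates a covering sieve. -/
lemma ofArrows_mem_topology_of_finite {U : X.ProEt} (hU : QuasiSeparatedSpace U.left) {n : ℕ}
    (V : Fin n → X.ProEt) (g : ∀ k, V k ⟶ U) (hc : ∀ k, CompactSpace (V k).left)
    (hsurj : ∀ x : U.left, ∃ k, x ∈ Set.range (g k).left.base) :
    Sieve.ofArrows V g ∈ Scheme.ProEt.topology X U := by
  refine Precoverage.generate_mem_toGrothendieck ((ofArrows_mem_precoverage_iff V g).2 ?_)
  exact mem_proetalePrecoverage_of_finite _ _ hsurj

lemma covfin (U : X.ProEt) (hU : QC U) (R : Sieve U) (hR : R ∈ Scheme.ProEt.topology X U) :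
    ∃ (n : ℕ) (V : Fin n → X.ProEt) (f : ∀ k, V k ⟶ U),
      (∀ k, QC (V k)) ∧ (∀ k, R.arrows (f k)) ∧ Sieve.ofArrows V f ∈ Scheme.ProEt.topology X U := by
  obtain ⟨hU1, hU2⟩ := hU
  obtain ⟨P, hP, hle⟩ := (Groth.Agent.H27.ProEtCov.mem_topology_iff U R).1 hR
  obtain ⟨n, V, g, W, hPg, -, hW, hx⟩ := Groth.Agent.H27.ProEtFinAff.main hP
  refine ⟨n, fun k => sub (V k) (W k), fun k => subι (V k) (W k) ≫ g k,
    fun k => qc_sub_of_isAffineOpen _ _ (hW k),
    fun k => R.downward_closed (hle _ _ (hPg k)) _, ?_⟩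
  refine ofArrows_mem_topology_of_finite hU2 _ _
    (fun k => (qc_sub_of_isAffineOpen _ _ (hW k)).1) fun x => ?_
  obtain ⟨k, w, hw, hwx⟩ := hx x
  exact ⟨k, ⟨w, hw⟩, hwx⟩


lemma cov (U : X.ProEt) : ∃ (ι : Type (u + 1)) (V : ι → X.ProEt) (g : ∀ i, V i ⟶ U),
    (∀ i, QC (V i)) ∧ Sieve.ofArrows V g ∈ Scheme.ProEt.topology X U := by
  refine ⟨ULift.{u + 1} U.left.affineOpens, fun W => sub U W.down.1, fun W => subι U W.down.1,
    fun W => qc_sub_of_isAffineOpen _ _ W.down.2, ?_⟩
  refine Precoverage.generate_mem_toGrothendieck ((ofArrows_mem_precoverage_iff _ _).2 ?_)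
  refine Scheme.zariskiPrecoverage_le_propQCPrecoverage _ ?_
  rw [Scheme.ofArrows_mem_precoverage_iff]
  refine ⟨fun x => ?_, fun W => ?_⟩
  · obtain ⟨W, hW, hxW, -⟩ := exists_isAffineOpen_mem_and_subset (x := x) (U := ⊤) trivial
    exact ⟨⟨⟨W, hW⟩⟩, ⟨x, hxW⟩, rfl⟩
  · exact (inferInstance : IsOpenImmersion W.down.1.ι)


/-- `X` itself is the terminal object of its small pro-etale site. -/
noncomputable def topIsTerminal (X : Scheme.{u}) : IsTerminal (Scheme.ProEt.mk (𝟙 X)) :=
  MorphismProperty.Over.mkIdTerminal @WeaklyEtale X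

lemma qc_top (X : Scheme.{u}) [CompactSpace X] [QuasiSeparatedSpace X] :
    QC (Scheme.ProEt.mk (𝟙 X)) :=
  ⟨(inferInstance : CompactSpace X), (inferInstance : QuasiSeparatedSpace X)⟩

lemma qc_of_isLimit [CompactSpace X] [QuasiSeparatedSpace X] {P A B : X.ProEt}
    {p : P ⟶ A} {q : P ⟶ B} (hl : IsLimit (BinaryFan.mk p q)) (hA : QC A) (hB : QC B) : QC P :=
  qc_of_isPullback (IsPullback.of_is_product' hl (topIsTerminal X)) hA hB (qc_top X)

lemma top (X : Scheme.{u}) [CompactSpace X] [QuasiSeparatedSpace X] :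
    ∃ (n : ℕ) (E : Fin n → X.ProEt), (∀ k, QC (E k)) ∧
      ∀ Y : X.ProEt, ∃ R ∈ Scheme.ProEt.topology X Y, ∀ ⦃Z : X.ProEt⦄ (f : Z ⟶ Y), R f →
        ∃ k, Nonempty (Z ⟶ E k) :=
  ⟨1, fun _ => Scheme.ProEt.mk (𝟙 X), fun _ => qc_top X, fun Y =>
    ⟨⊤, (Scheme.ProEt.topology X).top_mem Y, fun Z _ _ => ⟨0, ⟨(topIsTerminal X).from Z⟩⟩⟩⟩

theorem largeQC (X : Scheme.{u}) [CompactSpace X] [QuasiSeparatedSpace X] :
    LargeSite.LargeQC (Scheme.ProEt.topology X) (QC (X := X)) where
  iso e h := qc_of_iso e h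
  pb sq hA hB hU := qc_of_isPullback sq hA hB hU
  prod hl hA hB := qc_of_isLimit hl hA hB
  covfin U hU R hR := covfin U hU R hR
  cov E := cov E
  top := top X

/-- Pro-etale cohomology of a qcqs scheme commutes with filtered colimits. -/
theorem preservesColimitsOfShape_HPF (X : Scheme.{u}) [CompactSpace X] [QuasiSeparatedSpace X]
    (Λ : Type (u + 1)) [SmallCategory Λ] [IsFiltered Λ] (q : ℕ) :
    PreservesColimitsOfShape Λ (ProEtS.HPF X q) := by
  unfold ProEtS.HPF
  exact LargeSite.preservesColimitsOfShape_functorH (Scheme.ProEt.topology X) (largeQC X) Λ q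


/-- Pro-etale cohomology of a qcqs scheme commutes with arbitrary direct sums. -/
theorem preservesColimitsOfShape_discrete_HPF (X : Scheme.{u}) [CompactSpace X]
    [QuasiSeparatedSpace X] (n : ℕ) (ι : Type u) :
    PreservesColimitsOfShape (Discrete ι) (ProEtS.HPF X n) := by
  haveI : (ProEtS.HPF X n).Additive := by
    unfold ProEtS.HPF
    infer_instance
  haveI : PreservesFiniteCoproducts (ProEtS.HPF X n) := inferInstance
  haveI : PreservesColimitsOfShape (Finset (Discrete ι)) (ProEtS.HPF X n) := by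
    let e : Finset (Discrete ι) ≌ AsSmall.{u + 1} (Finset (Discrete ι)) := AsSmall.equiv
    haveI : IsFiltered (AsSmall.{u + 1} (Finset (Discrete ι))) := IsFiltered.of_equivalence e
    haveI := preservesColimitsOfShape_HPF X (AsSmall.{u + 1} (Finset (Discrete ι))) n
    exact preservesColimitsOfShape_of_equiv e.symm _
  exact Groth.Agent.H97.CoprodFiltered.preservesColimitsOfShape_discrete (ProEtS.HPF X n)

end Groth.Agent.H60.ProEtQC
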