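import Groth.Agent.H60.QCEtale
import Groth.Agent.H9.HomologyFilteredColimits
import Groth.Prelude.Def_EtCech

/-!
# Čech cohomology for finite families of qcqs objects commutes with filtered colimits
-/

set_option autoImplicit false

namespace Groth.Agent.H60.QCCech

open CategoryTheory Limits Opposite

universe w v u

section Fan

variable {A : Type*} [Category A] [Preadditive A] {I : Type*} [Category I] {κ : Type*}

/-- A cocone which is a finite product (compatibly) of colimit cocones is a colimit cocone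
(in a preadditive category). -/
theorem isColimit_of_fan [Finite κ] (D : I ⥤ A) (s : Cocone D) (F : κ → (I ⥤ A))
    (t : ∀ k, Cocone (F k)) (ht : ∀ k, IsColimit (t k))
    (q : ∀ k, D ⟶ F k) (p : ∀ k, s.pt ⟶ (t k).pt)
    (hD : ∀ i, IsLimit (Fan.mk (D.obj i) (fun k => (q k).app i)))
    (hs : IsLimit (Fan.mk s.pt p))
    (hcomm : ∀ k i, s.ι.app i ≫ p k = (q k).app i ≫ (t k).ι.app i) : Nonempty (IsColimit s) := by
  classical
  have := Fintype.ofFinite κ
  -- inclusions
  let jD : ∀ k i, (F k).obj i ⟶ D.obj i := fun k i =>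
    Fan.IsLimit.lift (hD i) (fun k' => if h : k = k' then eqToHom (by rw [h]) else 0)
  have jD_q : ∀ k k' i, jD k i ≫ (q k').app i =
      if h : k = k' then eqToHom (by rw [h]) else 0 := fun k k' i =>
    Fan.IsLimit.fac (hD i) _ k'
  let js : ∀ k, (t k).pt ⟶ s.pt := fun k =>
    Fan.IsLimit.lift hs (fun k' => if h : k = k' then eqToHom (by rw [h]) else 0)
  have js_p : ∀ k k', js k ≫ p k' = if h : k = k' then eqToHom (by rw [h]) else 0 := fun k k' =>
    Fan.IsLimit.fac hs _ k'
  have sumD : ∀ i, ∑ k, (q k).app i ≫ jD k i = 𝟙 (D.obj i) := by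
    intro i
    refine Fan.IsLimit.hom_ext (hD i) _ _ (fun k' => ?_)
    simp only [fan_mk_proj]
    rw [Preadditive.sum_comp, Category.id_comp, Finset.sum_eq_single k']
    · rw [Category.assoc, jD_q, dif_pos rfl]; simp
    · intro k _ hk
      rw [Category.assoc, jD_q, dif_neg hk, comp_zero]
    · intro h; exact absurd (Finset.mem_univ k') h
  have sums : ∑ k, p k ≫ js k = 𝟙 s.pt := by
    refine Fan.IsLimit.hom_ext hs _ _ (fun k' => ?_)
    simp only [fan_mk_proj]
    rw [Preadditive.sum_comp, Category.id_comp, Finset.sum_eq_single k']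
    · rw [Category.assoc, js_p, dif_pos rfl]; simp
    · intro k _ hk
      rw [Category.assoc, js_p, dif_neg hk, comp_zero]
    · intro h; exact absurd (Finset.mem_univ k') h
  have jD_nat : ∀ k {i i' : I} (f : i ⟶ i'), (F k).map f ≫ jD k i' = jD k i ≫ D.map f := by
    intro k i i' f
    refine Fan.IsLimit.hom_ext (hD i') _ _ (fun k' => ?_)
    simp only [fan_mk_proj]
    rw [Category.assoc, Category.assoc, jD_q, (q k').naturality, ← Category.assoc, jD_q]
    by_cases h : k = k'
    · subst h; simp
    · rw [dif_neg h, dif_neg h]; simp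
  have js_compat : ∀ k i, (t k).ι.app i ≫ js k = jD k i ≫ s.ι.app i := by
    intro k i
    refine Fan.IsLimit.hom_ext hs _ _ (fun k' => ?_)
    simp only [fan_mk_proj]
    rw [Category.assoc, Category.assoc, js_p, hcomm, ← Category.assoc, jD_q]
    by_cases h : k = k'
    · subst h; simp
    · rw [dif_neg h, dif_neg h]; simp
  -- the cocones used to descend
  let rk : ∀ (r : Cocone D) k, Cocone (F k) := fun r k =>
    { pt := r.pt
      ι := { app := fun i => jD k i ≫ r.ι.app i
             naturality := by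
               intro i i' f
               simp only [Functor.const_obj_obj, Functor.const_obj_map, Category.comp_id]
               rw [← Category.assoc, jD_nat, Category.assoc, r.w] } }
  refine ⟨{ desc := fun r => ∑ k, p k ≫ (ht k).desc (rk r k), fac := ?_, uniq := ?_ }⟩
  · intro r i
    rw [Preadditive.comp_sum]
    have : ∀ k, s.ι.app i ≫ p k ≫ (ht k).desc (rk r k) = ((q k).app i ≫ jD k i) ≫ r.ι.app i := by
      intro k
      rw [← Category.assoc, hcomm, Category.assoc, (ht k).fac, Category.assoc]
    rw [Finset.sum_congr rfl (fun k _ => this k), ← Preadditive.sum_comp, sumD, Category.id_comp]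
  · intro r m hm
    have h1 : m = (∑ k, p k ≫ js k) ≫ m := by rw [sums, Category.id_comp]
    rw [h1, Preadditive.sum_comp]
    refine Finset.sum_congr rfl (fun k _ => ?_)
    rw [Category.assoc]
    congr 1
    apply (ht k).hom_ext
    intro i
    rw [(ht k).fac, ← Category.assoc, js_compat, Category.assoc, hm]

/-- A functor which is pointwise a finite product of functors preserving colimits of shape `I`
preserves colimits of shape `I` (target preadditive). -/
theorem preservesColimitsOfShape_of_fan [Finite κ] {B : Type*} [Category B] (H : B ⥤ A)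
    (S : κ → (B ⥤ A)) (π : ∀ k, H ⟶ S k)
    (hπ : ∀ b, IsLimit (Fan.mk (H.obj b) (fun k => (π k).app b)))
    [∀ k, PreservesColimitsOfShape I (S k)] : PreservesColimitsOfShape I H := by
  constructor
  intro K
  constructor
  intro c hc
  exact isColimit_of_fan (K ⋙ H) (H.mapCocone c) (fun k => K ⋙ S k) (fun k => (S k).mapCocone c)
    (fun k => isColimitOfPreserves (S k) hc) (fun k => Functor.whiskerLeft K (π k))
    (fun k => (π k).app c.pt) (fun i => hπ (K.obj i)) (hπ c.pt)
    (fun k i => (π k).naturality (c.ι.app i))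

end Fan

section Etale

open AlgebraicGeometry QCEtale

variable {X : Scheme.{u}}

lemma qc_of_iso {A B : X.Etale} (e : A ≅ B) (hA : QC A) : QC B := by
  obtain ⟨hA1, hA2⟩ := hA
  let e' : A.left ≅ B.left := (Scheme.Etale.forget X ⋙ Over.forget X).mapIso e
  exact ⟨QuasiCompact.compactSpace_of_compactSpace e'.inv,
    quasiSeparatedSpace_of_quasiSeparated e'.inv⟩

/-- objects over `U` whose total space is qcqs -/
def QCo (U : X.Etale) : ObjectProperty (Over U) := fun Y => QC Y.left

instance (U : X.Etale) : (QCo U).IsClosedUnderIsomorphisms where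
  of_iso e h := qc_of_iso ((Over.forget U).mapIso e) h

lemma qco_terminal (U : X.Etale) (hU : QC U) :
    (QCo U).IsClosedUnderLimitsOfShape (Discrete.{0} PEmpty) := by
  apply ObjectProperty.IsClosedUnderLimitsOfShape.mk'
  rintro _ ⟨F, hF⟩
  have hX : IsTerminal (limit F) :=
    (IsLimit.equivOfNatIsoOfIso F.uniqueFromEmpty _ _
      (by exact Cone.ext (Iso.refl _) (by rintro ⟨⟨⟩⟩))).1 (limit.isLimit F)
  let e : limit F ≅ Over.mk (𝟙 U) := IsLimit.conePointUniqueUpToIso hX Over.mkIdTerminal
  exact qc_of_iso ((Over.forget U).mapIso e.symm) hU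

lemma qco_binary (U : X.Etale) (hU : QC U) : (QCo U).IsClosedUnderBinaryProducts := by
  apply ObjectProperty.IsClosedUnderLimitsOfShape.mk'
  rintro _ ⟨F, hF⟩
  let Y := F.obj ⟨WalkingPair.left⟩
  let Z := F.obj ⟨WalkingPair.right⟩
  let e1 : limit F ≅ Y ⨯ Z := HasLimit.isoOfNatIso (diagramIsoPair F)
  let e2 : (Y ⨯ Z).left ≅ pullback Y.hom Z.hom := Over.prodLeftIsoPullback Y Z
  have h : QC (pullback Y.hom Z.hom) := qc_pullback _ _ (hF _) (hF _) hU
  exact qc_of_iso ((Over.forget U).mapIso e1.symm) (qc_of_iso e2.symm h)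

lemma qco_finiteProducts (U : X.Etale) (hU : QC U) : (QCo U).IsClosedUnderFiniteProducts := by
  haveI := qco_terminal U hU
  haveI := qco_binary U hU
  exact ObjectProperty.IsClosedUnderFiniteProducts.mk'

lemma qc_product (U : X.Etale) (hU : QC U) {T : Type*} [Finite T] (f : T → Over U)
    [HasProduct f] (hf : ∀ a, QC (f a).left) : QC (∏ᶜ f).left := by
  haveI := qco_finiteProducts U hU
  exact (QCo U).prop_product hf

/-- The Čech complex functor on abelian sheaves, for a family of objects over `U`. -/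
noncomputable abbrev cechG (U : X.Etale) [HasFiniteProducts (Over U)] {ι : Type (u + 1)}
    (Uf : ι → Over U) :
    Sheaf X.smallEtaleTopology AddCommGrpCat.{u + 1} ⥤ CochainComplex AddCommGrpCat.{u + 1} ℕ :=
  sheafToPresheaf X.smallEtaleTopology AddCommGrpCat.{u + 1} ⋙
    (Functor.whiskeringLeft (Over U)ᵒᵖ X.Etaleᵒᵖ AddCommGrpCat.{u + 1}).obj (Over.forget U).op ⋙
    cechComplexFunctor Uf

/-- sections functor -/
noncomputable abbrev secF (W : X.Etale) :
    Sheaf X.smallEtaleTopology AddCommGrpCat.{u + 1} ⥤ AddCommGrpCat.{u + 1} :=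
  sheafToPresheaf X.smallEtaleTopology AddCommGrpCat.{u + 1} ⋙
    (evaluation X.Etaleᵒᵖ AddCommGrpCat.{u + 1}).obj (op W)

/-- the projection from the degree `n` term of the Čech complex to the sections over one of the
fibre products -/
noncomputable def projNat (U : X.Etale) [HasFiniteProducts (Over U)] {ι : Type (u + 1)}
    (Uf : ι → Over U) (n : ℕ) (x : Fin (n + 1) → ι) :
    cechG U Uf ⋙ HomologicalComplex.eval _ _ n ⟶ secF (∏ᶜ (Uf ∘ x)).left where
  app F := Pi.π (fun x' : Fin (n + 1) → ι => F.obj.obj (op (∏ᶜ (Uf ∘ x')).left)) x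
  naturality F F' φ := by
    show Limits.Pi.map (fun x' : Fin (n + 1) → ι => φ.hom.app (op (∏ᶜ (Uf ∘ x')).left)) ≫
        Pi.π (fun x' : Fin (n + 1) → ι => F'.obj.obj (op (∏ᶜ (Uf ∘ x')).left)) x =
      Pi.π (fun x' : Fin (n + 1) → ι => F.obj.obj (op (∏ᶜ (Uf ∘ x')).left)) x ≫
        φ.hom.app (op (∏ᶜ (Uf ∘ x)).left)
    exact Pi.map_π _ _

theorem preservesColimitsOfShape_cechG (U : X.Etale) (hU : QC U) [HasFiniteProducts (Over U)]
    {ι : Type (u + 1)} [Finite ι] (Uf : ι → Over U) (hUf : ∀ i, QC (Uf i).left)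
    (I : Type (u + 1)) [SmallCategory I] [IsFiltered I] :
    PreservesColimitsOfShape I (cechG U Uf) := by
  apply HomologicalComplex.preservesColimitsOfShape_of_eval
  intro n
  haveI : ∀ x : Fin (n + 1) → ι, PreservesColimitsOfShape I (secF (∏ᶜ (Uf ∘ x)).left) := fun x =>
    QCColim.preservesColimitsOfShape_sections (J := X.smallEtaleTopology)
      (D := AddCommGrpCat.{u + 1}) I (qcClass X) _
      (qc_product U hU (Uf ∘ x) (fun a => hUf (x a)))
  exact preservesColimitsOfShape_of_fan (cechG U Uf ⋙ HomologicalComplex.eval _ _ n)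
    (fun x : Fin (n + 1) → ι => secF (∏ᶜ (Uf ∘ x)).left) (projNat U Uf n)
    (fun F => productIsProduct (fun x' : Fin (n + 1) → ι => F.obj.obj (op (∏ᶜ (Uf ∘ x')).left)))

theorem preservesColimitsOfShape_cechH (U : X.Etale) (hU : QC U) [HasFiniteProducts (Over U)]
    {ι : Type (u + 1)} [Finite ι] (Uf : ι → Over U) (hUf : ∀ i, QC (Uf i).left) (q : ℕ)
    (I : Type (u + 1)) [SmallCategory I] [IsFiltered I] :
    PreservesColimitsOfShape I
      (sheafToPresheaf X.smallEtaleTopology AddCommGrpCat.{u + 1} ⋙ EtCech.cechHFunctor Uf q) := by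
  haveI := preservesColimitsOfShape_cechG U hU Uf hUf I
  haveI : PreservesColimitsOfShape I
      (HomologicalComplex.homologyFunctor AddCommGrpCat.{u + 1} (ComplexShape.up ℕ) q) :=
    Groth.Agent.H9.preservesColimitsOfShape_homologyFunctor _ q
  exact (inferInstance : PreservesColimitsOfShape I
    (cechG U Uf ⋙ HomologicalComplex.homologyFunctor AddCommGrpCat.{u + 1} (ComplexShape.up ℕ) q))

end Etale

end Groth.Agent.H60.QCCech
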