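import Groth.Agent.H60.FinCoprod
import Groth.Agent.H60.CohExt
import Groth.Agent.H60.QCColim
import Groth.Agent.H28.ToposEps

open CategoryTheory Limits Opposite Abelian

universe u

namespace Groth.Agent.H60.QCSite

open Groth.Agent.H28 ToposFin Groth.Agent.H31.SieveExt Groth.Agent.H60.ExtColim
  Groth.Agent.H60.QCColim Groth.Agent.H60.FinCoprod Groth.Agent.H60.CohExt

variable {C : Type u} [SmallCategory C] {J : GrothendieckTopology C}

/-- for a subcanonical topology, every morphism between the sheaves attached to objects of the site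
comes from a morphism of the site. -/
lemma exists_epsMap_eq [J.Subcanonical] {U W : C} (f₀ : eps J U ⟶ eps J W) :
    ∃ f' : U ⟶ W, epsMap J f' = f₀ := by
  have hsh : Presheaf.IsSheaf J (yoneda.obj W) := by
    rw [isSheaf_iff_isSheaf_of_type]
    exact GrothendieckTopology.Subcanonical.isSheaf_of_isRepresentable _
  have hiso : IsIso (toSheafify J (yoneda.obj W)) := isIso_toSheafify J hsh
  have hiso' : IsIso ((toSheafify J (yoneda.obj W)).app (op U)) := inferInstance
  have hbij : Function.Bijective ((toSheafify J (yoneda.obj W)).app (op U)) :=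
    (isIso_iff_bijective _).1 hiso'
  obtain ⟨f', hf'⟩ := hbij.2 (f₀.hom.app (op U) (epsUnit J U))
  refine ⟨f', hom_ext_eps ?_⟩
  rw [epsMap_app_epsUnit, ← toSheafify_app_eq]
  exact hf'

/-- the class of sheaves attached to quasi-compact objects of the site. -/
def SQC (J : GrothendieckTopology C) (QC : C → Prop) : Set (Sh J) :=
  {N | ∃ U, QC U ∧ Nonempty (N ≅ eps J U)}

variable [HasPullbacks C] {QC : C → Prop} (h : QCClass J QC)

include h in
lemma isQC_of_mem : ∀ K ∈ SQC J QC, IsQC K := by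
  rintro K ⟨U, hU, ⟨e⟩⟩
  refine IsQC.of_iso e.symm (isQC_eps_of_isQCSite ?_)
  intro S hS
  obtain ⟨n, V, f, -, hf, hcov⟩ := h.cov U hU S hS
  exact ⟨n, V, f, hf, hcov⟩

lemma coversAll_SQC
    (hcov : ∀ X : C, ∃ (ι : Type u) (V : ι → C) (g : ∀ i, V i ⟶ X),
      (∀ i, QC (V i)) ∧ Sieve.ofArrows V g ∈ J X) : CoversAll (SQC J QC) := by
  intro N
  choose κ V g hV hg using hcov
  refine ⟨Σ (x : Σ U : C, N.obj.obj (op U)), κ x.1, fun y => eps J (V y.1.1 y.2),
    fun y => epsMap J (g y.1.1 y.2) ≫ (secEquiv N y.1.1).symm y.1.2, ?_, ?_⟩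
  · intro y
    exact ⟨V y.1.1 y.2, hV _ _, ⟨Iso.refl _⟩⟩
  · exact (isCover_eps_sections N).comp (fun x k => epsMap J (g x.1 k))
      (fun x => isCover_epsMap_of_ofArrows (V x.1) (g x.1) (hg x.1))

include h in
lemma closedUnderPullbacks_SQC [J.Subcanonical] : ClosedUnderPullbacks (SQC J QC) := by
  rintro K L M f g ⟨U, hU, ⟨eK⟩⟩ ⟨V, hV, ⟨eL⟩⟩ ⟨W, hW, ⟨eM⟩⟩
  obtain ⟨f', hf'⟩ := exists_epsMap_eq (eK.inv ≫ f ≫ eM.hom)
  obtain ⟨g', hg'⟩ := exists_epsMap_eq (eL.inv ≫ g ≫ eM.hom)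
  have hpb := isPullback_epsMap (J := J) (IsPullback.of_hasPullback f' g')
  refine ⟨eps J (pullback f' g'), epsMap J (pullback.fst f' g') ≫ eK.inv,
    epsMap J (pullback.snd f' g') ≫ eL.inv, ⟨pullback f' g', h.pb f' g' hU hV hW, ⟨Iso.refl _⟩⟩, ?_⟩
  refine IsPullback.of_iso hpb (Iso.refl _) eK.symm eL.symm eM.symm ?_ ?_ ?_ ?_
  · simp
  · simp
  · rw [hf']; simp
  · rw [hg']; simp

variable {Λ : Type u} [SmallCategory Λ] [IsFiltered Λ]

include h in
/-- degree zero: sections over a quasi-compact object commute with filtered colimits. -/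
theorem surj0_inj0_eps [J.Subcanonical]
    (hcov : ∀ X : C, ∃ (ι : Type u) (V : ι → C) (g : ∀ i, V i ⟶ X),
      (∀ i, QC (V i)) ∧ Sieve.ofArrows V g ∈ J X) {T : C} (hT : QC T)
    (D : Λ ⥤ Sheaf J AddCommGrpCat.{u}) :
    Surj0 (Zs J (eps J T).obj) D ∧ Inj0 (Zs J (eps J T).obj) D := by
  have hqc := isQC_of_mem h
  have hS := coversAll_SQC (J := J) (QC := QC) hcov
  have hpb := closedUnderPullbacks_SQC h
  have hE' : HasQCGenerators J := coversAll_qc_iff.1 (coversAll_qc_of_subset hS hqc)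
  have hcoh : IsCoherent (eps J T) := isCoherent_of_mem hqc hS hpb ⟨T, hT, ⟨Iso.refl _⟩⟩
  exact surj0_inj0_of_isFP (isFP_of_isCoherent hE' hcoh) D

include h in
/-- filtered colimits of injectives are acyclic on quasi-compact objects. -/
theorem acyc_eps [J.Subcanonical]
    (hcov : ∀ X : C, ∃ (ι : Type u) (V : ι → C) (g : ∀ i, V i ⟶ X),
      (∀ i, QC (V i)) ∧ Sieve.ofArrows V g ∈ J X) {T : C} (hT : QC T)
    (D : Λ ⥤ Sheaf J AddCommGrpCat.{u}) (hD : ∀ i, Injective (D.obj i)) (q : ℕ)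
    (x : Ext (Zs J (eps J T).obj) (colimit D) (q + 1)) : x = 0 := by
  have hqc := isQC_of_mem h
  have hS := coversAll_SQC (J := J) (QC := QC) hcov
  have hpb := closedUnderPullbacks_SQC h
  have hsub : Subsingleton (Ext (Zs J (eps J T).obj) (colimit D) (q + 1)) :=
    acyclic_colim_of_mem hqc hS hpb (colimit.isColimit D)
      (fun i K' _ q => subsingleton_of_forall_eq 0 (fun y => Ext.eq_zero_of_injective y))
      (eps J T) ⟨T, hT, ⟨Iso.refl _⟩⟩ q
  exact Subsingleton.elim _ _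

end Groth.Agent.H60.QCSite
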