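import Groth.Agent.H60.QCSite
import Groth.Agent.S3877

/-!
# A small site with enough quasi-compact objects has a coherent topos

Small subcanonical site with fibre products and binary products, a class `QC` of quasi-compact objects stable
under fibre products and binary products, every object covered by `QC` objects and finitely many `QC`
objects covering the final sheaf.  Then the topos is algebraic with coherent final object, hence
cohomology commutes with filtered colimits.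
-/

set_option autoImplicit false

open CategoryTheory Limits Opposite Abelian

universe u

namespace Groth.Agent.H60.QCTop

open Groth.Agent.H28 ToposFin Groth.Agent.H60.QCColim Groth.Agent.H60.QCSite

variable {C : Type u} [SmallCategory C] {J : GrothendieckTopology C}
  [HasPullbacks C] {QC : C → Prop} (h : QCClass J QC)

/-- the sheaf attached to a site-level limit cone over a finite diagram is a limit. -/
noncomputable def isLimitEpsFork {U W E : C} {α β : U ⟶ W} {e : E ⟶ U} (w : e ≫ α = e ≫ β)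
    (hl : IsLimit (Fork.ofι e w)) :
    IsLimit (Fork.ofι (epsMap J e) (by rw [← epsMap_comp, ← epsMap_comp, w]) :
      Fork (epsMap J α) (epsMap J β)) := by
  have h1 := isLimitForkMapOfIsLimit (yoneda ⋙ presheafToSheaf J (Type u)) w hl
  exact h1

variable [HasBinaryProducts C]

/-- the equalizer of two maps of the site, as a fibre product with the diagonal. -/
noncomputable abbrev eqObj {U W : C} (α β : U ⟶ W) : C :=
  pullback (prod.lift α β) (prod.lift (𝟙 W) (𝟙 W))

noncomputable abbrev eqι {U W : C} (α β : U ⟶ W) : eqObj α β ⟶ U := pullback.fst _ _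

lemma eqι_fst {U W : C} (α β : U ⟶ W) : eqι α β ≫ α = pullback.snd _ _ := by
  have := congrArg (fun k => k ≫ prod.fst)
    (pullback.condition (f := prod.lift α β) (g := prod.lift (𝟙 W) (𝟙 W)))
  simpa only [Category.assoc, prod.lift_fst, Category.comp_id] using this

lemma eqι_snd {U W : C} (α β : U ⟶ W) : eqι α β ≫ β = pullback.snd _ _ := by
  have := congrArg (fun k => k ≫ prod.snd)
    (pullback.condition (f := prod.lift α β) (g := prod.lift (𝟙 W) (𝟙 W)))
  simpa only [Category.assoc, prod.lift_snd, Category.comp_id] using this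

lemma eqι_condition {U W : C} (α β : U ⟶ W) : eqι α β ≫ α = eqι α β ≫ β :=
  (eqι_fst α β).trans (eqι_snd α β).symm

noncomputable def eqIsLimit {U W : C} (α β : U ⟶ W) :
    IsLimit (Fork.ofι (eqι α β) (eqι_condition α β)) :=
  Fork.IsLimit.mk' _ (fun s => by
    refine ⟨pullback.lift s.ι (s.ι ≫ α) ?_, ?_, ?_⟩
    · apply Limits.prod.hom_ext
      · simp only [Category.assoc, prod.lift_fst, Category.comp_id]
      · simp only [Category.assoc, prod.lift_snd, Category.comp_id]
        exact s.condition.symm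
    · exact pullback.lift_fst _ _ _
    · intro m hm
      apply pullback.hom_ext
      · rw [pullback.lift_fst]
        exact hm
      · rw [pullback.lift_snd, ← eqι_fst, ← Category.assoc]
        exact congrArg (fun k => k ≫ α) hm)

include h in
lemma closedUnderEqualizers_SQC [J.Subcanonical]
    (hprod : ∀ U V : C, QC U → QC V → QC (U ⨯ V)) : ClosedUnderEqualizers (SQC J QC) := by
  rintro K L a b ⟨U, hU, ⟨eK⟩⟩ ⟨W, hW, ⟨eL⟩⟩
  obtain ⟨α, hα⟩ := exists_epsMap_eq (eK.inv ≫ a ≫ eL.hom)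
  obtain ⟨β, hβ⟩ := exists_epsMap_eq (eK.inv ≫ b ≫ eL.hom)
  have hl := isLimitEpsFork (J := J) (eqι_condition α β) (eqIsLimit α β)
  have hE : QC (eqObj α β) := h.pb _ _ hU hW (hprod W W hW hW)
  have ha : a = eK.hom ≫ epsMap J α ≫ eL.inv := by rw [hα]; simp
  have hb : b = eK.hom ≫ epsMap J β ≫ eL.inv := by rw [hβ]; simp
  have hw : (epsMap J (eqι α β) ≫ eK.inv) ≫ a = (epsMap J (eqι α β) ≫ eK.inv) ≫ b := by
    rw [ha, hb]
    simp only [Category.assoc, Iso.inv_hom_id_assoc]
    rw [← Category.assoc, ← epsMap_comp, eqι_condition, epsMap_comp, Category.assoc]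
  refine ⟨eps J (eqObj α β), epsMap J (eqι α β) ≫ eK.inv, hw,
    ⟨eqObj α β, hE, ⟨Iso.refl _⟩⟩, ⟨Fork.IsLimit.mk' _ (fun s => ?_)⟩⟩
  have hs : (s.ι ≫ eK.hom) ≫ epsMap J α = (s.ι ≫ eK.hom) ≫ epsMap J β := by
    have := s.condition
    rw [hα, hβ]
    simp only [Category.assoc, Iso.hom_inv_id_assoc]
    rw [← Category.assoc, this, Category.assoc]
  obtain ⟨l, hl'⟩ := Fork.IsLimit.lift' hl (s.ι ≫ eK.hom) hs
  refine ⟨l, ?_, ?_⟩
  · show l ≫ epsMap J (eqι α β) ≫ eK.inv = s.ι
    rw [← Category.assoc]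
    have : l ≫ epsMap J (eqι α β) = s.ι ≫ eK.hom := hl'
    rw [this, Category.assoc, Iso.hom_inv_id, Category.comp_id]
  · intro m hm
    apply Fork.IsLimit.hom_ext hl
    have : m ≫ epsMap J (eqι α β) = s.ι ≫ eK.hom := by
      have hm' : m ≫ epsMap J (eqι α β) ≫ eK.inv = s.ι := hm
      rw [← hm', Category.assoc, Category.assoc, Iso.inv_hom_id, Category.comp_id]
    exact this.trans hl'.symm

include h in
theorem isAlgebraic [J.Subcanonical]
    (hcov : ∀ X : C, ∃ (ι : Type u) (V : ι → C) (g : ∀ i, V i ⟶ X),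
      (∀ i, QC (V i)) ∧ Sieve.ofArrows V g ∈ J X)
    (hprod : ∀ U V : C, QC U → QC V → QC (U ⨯ V)) : IsAlgebraic J :=
  ⟨SQC J QC, isQC_of_mem h, (coversAll_iff_isGenerating _).1 (coversAll_SQC hcov),
    closedUnderPullbacks_SQC h, closedUnderEqualizers_SQC h hprod⟩

include h in
lemma isQC_terminal
    (htop : ∃ (n : ℕ) (E : Fin n → C), (∀ k, QC (E k)) ∧
      ∀ X : C, ∃ R ∈ J X, ∀ ⦃Y : C⦄ (f : Y ⟶ X), R f → ∃ k, Nonempty (Y ⟶ E k)) :
    IsQC (⊤_ (Sh J)) := by
  obtain ⟨n, E, hE, hR⟩ := htop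
  refine IsQC.of_finite_cover (fun k : Fin n => terminal.from (eps J (E k))) ?_
    (fun k => isQC_of_mem h _ ⟨E k, hE k, ⟨Iso.refl _⟩⟩)
  rw [isCover_iff_hom_ext]
  intro Z a b hab
  apply (isCover_eps_sections (⊤_ (Sh J))).hom_ext
  rintro ⟨U, s⟩
  obtain ⟨R, hRJ, hRf⟩ := hR U
  apply (isCover_epsMap_of_sieve hRJ).hom_ext
  rintro ⟨V, f, hf⟩
  obtain ⟨k, ⟨g⟩⟩ := hRf f hf
  have h1 : epsMap J f ≫ (secEquiv (⊤_ (Sh J)) U).symm s =
      epsMap J g ≫ terminal.from (eps J (E k)) := Subsingleton.elim _ _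
  show epsMap J f ≫ (secEquiv (⊤_ (Sh J)) U).symm s ≫ a =
    epsMap J f ≫ (secEquiv (⊤_ (Sh J)) U).symm s ≫ b
  rw [← Category.assoc, ← Category.assoc, h1, Category.assoc, Category.assoc, hab k]

include h in
lemma isQS_terminal
    (hcov : ∀ X : C, ∃ (ι : Type u) (V : ι → C) (g : ∀ i, V i ⟶ X),
      (∀ i, QC (V i)) ∧ Sieve.ofArrows V g ∈ J X)
    (hprod : ∀ U V : C, QC U → QC V → QC (U ⨯ V)) : IsQS (⊤_ (Sh J)) := by
  refine isQS_of_coversAll_pullback (coversAll_SQC hcov) _ ?_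
  rintro K ⟨U, hU, ⟨eK⟩⟩ L ⟨V, hV, ⟨eL⟩⟩ s t
  have hlim : IsLimit (BinaryFan.mk (epsMap J (prod.fst : U ⨯ V ⟶ U)) (epsMap J prod.snd)) :=
    (isLimitMapConeBinaryFanEquiv (yoneda ⋙ presheafToSheaf J (Type u)) prod.fst prod.snd)
      (isLimitOfPreserves _ (prodIsProd U V))
  have hpb := IsPullback.of_is_product' hlim (terminalIsTerminal (C := Sh J))
  have hpb' : IsPullback (epsMap J (prod.fst : U ⨯ V ⟶ U) ≫ eK.inv) (epsMap J prod.snd ≫ eL.inv)
      s t := by
    refine IsPullback.of_iso hpb (Iso.refl _) eK.symm eL.symm (Iso.refl _) ?_ ?_ ?_ ?_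
    · simp
    · simp
    · exact Subsingleton.elim _ _
    · exact Subsingleton.elim _ _
  exact IsQC.of_iso hpb'.isoPullback
    (isQC_of_mem h _ ⟨U ⨯ V, hprod U V hU hV, ⟨Iso.refl _⟩⟩)

include h in
/-- cohomology of the site commutes with filtered colimits. -/
theorem preservesColimitsOfShape_functorH [J.Subcanonical]
    (hcov : ∀ X : C, ∃ (ι : Type u) (V : ι → C) (g : ∀ i, V i ⟶ X),
      (∀ i, QC (V i)) ∧ Sieve.ofArrows V g ∈ J X)
    (hprod : ∀ U V : C, QC U → QC V → QC (U ⨯ V))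
    (htop : ∃ (n : ℕ) (E : Fin n → C), (∀ k, QC (E k)) ∧
      ∀ X : C, ∃ R ∈ J X, ∀ ⦃Y : C⦄ (f : Y ⟶ X), R f → ∃ k, Nonempty (Y ⟶ E k))
    (Λ : Type u) [SmallCategory Λ] [IsFiltered Λ] (q : ℕ) :
    PreservesColimitsOfShape Λ
      (Sheaf.functorH J q : Sheaf J AddCommGrpCat.{u} ⥤ AddCommGrpCat.{u}) :=
  Groth.Agent.S3877.result (isAlgebraic h hcov hprod)
    ⟨isQC_terminal h htop, isQS_terminal h hcov hprod⟩ Λ q

end Groth.Agent.H60.QCTop
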