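import Groth.Agent.H60.CohExt
import Groth.Agent.H60.ConstTop
import Groth.Prelude.Def_CohCx

/-!
# Sheaves coherent relative to a class `S` of quasi-compact sheaves

Setting of Stacks "cohomology and filtered colimits on a site with a class of quasi-compact generators
for the final object": `S` is a class of quasi-compact sheaves of sets such that epimorphisms onto members of
`S` are refined by members of `S`, and products/equalizers of members of `S` are covered by members of `S`.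
-/

set_option autoImplicit false

open CategoryTheory Limits Opposite Abelian

universe u

namespace Groth.Agent.H60.SCoh

open Groth.Agent.H28 ToposFin Groth.Agent.H60.CechColim

variable {C : Type u} [SmallCategory C] {J : GrothendieckTopology C}

/-! ### Generalities on the topos -/

lemma jointlySurjective_iff_isCover {K : Sh J} {I : Type u} {L : I → Sh J} (f : ∀ i, L i ⟶ K) :
    CohCx.JointlySurjective f ↔ IsCover f := by
  constructor
  · intro h U s
    obtain ⟨R, hR, hR'⟩ := h U s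
    exact J.superset_covering (fun V g hg => hR' V g hg) hR
  · intro h U s
    exact ⟨_, h U s, fun V g hg => hg⟩

lemma isQC_of_isQcObject {K : Sh J} (h : CohCx.IsQcObject K) : IsQC K := by
  rw [isQC_iff_isCover]
  intro ι F π hπ
  obtain ⟨t, ht⟩ := h ι F π ((jointlySurjective_iff_isCover π).2 hπ)
  exact ⟨t, (jointlySurjective_iff_isCover _).1 ht⟩

/-- Base change of an epimorphism of sheaves of sets is an epimorphism. -/
lemma epi_fst_of_isPullback {P X Y Z : Sh J} {p : P ⟶ X} {q : P ⟶ Y} {f : X ⟶ Z} {g : Y ⟶ Z}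
    (h : IsPullback p q f g) [Epi g] : Epi p := by
  rw [← isCover_single_iff_epi.{u, u}] at *
  exact IsCover.of_isPullback ‹_› f (fun _ => q) (fun _ => p) (fun _ => h.flip)

lemma epi_snd_of_isPullback {P X Y Z : Sh J} {p : P ⟶ X} {q : P ⟶ Y} {f : X ⟶ Z} {g : Y ⟶ Z}
    (h : IsPullback p q f g) [Epi f] : Epi q :=
  epi_fst_of_isPullback h.flip

/-- Generalized elements lift locally along an epimorphism. -/
lemma exists_lift_of_epi {X Y T : Sh J} (f : X ⟶ Y) [Epi f] (y : T ⟶ Y) :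
    ∃ (T' : Sh J) (e : T' ⟶ T) (x : T' ⟶ X), Epi e ∧ x ≫ f = e ≫ y :=
  ⟨pullback y f, pullback.fst y f, pullback.snd y f,
    epi_fst_of_isPullback (IsPullback.of_hasPullback y f), pullback.condition.symm⟩

lemma epi_of_forall_lift {X Y : Sh J} (f : X ⟶ Y)
    (h : ∀ (T : Sh J) (y : T ⟶ Y), ∃ (T' : Sh J) (e : T' ⟶ T) (x : T' ⟶ X),
      Epi e ∧ x ≫ f = e ≫ y) : Epi f := by
  obtain ⟨T', e, x, he, hx⟩ := h Y (𝟙 Y)
  rw [Category.comp_id] at hx
  haveI := he
  exact epi_of_epi_fac hx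

/-! ### The classes -/

variable (S : Set (Sh J))

/-- `N` is covered by a member of `S`. -/
def SCov (N : Sh J) : Prop := ∃ K ∈ S, ∃ g : K ⟶ N, Epi g

/-- Fibre products over `N` of members of `S` are covered by members of `S`. -/
def SQS (N : Sh J) : Prop :=
  ∀ K₁ ∈ S, ∀ K₂ ∈ S, ∀ (a : K₁ ⟶ N) (b : K₂ ⟶ N), SCov S (pullback a b)

/-- `S`-coherent sheaves. -/
def SCoh (N : Sh J) : Prop := SCov S N ∧ SQS S N

variable {S}

lemma SCov.of_epi {A B : Sh J} (f : A ⟶ B) [Epi f] (hA : SCov S A) : SCov S B := by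
  obtain ⟨K, hK, g, hg⟩ := hA
  haveI := hg
  exact ⟨K, hK, g ≫ f, epi_comp g f⟩

lemma SCov.of_iso {A B : Sh J} (e : A ≅ B) (hA : SCov S A) : SCov S B :=
  hA.of_epi e.hom

lemma SCov.of_mem {K : Sh J} (hK : K ∈ S) : SCov S K := ⟨K, hK, 𝟙 K, inferInstance⟩

lemma SQS.of_iso {A B : Sh J} (e : A ≅ B) (hA : SQS S A) : SQS S B := by
  intro K₁ h₁ K₂ h₂ a b
  have h := hA K₁ h₁ K₂ h₂ (a ≫ e.inv) (b ≫ e.inv)
  let φ : pullback (a ≫ e.inv) (b ≫ e.inv) ⟶ pullback a b :=
    pullback.lift (pullback.fst _ _) (pullback.snd _ _) (by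
      have := pullback.condition (f := a ≫ e.inv) (g := b ≫ e.inv)
      rw [← cancel_mono e.inv]
      simpa only [Category.assoc] using this)
  have : Epi φ := by
    refine epi_of_forall_lift φ (fun T y => ⟨T, 𝟙 T, pullback.lift (y ≫ pullback.fst _ _)
      (y ≫ pullback.snd _ _) (by simp only [Category.assoc, pullback.condition_assoc]),
      inferInstance, ?_⟩)
    apply pullback.hom_ext
    · simp only [φ, Category.assoc]
      rw [pullback.lift_fst, pullback.lift_fst, Category.id_comp]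
    · simp only [φ, Category.assoc]
      rw [pullback.lift_snd, pullback.lift_snd, Category.id_comp]
  exact h.of_epi φ

lemma SCoh.of_iso {A B : Sh J} (e : A ≅ B) (hA : SCoh S A) : SCoh S B :=
  ⟨hA.1.of_iso e, hA.2.of_iso e⟩

section Hyp

variable
  (h3 : ∀ K ∈ S, ∀ K' ∈ S, ∃ (K'' : Sh J) (g : K'' ⟶ K ⨯ K'), K'' ∈ S ∧ Epi g)
  (h4 : ∀ K ∈ S, ∀ K' ∈ S, ∀ (a b : K ⟶ K'),
    ∃ (K'' : Sh J) (g : K'' ⟶ equalizer a b), K'' ∈ S ∧ Epi g)

include h4 in
/-- Equalizers of maps from a member of `S` to an `S`-quasi-separated sheaf are `S`-covered. -/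
lemma scov_equalizer_of_mem {K B : Sh J} (hK : K ∈ S) (hB : SQS S B) (β₁ β₂ : K ⟶ B) :
    SCov S (equalizer β₁ β₂) := by
  obtain ⟨K₄, hK₄, g, hg⟩ := hB K hK K hK β₁ β₂
  haveI := hg
  let p : K₄ ⟶ K := g ≫ pullback.fst β₁ β₂
  let q : K₄ ⟶ K := g ≫ pullback.snd β₁ β₂
  obtain ⟨K₅, g₅, hK₅, hg₅⟩ := h4 K₄ hK₄ K hK p q
  haveI := hg₅
  have hcond : (equalizer.ι p q ≫ p) ≫ β₁ = (equalizer.ι p q ≫ p) ≫ β₂ := by
    have h1 : equalizer.ι p q ≫ p = equalizer.ι p q ≫ q := equalizer.condition p q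
    calc (equalizer.ι p q ≫ p) ≫ β₁ = equalizer.ι p q ≫ g ≫ pullback.fst β₁ β₂ ≫ β₁ := by
          simp only [p, Category.assoc]
      _ = equalizer.ι p q ≫ g ≫ pullback.snd β₁ β₂ ≫ β₂ := by rw [pullback.condition]
      _ = (equalizer.ι p q ≫ q) ≫ β₂ := by simp only [q, Category.assoc]
      _ = (equalizer.ι p q ≫ p) ≫ β₂ := by rw [h1]
  let φ : equalizer p q ⟶ equalizer β₁ β₂ := equalizer.lift (equalizer.ι p q ≫ p) hcond
  have hφ : Epi φ := by
    refine epi_of_forall_lift φ (fun T y => ?_)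
    let k : T ⟶ K := y ≫ equalizer.ι β₁ β₂
    have hk : k ≫ β₁ = k ≫ β₂ := by
      simp only [k, Category.assoc]
      rw [equalizer.condition]
    obtain ⟨T', e, x, he, hx⟩ := exists_lift_of_epi g (pullback.lift k k hk)
    have hxp : x ≫ p = e ≫ k := by
      simp only [p, ← Category.assoc, hx]
      simp only [Category.assoc, pullback.lift_fst]
    have hxq : x ≫ q = e ≫ k := by
      simp only [q, ← Category.assoc, hx]
      simp only [Category.assoc, pullback.lift_snd]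
    refine ⟨T', e, equalizer.lift x (hxp.trans hxq.symm), he, ?_⟩
    apply equalizer.hom_ext
    simp only [φ, Category.assoc, equalizer.lift_ι, equalizer.lift_ι_assoc, hxp, k]
  exact SCov.of_epi φ ⟨K₅, hK₅, g₅, hg₅⟩

include h4 in
/-- Equalizers of maps from an `S`-covered sheaf to an `S`-quasi-separated sheaf are `S`-covered. -/
lemma scov_equalizer {T B : Sh J} (hT : SCov S T) (hB : SQS S B) (β₁ β₂ : T ⟶ B) :
    SCov S (equalizer β₁ β₂) := by
  obtain ⟨K, hK, g, hg⟩ := hT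
  haveI := hg
  have h := scov_equalizer_of_mem h4 hK hB (g ≫ β₁) (g ≫ β₂)
  let φ : equalizer (g ≫ β₁) (g ≫ β₂) ⟶ equalizer β₁ β₂ :=
    equalizer.lift (equalizer.ι _ _ ≫ g) (by
      simpa only [Category.assoc] using equalizer.condition (g ≫ β₁) (g ≫ β₂))
  have hφ : Epi φ := by
    refine epi_of_forall_lift φ (fun T₀ y => ?_)
    obtain ⟨T', e, x, he, hx⟩ := exists_lift_of_epi g (y ≫ equalizer.ι β₁ β₂)
    have hx' : x ≫ g ≫ β₁ = x ≫ g ≫ β₂ := by
      rw [← Category.assoc, ← Category.assoc, hx]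
      simp only [Category.assoc]
      rw [equalizer.condition]
    refine ⟨T', e, equalizer.lift x hx', he, ?_⟩
    apply equalizer.hom_ext
    simp only [φ, Category.assoc, equalizer.lift_ι, equalizer.lift_ι_assoc, hx]
  exact h.of_epi φ

/-- Fibre products of `S`-covered sheaves over an `S`-quasi-separated sheaf are `S`-covered. -/
lemma scov_pullback {A B N : Sh J} (hA : SCov S A) (hB : SCov S B) (hN : SQS S N) (a : A ⟶ N)
    (b : B ⟶ N) : SCov S (pullback a b) := by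
  obtain ⟨KA, hKA, gA, hgA⟩ := hA
  obtain ⟨KB, hKB, gB, hgB⟩ := hB
  haveI := hgA
  haveI := hgB
  have h := hN KA hKA KB hKB (gA ≫ a) (gB ≫ b)
  let φ : pullback (gA ≫ a) (gB ≫ b) ⟶ pullback a b :=
    pullback.lift (pullback.fst _ _ ≫ gA) (pullback.snd _ _ ≫ gB) (by
      simpa only [Category.assoc] using pullback.condition (f := gA ≫ a) (g := gB ≫ b))
  have hφ : Epi φ := by
    refine epi_of_forall_lift φ (fun T y => ?_)
    obtain ⟨T₁, e₁, x₁, he₁, hx₁⟩ := exists_lift_of_epi gA (y ≫ pullback.fst a b)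
    obtain ⟨T₂, e₂, x₂, he₂, hx₂⟩ := exists_lift_of_epi gB (e₁ ≫ y ≫ pullback.snd a b)
    haveI := he₁
    haveI := he₂
    have hc : (e₂ ≫ x₁) ≫ gA ≫ a = x₂ ≫ gB ≫ b := by
      rw [Category.assoc, ← Category.assoc x₁, hx₁, ← Category.assoc x₂, hx₂]
      simp only [Category.assoc]
      rw [pullback.condition]
    refine ⟨T₂, e₂ ≫ e₁, pullback.lift (e₂ ≫ x₁) x₂ hc, epi_comp e₂ e₁, ?_⟩
    apply pullback.hom_ext
    · simp only [φ, Category.assoc]
      rw [pullback.lift_fst, pullback.lift_fst_assoc, Category.assoc, hx₁]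
    · simp only [φ, Category.assoc]
      rw [pullback.lift_snd, pullback.lift_snd_assoc, hx₂]
  exact h.of_epi φ

include h3 h4 in
/-- Members of `S` are `S`-coherent. -/
lemma scoh_of_mem {K : Sh J} (hK : K ∈ S) : SCoh S K := by
  refine ⟨SCov.of_mem hK, ?_⟩
  intro K₁ h₁ K₂ h₂ a b
  obtain ⟨K₃, g, hK₃, hg⟩ := h3 K₁ h₁ K₂ h₂
  haveI := hg
  let p : K₃ ⟶ K := g ≫ prod.fst ≫ a
  let q : K₃ ⟶ K := g ≫ prod.snd ≫ b
  obtain ⟨K₄, g₄, hK₄, hg₄⟩ := h4 K₃ hK₃ K hK p q
  haveI := hg₄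
  let φ : equalizer p q ⟶ pullback a b :=
    pullback.lift (equalizer.ι p q ≫ g ≫ prod.fst) (equalizer.ι p q ≫ g ≫ prod.snd) (by
      simpa only [p, q, Category.assoc] using equalizer.condition p q)
  have hφ : Epi φ := by
    refine epi_of_forall_lift φ (fun T y => ?_)
    obtain ⟨T', e, x, he, hx⟩ := exists_lift_of_epi g
      (prod.lift (y ≫ pullback.fst a b) (y ≫ pullback.snd a b))
    have hxp : x ≫ p = x ≫ q := by
      simp only [p, q]
      rw [← Category.assoc, ← Category.assoc x, hx]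
      simp only [Category.assoc]
      rw [prod.lift_fst_assoc, prod.lift_snd_assoc]
      simp only [Category.assoc]
      rw [pullback.condition]
    refine ⟨T', e, equalizer.lift x hxp, he, ?_⟩
    apply pullback.hom_ext
    · simp only [φ, Category.assoc]
      rw [pullback.lift_fst, equalizer.lift_ι_assoc, ← Category.assoc, hx]
      simp only [Category.assoc, prod.lift_fst]
    · simp only [φ, Category.assoc]
      rw [pullback.lift_snd, equalizer.lift_ι_assoc, ← Category.assoc, hx]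
      simp only [Category.assoc, prod.lift_snd]
  exact SCov.of_epi φ ⟨K₄, hK₄, g₄, hg₄⟩

include h4 in
/-- `S`-coherent sheaves are stable under fibre products. -/
lemma scoh_pullback {A B N : Sh J} (hA : SCoh S A) (hB : SCoh S B) (hN : SCoh S N) (a : A ⟶ N)
    (b : B ⟶ N) : SCoh S (pullback a b) := by
  refine ⟨scov_pullback hA.1 hB.1 hN.2 a b, ?_⟩
  intro K₁ h₁ K₂ h₂ x₁ x₂
  let a₁ : K₁ ⟶ A := x₁ ≫ pullback.fst a b
  let a₂ : K₂ ⟶ A := x₂ ≫ pullback.fst a b
  let b₁ : K₁ ⟶ B := x₁ ≫ pullback.snd a b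
  let b₂ : K₂ ⟶ B := x₂ ≫ pullback.snd a b
  have hQ : SCov S (pullback a₁ a₂) := hA.2 K₁ h₁ K₂ h₂ a₁ a₂
  let β₁ : pullback a₁ a₂ ⟶ B := pullback.fst a₁ a₂ ≫ b₁
  let β₂ : pullback a₁ a₂ ⟶ B := pullback.snd a₁ a₂ ≫ b₂
  have hE : SCov S (equalizer β₁ β₂) := scov_equalizer h4 hQ hB.2 β₁ β₂
  have hc : (equalizer.ι β₁ β₂ ≫ pullback.fst a₁ a₂) ≫ x₁ =
      (equalizer.ι β₁ β₂ ≫ pullback.snd a₁ a₂) ≫ x₂ := by
    apply pullback.hom_ext
    · have := pullback.condition (f := a₁) (g := a₂)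
      simp only [a₁, a₂] at this
      simp only [Category.assoc]
      rw [this]
    · have := equalizer.condition β₁ β₂
      simpa only [β₁, β₂, b₁, b₂, Category.assoc] using this
  let φ : equalizer β₁ β₂ ⟶ pullback x₁ x₂ :=
    pullback.lift (equalizer.ι β₁ β₂ ≫ pullback.fst a₁ a₂)
      (equalizer.ι β₁ β₂ ≫ pullback.snd a₁ a₂) hc
  have hφ : Epi φ := by
    refine epi_of_forall_lift φ (fun T y => ?_)
    have hy : (y ≫ pullback.fst x₁ x₂) ≫ x₁ = (y ≫ pullback.snd x₁ x₂) ≫ x₂ := by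
      simp only [Category.assoc]
      rw [pullback.condition]
    have hy₁ : (y ≫ pullback.fst x₁ x₂) ≫ a₁ = (y ≫ pullback.snd x₁ x₂) ≫ a₂ := by
      simp only [a₁, a₂]
      rw [← Category.assoc, hy, Category.assoc]
    let z₀ : T ⟶ pullback a₁ a₂ :=
      pullback.lift (y ≫ pullback.fst x₁ x₂) (y ≫ pullback.snd x₁ x₂) hy₁
    have hz₀ : z₀ ≫ β₁ = z₀ ≫ β₂ := by
      simp only [z₀, β₁, β₂, b₁, b₂]
      rw [pullback.lift_fst_assoc, pullback.lift_snd_assoc, ← Category.assoc, hy, Category.assoc]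
    refine ⟨T, 𝟙 T, equalizer.lift z₀ hz₀, inferInstance, ?_⟩
    apply pullback.hom_ext
    · simp only [φ, Category.assoc]
      rw [pullback.lift_fst, equalizer.lift_ι_assoc, Category.id_comp]
      simp only [z₀]
      rw [pullback.lift_fst]
    · simp only [φ, Category.assoc]
      rw [pullback.lift_snd, equalizer.lift_ι_assoc, Category.id_comp]
      simp only [z₀]
      rw [pullback.lift_snd]
  exact hE.of_epi φ

include h3 in
/-- The final sheaf is `S`-coherent when some member of `S` covers it. -/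
lemma scoh_terminal (h1 : ∃ K ∈ S, Epi (terminal.from K)) : SCoh S (⊤_ (Sh J)) := by
  obtain ⟨K, hK, hepi⟩ := h1
  refine ⟨⟨K, hK, terminal.from K, hepi⟩, ?_⟩
  intro K₁ h₁ K₂ h₂ a b
  obtain ⟨K₃, g, hK₃, hg⟩ := h3 K₁ h₁ K₂ h₂
  haveI := hg
  let φ : K₁ ⨯ K₂ ⟶ pullback a b :=
    pullback.lift prod.fst prod.snd (Subsingleton.elim _ _)
  have hφ : Epi φ := by
    refine epi_of_forall_lift φ (fun T y => ⟨T, 𝟙 T,
      prod.lift (y ≫ pullback.fst a b) (y ≫ pullback.snd a b), inferInstance, ?_⟩)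
    apply pullback.hom_ext
    · simp only [φ, Category.assoc]
      rw [pullback.lift_fst, prod.lift_fst, Category.id_comp]
    · simp only [φ, Category.assoc]
      rw [pullback.lift_snd, prod.lift_snd, Category.id_comp]
  exact SCov.of_epi φ (SCov.of_epi g (SCov.of_mem hK₃))

end Hyp

/-! ### Finite presentation -/

/-- A map from a quasi-compact sheaf to a coproduct factors through a finite subcoproduct. -/
lemma exists_factor_finset {K : Sh J} (hK : IsQC K) {I : Type u} (X : I → Sh J)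
    (ψ : K ⟶ ∐ X) :
    ∃ (t : Finset I) (ψt : K ⟶ ∐ (fun i : t => X i.1)),
      ψt ≫ Sigma.desc (fun i : t => Sigma.ι X i.1) = ψ := by
  classical
  have hcov : IsCover (fun i => pullback.fst ψ (Sigma.ι X i)) :=
    (isCover_cofan_inj (Cofan.mk (∐ X) (Sigma.ι X)) (coproductIsCoproduct X)).pullback_fst ψ
  obtain ⟨t, ht⟩ := IsQC.exists_finset hK _ hcov
  let incl : (∐ (fun i : t => X i.1)) ⟶ ∐ X := Sigma.desc (fun i : t => Sigma.ι X i.1)
  have hmono : Mono incl :=
    MonoCoprod.mono_of_injective' X (fun i : t => i.1) Subtype.val_injective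
  let p : pullback ψ incl ⟶ K := pullback.fst ψ incl
  have hp : Epi p := by
    rw [← isCover_single_iff_epi.{u, u}]
    refine ht.of_refines _ (fun i => ⟨PUnit.unit, pullback.lift (pullback.fst ψ (Sigma.ι X i.1))
      (pullback.snd ψ (Sigma.ι X i.1) ≫ Sigma.ι (fun i : t => X i.1) i) ?_, ?_⟩)
    · rw [Category.assoc, Sigma.ι_desc, pullback.condition]
    · exact pullback.lift_fst _ _ _
  have hiso : IsIso p := isIso_of_mono_of_epi p
  refine ⟨t, inv p ≫ pullback.snd ψ incl, ?_⟩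
  rw [Category.assoc, ← pullback.condition, IsIso.inv_hom_id_assoc]

variable (hqc : ∀ K ∈ S, IsQC K)
  (h2 : ∀ (F K : Sh J) (g : F ⟶ K), K ∈ S → Epi g →
    ∃ (K' : Sh J) (k : K' ⟶ F), K' ∈ S ∧ Epi (k ≫ g))

include hqc in
lemma fpInj_of_scov {N : Sh J} (hN : SCov S N) : FPInj N := by
  obtain ⟨K, hK, g, hg⟩ := hN
  haveI := hg
  exact FPInj.of_epi g ((isQC_iff_fpInj K).1 (hqc K hK))

include hqc h2 in
/-- A map from a member of `S` to a filtered colimit lifts to a stage after refining by a member of `S`. -/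
lemma exists_lift_refine {K : Sh J} (hK : K ∈ S) {I : Type u} [SmallCategory I] [IsFiltered I]
    (D : I ⥤ Sh J) (φ : K ⟶ colimit D) :
    ∃ (K' : Sh J) (e : K' ⟶ K) (i : I) (f : K' ⟶ D.obj i),
      K' ∈ S ∧ Epi e ∧ f ≫ colimit.ι D i = e ≫ φ := by
  classical
  let σ : (∐ D.obj) ⟶ colimit D := Sigma.desc (colimit.ι D)
  have hσ : Epi σ := by
    have h1 : IsCover (fun i => colimit.ι D i) :=
      isCover_of_hom_ext _ fun Z a b hab => colimit.hom_ext hab
    exact (isCover_iff_epi_sigmaDesc _).1 h1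
  have hfst : Epi (pullback.fst φ σ) := epi_fst_of_isPullback (IsPullback.of_hasPullback φ σ)
  obtain ⟨K', k, hK', hk⟩ := h2 _ K (pullback.fst φ σ) hK hfst
  obtain ⟨t, ψt, hψt⟩ := exists_factor_finset (hqc K' hK') D.obj (k ≫ pullback.snd φ σ)
  obtain ⟨k₀, hk₀⟩ := IsFiltered.sup_objs_exists t
  have hc : ∀ l : t, Nonempty (l.1 ⟶ k₀) := fun l => hk₀ l.2
  let c : ∀ l : t, l.1 ⟶ k₀ := fun l => (hc l).some
  refine ⟨K', k ≫ pullback.fst φ σ, k₀, ψt ≫ Sigma.desc (fun l : t => D.map (c l)), hK', hk, ?_⟩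
  have h1 : Sigma.desc (fun l : t => D.map (c l)) ≫ colimit.ι D k₀ =
      Sigma.desc (fun i : t => Sigma.ι D.obj i.1) ≫ σ := by
    apply Sigma.hom_ext
    intro l
    simp only [σ, colimit.ι_desc_assoc, Cofan.mk_ι_app, colimit.w, colimit.ι_desc]
  rw [Category.assoc, h1, ← Category.assoc, hψt, Category.assoc, Category.assoc, pullback.condition]

include hqc h2 in
/-- `S`-coherent sheaves are finitely presentable. -/
lemma isFP_of_scoh {N : Sh J} (hN : SCoh S N) : IsFP N := by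
  rw [isFP_iff]
  refine ⟨fpInj_of_scov hqc hN.1, ?_⟩
  intro I _ _ D φ
  obtain ⟨K, hK, g, hg⟩ := hN.1
  haveI := hg
  obtain ⟨K', e, i, f, hK', he, hf⟩ := exists_lift_refine hqc h2 hK D (g ≫ φ)
  haveI := he
  let h : K' ⟶ N := e ≫ g
  have hh : Epi h := epi_comp e g
  have hR : FPInj (pullback h h) := fpInj_of_scov hqc (hN.2 K' hK' K' hK' h h)
  obtain ⟨k, c, hc⟩ := hR.exists_map_eq D (pullback.fst h h ≫ f) (pullback.snd h h ≫ f) (by
    rw [Category.assoc, Category.assoc, hf, ← Category.assoc e, pullback.condition_assoc])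
  obtain ⟨f', hf'⟩ := exists_desc_of_epi h (f ≫ D.map c) (by
    simpa only [Category.assoc] using hc)
  refine ⟨k, f', ?_⟩
  rw [← cancel_epi h, ← Category.assoc, hf', Category.assoc, colimit.w, hf, Category.assoc]

/-! ### Acyclicity passes to filtered colimits -/

section Main

variable
  (h3 : ∀ K ∈ S, ∀ K' ∈ S, ∃ (K'' : Sh J) (g : K'' ⟶ K ⨯ K'), K'' ∈ S ∧ Epi g)
  (h4 : ∀ K ∈ S, ∀ K' ∈ S, ∀ (a b : K ⟶ K'),
    ∃ (K'' : Sh J) (g : K'' ⟶ equalizer a b), K'' ∈ S ∧ Epi g)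

include h4 in
lemma scoh_nerve {K' K : Sh J} (f : K' ⟶ K) (hK' : SCoh S K') (hK : SCoh S K) (n : ℕ) :
    SCoh S (nerve f n) := by
  have := NerveInd.prop_WP f (fun X => SCoh S X) (fun e h => h.of_iso e) hK'
    (fun a b g h hN => (scoh_pullback h4 hN hK' hK g f).of_iso h.isoPullback.symm) n
  exact this

include h2 h3 h4 in
lemma exists_refinement {K : Sh J} (hK : SCoh S K) (L : Sh J) (g : L ⟶ K) (hg : Epi g) :
    ∃ (K' : Sh J) (f : K' ⟶ K) (k : K' ⟶ L), (Epi f ∧ SCoh S K' ∧ SCoh S K) ∧ k ≫ g = f := by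
  obtain ⟨K₀, hK₀, g₀, hg₀⟩ := hK.1
  haveI := hg₀
  haveI := hg
  have hfst : Epi (pullback.fst g₀ g) := epi_fst_of_isPullback (IsPullback.of_hasPullback g₀ g)
  obtain ⟨K', k, hK', hk⟩ := h2 _ K₀ (pullback.fst g₀ g) hK₀ hfst
  haveI := hk
  refine ⟨K', (k ≫ pullback.fst g₀ g) ≫ g₀, k ≫ pullback.snd g₀ g,
    ⟨epi_comp _ _, scoh_of_mem h3 h4 hK', hK⟩, ?_⟩
  rw [Category.assoc, Category.assoc, pullback.condition]

include hqc h2 h3 h4 in
/-- Acyclicity with respect to all `S`-coherent sheaves passes to filtered colimits. -/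
theorem scoh_acyclic_colim {Λ : Type u} [SmallCategory Λ] [IsFiltered Λ]
    {D : Λ ⥤ Sheaf J AddCommGrpCat.{u}} {c : Cocone D} (hc : IsColimit c)
    (hD : ∀ (i : Λ) (K : Sh J), SCoh S K → ∀ q : ℕ, Subsingleton (CohCx.HK K (D.obj i) (q + 1))) :
    ∀ (K : Sh J), SCoh S K → ∀ q : ℕ, Subsingleton (CohCx.HK K c.pt (q + 1)) := by
  refine acyclic_colim hc (fun K => SCoh S K) (fun K => SCoh S K)
    (fun {K' K} f => Epi f ∧ SCoh S K' ∧ SCoh S K)
    (fun N hN => isFP_of_scoh hqc h2 hN) (fun F i h N hN => h N hN) ?_ ?_ hD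
  · rintro K' K f ⟨h1, h2', h3'⟩
    exact ⟨h1, h3', fun n => scoh_nerve h4 f h2' h3' n⟩
  · intro K hK L g hg
    exact exists_refinement h2 h3 h4 hK L g hg

end Main

end Groth.Agent.H60.SCoh
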