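import Groth.Prelude.Def_Hyper

set_option autoImplicit false
open CategoryTheory CategoryTheory.Limits Opposite
universe u

namespace Groth.Agent.H60.SRCov

open Hyper

variable {C : Type u} [SmallCategory C] (J : GrothendieckTopology C)

lemma mem_iff {K L : FormalCoproduct.{u} C} (f : K ⟶ L) (j : L.I) {W : C} (h : W ⟶ L.obj j) :
    (Sieve.ofArrows (fun i : {i : K.I // f.f i = j} => K.obj i.1)
      (fun i => f.φ i.1 ≫ eqToHom (congrArg L.obj i.2))).arrows h ↔
    ∃ (i : K.I) (hi : f.f i = j) (a : W ⟶ K.obj i), h = a ≫ f.φ i ≫ eqToHom (congrArg L.obj hi) := by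
  rw [Sieve.mem_ofArrows_iff]
  constructor
  · rintro ⟨⟨i, hi⟩, a, rfl⟩
    exact ⟨i, hi, a, rfl⟩
  · rintro ⟨i, hi, a, rfl⟩
    exact ⟨⟨i, hi⟩, a, rfl⟩

theorem comp {K L M : FormalCoproduct.{u} C} (f : K ⟶ L) (g : L ⟶ M)
    (hf : IsSRCovering J f) (hg : IsSRCovering J g) : IsSRCovering J (f ≫ g) := by
  intro m
  refine J.transitive (hg m) _ ?_
  intro Y h hh
  rw [mem_iff] at hh
  obtain ⟨j, hj, a, rfl⟩ := hh
  refine J.superset_covering ?_ (J.pullback_stable a (hf j))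
  intro Z b hb
  rw [Sieve.pullback_apply, mem_iff] at hb
  obtain ⟨i, hi, c, hc⟩ := hb
  rw [Sieve.pullback_apply, mem_iff]
  subst hi
  subst hj
  refine ⟨i, rfl, c, ?_⟩
  rw [← Category.assoc, hc]
  simp


theorem of_iso {K L : FormalCoproduct.{u} C} (e : K ≅ L) : IsSRCovering J e.hom := by
  intro j
  have h1 : e.hom.f (e.inv.f j) = j := congrFun (congrArg FormalCoproduct.Hom.f e.inv_hom_id) j
  have h2 := ((FormalCoproduct.hom_ext_iff' (e.inv ≫ e.hom) (𝟙 L)).1 e.inv_hom_id j).2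
  have h3 : (Sieve.ofArrows (fun i : {i : K.I // e.hom.f i = j} => K.obj i.1)
      (fun i => e.hom.φ i.1 ≫ eqToHom (congrArg L.obj i.2))).arrows (𝟙 (L.obj j)) := by
    rw [mem_iff]
    refine ⟨e.inv.f j, h1, e.inv.φ j, ?_⟩
    have h4 : (e.inv.φ j ≫ e.hom.φ (e.inv.f j)) ≫ eqToHom (congrArg L.obj h1) = 𝟙 (L.obj j) := h2
    rw [← h4, Category.assoc]
  have h5 := (Sieve.id_mem_iff_eq_top).1 h3
  rw [h5]
  exact J.top_mem _


variable [HasPullbacks C]

/-- the explicit pullback cone -/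
noncomputable abbrev pbCone {K L L' : FormalCoproduct.{u} C} (f : K ⟶ L) (g : L' ⟶ L) :
    PullbackCone g f :=
  FormalCoproduct.pullbackCone g f (fun _ => pullback.cone _ _)

theorem pbCone_fst {K L L' : FormalCoproduct.{u} C} (f : K ⟶ L) (g : L' ⟶ L)
    (hf : IsSRCovering J f) : IsSRCovering J (pbCone f g).fst := by
  intro l'
  refine J.superset_covering ?_ (J.pullback_stable (g.φ l') (hf (g.f l')))
  intro Z b hb
  rw [Sieve.pullback_apply, mem_iff] at hb
  obtain ⟨k, hk, c, hc⟩ := hb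
  rw [mem_iff]
  let p : Function.Pullback g.f f.f := ⟨(l', k), hk.symm⟩
  have hcond : b ≫ (g.φ l' ≫ eqToHom (congrArg L.obj hk.symm)) = c ≫ f.φ k := by
    rw [← Category.assoc, hc]
    simp
  refine ⟨p, rfl, pullback.lift b c hcond, ?_⟩
  show b = pullback.lift b c hcond ≫ pullback.fst _ _ ≫ eqToHom rfl
  rw [eqToHom_refl, Category.comp_id, pullback.lift_fst]

theorem pullback_fst {K L L' : FormalCoproduct.{u} C} (f : K ⟶ L) (g : L' ⟶ L)
    (hf : IsSRCovering J f) : IsSRCovering J (pullback.fst g f) := by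
  let hP : IsLimit (pbCone f g) :=
    FormalCoproduct.isLimitPullbackCone g f _ (fun _ => pullback.isLimit _ _)
  let e : pullback g f ≅ (pbCone f g).pt :=
    IsLimit.conePointUniqueUpToIso (pullback.isLimit g f) hP
  have he : pullback.fst g f = e.hom ≫ (pbCone f g).fst :=
    (IsLimit.conePointUniqueUpToIso_hom_comp (pullback.isLimit g f) hP WalkingCospan.left).symm
  rw [he]
  exact comp J _ _ (of_iso J e) (pbCone_fst J f g hf)

end Groth.Agent.H60.SRCov
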