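import Mathlib

open CategoryTheory Limits Opposite

universe w v u

namespace Groth.Agent.H60.SheafComposeColim

variable {C : Type u} [Category.{v} C] (J : GrothendieckTopology C)
  {A : Type*} [Category A] {B : Type*} [Category B] (F : A ⥤ B)
  [HasWeakSheafify J A] [HasWeakSheafify J B] [J.HasSheafCompose F] [J.PreservesSheafification F]

/-- If `F` preserves sheafification and colimits of shape `K`, then so does `sheafCompose J F`. -/
theorem preservesColimitsOfShape_sheafCompose (K : Type*) [Category K] [HasColimitsOfShape K A]
    [PreservesColimitsOfShape K F] :
    PreservesColimitsOfShape K (sheafCompose J F) := by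
  constructor
  intro D
  let G₁ := presheafToSheaf J A
  let G₂ := presheafToSheaf J B
  let E := D ⋙ sheafToPresheaf J A
  have e : D ≅ E ⋙ G₁ :=
    (Functor.rightUnitor D).symm ≪≫ Functor.isoWhiskerLeft D (sheafificationNatIso J A) ≪≫
      (Functor.associator _ _ _).symm
  have : PreservesColimit (E ⋙ G₁) (sheafCompose J F) := by
    have h1 : PreservesColimit E (G₁ ⋙ sheafCompose J F) := by
      have h2 : PreservesColimit E ((Functor.whiskeringRight Cᵒᵖ A B).obj F ⋙ G₂) := by
        have : PreservesColimitsOfShape K G₂ :=
          (sheafificationAdjunction J B).leftAdjoint_preservesColimits.preservesColimitsOfShape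
        infer_instance
      exact preservesColimit_of_natIso E
        (sheafComposeNatIso J F (sheafificationAdjunction J A) (sheafificationAdjunction J B))
    have h3 : PreservesColimit E G₁ := by
      have : PreservesColimitsOfShape K G₁ :=
        (sheafificationAdjunction J A).leftAdjoint_preservesColimits.preservesColimitsOfShape
      infer_instance
    refine preservesColimit_of_preserves_colimit_cocone
      (isColimitOfPreserves G₁ (colimit.isColimit E)) ?_
    exact isColimitOfPreserves (G₁ ⋙ sheafCompose J F) (colimit.isColimit E)
  exact preservesColimit_of_iso_diagram (sheafCompose J F) e.symm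

end Groth.Agent.H60.SheafComposeColim

namespace Groth.Agent.H60.SheafComposeColim

open CategoryTheory Limits

universe u'

instance preservesColimitsOfShape_forgetAb {C : Type u'} [SmallCategory C]
    (J : GrothendieckTopology C) (Λ : Type u') [SmallCategory Λ] [IsFiltered Λ] :
    PreservesColimitsOfShape Λ (sheafCompose J (forget AddCommGrpCat.{u'})) :=
  preservesColimitsOfShape_sheafCompose J (forget AddCommGrpCat.{u'}) Λ

end Groth.Agent.H60.SheafComposeColim
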