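import Groth.Agent.H60.CompFilt

set_option autoImplicit false
open CategoryTheory CategoryTheory.Limits Opposite
universe u

namespace Groth.Agent.H60.CompFilt

lemma weakPO_of_hasPushouts_of_hasCoequalizers (I : Type u) [SmallCategory I] [HasPushouts I]
    [HasCoequalizers I] : WeakPO I where
  span f g := ⟨pushout f g, pushout.inl f g, pushout.inr f g, pushout.condition⟩
  coeq f g := ⟨coequalizer f g, coequalizer.π f g, coequalizer.condition f g⟩

variable {C D : Type u} [SmallCategory C] [SmallCategory D] (u : C ⥤ D)
  [HasPullbacks C] [HasEqualizers C]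
  [PreservesLimitsOfShape WalkingCospan u] [PreservesLimitsOfShape WalkingParallelPair u]

lemma weakPO_costructuredArrow (K : Dᵒᵖ) : WeakPO (CostructuredArrow u.op K) := by
  have e : (StructuredArrow (unop K) u)ᵒᵖ ≌ CostructuredArrow u.op K :=
    structuredArrowOpEquivalence u (unop K)
  have : HasPushouts (CostructuredArrow u.op K) :=
    Adjunction.hasColimitsOfShape_of_equivalence e.inverse
  have : HasCoequalizers (CostructuredArrow u.op K) :=
    Adjunction.hasColimitsOfShape_of_equivalence e.inverse
  exact weakPO_of_hasPushouts_of_hasCoequalizers _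

/-- the presheaf left Kan extension along `u.op` is exact on presheaves of abelian groups -/
theorem preservesFiniteLimits_lan :
    PreservesFiniteLimits (u.op.lan : (Cᵒᵖ ⥤ AddCommGrpCat.{u}) ⥤ (Dᵒᵖ ⥤ AddCommGrpCat.{u})) := by
  apply preservesFiniteLimits_of_preservesFiniteLimitsOfSize.{u}
  intro J _ _
  apply preservesLimitsOfShape_of_evaluation (u.op.lan :
    (Cᵒᵖ ⥤ AddCommGrpCat.{u}) ⥤ (Dᵒᵖ ⥤ AddCommGrpCat.{u})) J
  intro K
  have := preservesFiniteLimits_colim (weakPO_costructuredArrow u K)
  exact preservesLimitsOfShape_of_natIso (CategoryTheory.lanEvaluationIsoColim _ _ _).symm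

theorem preservesFiniteLimits_sheafPullback (J : GrothendieckTopology C)
    (K : GrothendieckTopology D) [u.IsContinuous J K] :
    PreservesFiniteLimits (u.sheafPullback AddCommGrpCat.{u} J K) := by
  have := preservesFiniteLimits_lan u
  have h : PreservesFiniteLimits
      (Functor.sheafPullbackConstruction.sheafPullback u AddCommGrpCat.{u} J K) := by
    have : PreservesFiniteLimits (u.op.lan ⋙ presheafToSheaf K AddCommGrpCat.{u}) :=
      comp_preservesFiniteLimits _ _
    exact comp_preservesFiniteLimits _ _
  exact preservesFiniteLimits_of_natIso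
    (Functor.sheafPullbackConstruction.sheafPullbackIso u AddCommGrpCat.{u} J K).symm

end Groth.Agent.H60.CompFilt
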