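import Mathlib
import Groth.Agent.H12.TCx6

/-!
# Artin–Rees and the functors `T_p` (EGA III 7.5-type criterion with `A/m^{n+1}`)
-/

set_option autoImplicit false
universe u

open CategoryTheory CategoryTheory.Limits CohIII Groth.Agent.H12.TCx TensorProduct

namespace Groth.Agent.H60.TAR

section Alg

variable {A : Type u} [CommRing A]

theorem tmul_one_eq_zero_iff {F : Type u} [AddCommGroup F] [Module A F] (I : Ideal A) (x : F) :
    x ⊗ₜ[A] (1 : A ⧸ I) = 0 ↔ x ∈ I • (⊤ : Submodule A F) := by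
  have h := tensorQuotEquivQuotSMul_tmul_mk (M := F) I x 1
  rw [one_smul] at h
  rw [← (tensorQuotEquivQuotSMul F I).map_eq_zero_iff]
  change (tensorQuotEquivQuotSMul F I) (x ⊗ₜ[A] (Ideal.Quotient.mk I 1)) = 0 ↔ _
  rw [h, Submodule.Quotient.mk_eq_zero]

theorem exists_tmul_one {F : Type u} [AddCommGroup F] [Module A F] (I : Ideal A)
    (y : F ⊗[A] (A ⧸ I)) : ∃ x : F, y = x ⊗ₜ[A] (1 : A ⧸ I) := by
  obtain ⟨x, hx⟩ := Submodule.Quotient.mk_surjective _ (tensorQuotEquivQuotSMul F I y)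
  refine ⟨x, ?_⟩
  apply (tensorQuotEquivQuotSMul F I).injective
  have h := tensorQuotEquivQuotSMul_tmul_mk (M := F) I x 1
  rw [one_smul] at h
  rw [← hx]
  exact h.symm

/-- Artin–Rees consequence: for large `n`, the map `Tor₁(F/B, A/I^{n+1}) → Tor₁(F/B, A/I)` is
zero. -/
theorem exists_forall_lTensor_eq_zero [IsNoetherianRing A] {F : Type u} [AddCommGroup F]
    [Module A F] [Module.Finite A F] (B : Submodule A F) (I : Ideal A) :
    ∃ c : ℕ, ∀ n ≥ c, ∀ (g : (A ⧸ I ^ (n + 1)) →ₗ[A] (A ⧸ I)), g 1 = 1 →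
      ∀ y : ↥B ⊗[A] (A ⧸ I ^ (n + 1)), B.subtype.rTensor (A ⧸ I ^ (n + 1)) y = 0 →
        g.lTensor ↥B y = 0 := by
  obtain ⟨c, hc⟩ := Ideal.exists_pow_inf_eq_pow_smul I B
  refine ⟨c, fun n hn g hg y hy => ?_⟩
  obtain ⟨b, rfl⟩ := exists_tmul_one (I ^ (n + 1)) y
  rw [LinearMap.rTensor_tmul, Submodule.subtype_apply, tmul_one_eq_zero_iff] at hy
  have h1 : (b : F) ∈ I ^ (n + 1) • (⊤ : Submodule A F) ⊓ B := ⟨hy, b.2⟩
  rw [hc (n + 1) (by omega)] at h1
  have h2 : I ^ (n + 1 - c) • (I ^ c • (⊤ : Submodule A F) ⊓ B) ≤ I • B :=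
    Submodule.smul_mono (Ideal.pow_le_self (by omega)) inf_le_right
  have h3 : (b : F) ∈ I • B := h2 h1
  have h4 : b ∈ I • (⊤ : Submodule A ↥B) := by
    have h5 : (I • (⊤ : Submodule A ↥B)).map B.subtype = I • B := by
      rw [Submodule.map_smul'', Submodule.map_top, Submodule.range_subtype]
    rw [← h5] at h3
    obtain ⟨b', hb', hbb'⟩ := h3
    have : b' = b := Subtype.ext hbb'
    rwa [← this]
  rw [LinearMap.lTensor_tmul, hg]
  exact (tmul_one_eq_zero_iff I b).2 h4

end Alg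

section T

variable {A : Type u} [CommRing A] {ι : Type} {c : ComplexShape ι}
  (P : HomologicalComplex (ModuleCat.{u} A) c) (p : ι)

/-- If `ker(lW ⊗ N) → ker(lW ⊗ k)` is surjective and `ker(B ⊗ N → P_next ⊗ N) → B ⊗ k` vanishes,
then `B ⊗ k → P_next ⊗ k` is injective (`B = im(lW)`). -/
theorem subtype_rTensor_injective_of_kerMap_surjective {N k : Type u} [AddCommGroup N] [Module A N]
    [AddCommGroup k] [Module A k] (g : N →ₗ[A] k)
    (hs : Function.Surjective (kerMap P p g))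
    (hz : ∀ y : ↥(LinearMap.range (lW P p)) ⊗[A] N,
      (LinearMap.range (lW P p)).subtype.rTensor N y = 0 →
        g.lTensor ↥(LinearMap.range (lW P p)) y = 0) :
    Function.Injective ((LinearMap.range (lW P p)).subtype.rTensor k) := by
  set σ := (lW P p).rangeRestrict with hσ
  set i := (LinearMap.range (lW P p)).subtype with hi
  have hσs : Function.Surjective σ := LinearMap.surjective_rangeRestrict _
  have hcomp : ∀ (X : Type u) [AddCommGroup X] [Module A X],
      (lW P p).rTensor X = (i.rTensor X) ∘ₗ (σ.rTensor X) := by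
    intro X _ _
    rw [← LinearMap.rTensor_comp]
    rfl
  rw [injective_iff_map_eq_zero]
  intro b hb
  obtain ⟨x, rfl⟩ := LinearMap.rTensor_surjective k hσs b
  have hx : x ∈ LinearMap.ker ((lW P p).rTensor k) := by
    rw [LinearMap.mem_ker, hcomp, LinearMap.comp_apply]
    exact hb
  obtain ⟨x', hx'⟩ := hs ⟨x, hx⟩
  have hx'' : g.lTensor (W P p) x'.1 = x := congrArg Subtype.val hx'
  have h1 : i.rTensor N (σ.rTensor N x'.1) = 0 := by
    rw [← LinearMap.comp_apply, ← hcomp]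
    exact x'.2
  have h2 := hz _ h1
  rw [← hx'', ← LinearMap.comp_apply, LinearMap.rTensor_comp_lTensor,
    ← LinearMap.lTensor_comp_rTensor, LinearMap.comp_apply]
  exact h2

end T

section Main

variable {A : Type u} [CommRing A] [IsNoetherianRing A] [IsLocalRing A] {ι : Type}
  {c : ComplexShape ι} (P : HomologicalComplex (ModuleCat.{u} A) c) (p : ι)

/-- EGA III 7.5-type criterion: if for arbitrarily large `n` the map `T_p(A/m^{n+1}) → T_p(A/m)`
is surjective, then `T_p` preserves epimorphisms. -/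
theorem preservesEpi_of_surjective_pow
    (hP : ∀ i, Module.Finite A (P.X i) ∧ Module.Flat A (P.X i)) (hrel : c.Rel p (c.next p))
    (g : ∀ n : ℕ, (A ⧸ IsLocalRing.maximalIdeal A ^ (n + 1)) →ₗ[A] (A ⧸ IsLocalRing.maximalIdeal A))
    (hg : ∀ n, g n 1 = 1)
    (h : ∀ n₁ : ℕ, ∃ n ≥ n₁, Function.Surjective ((TFun P p).map (ModuleCat.ofHom (g n))).hom) :
    (TFun P p).PreservesEpimorphisms := by
  have hfl : ∀ i, Module.Flat A (P.X i) := fun i => (hP i).2
  haveI : Module.Finite A (P.X (c.next p)) := (hP _).1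
  haveI : Module.Flat A (P.X (c.next p)) := (hP _).2
  haveI : Module.Free A (P.X (c.next p)) := Module.free_of_flat_of_isLocalRing
  rw [preservesEpi_iff_flat_W_next P p hfl hrel, ← subtype_rTensor_injective_iff_flat P p hrel]
  obtain ⟨c₀, hc₀⟩ := exists_forall_lTensor_eq_zero (LinearMap.range (lW P p))
    (IsLocalRing.maximalIdeal A)
  obtain ⟨n, hn, hs⟩ := h c₀
  rw [TFun_map_surjective_iff] at hs
  exact subtype_rTensor_injective_of_kerMap_surjective P p (g n) hs (hc₀ n hn (g n) (hg n))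

end Main

end Groth.Agent.H60.TAR
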