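import Mathlib
import Groth.Agent.H12.TCx6

/-!
# `T_p ≅ H_p(P) ⊗ -` when `T_p` is exact
-/

set_option autoImplicit false
universe u

open CategoryTheory CategoryTheory.Limits MonoidalCategory CohIII Groth.Agent.H12.TCx TensorProduct

namespace Groth.Agent.H60.TTensor

section Iso

variable {A : Type u} [CommRing A] {ι : Type} {c : ComplexShape ι}
  (P : HomologicalComplex (ModuleCat.{u} A) c) (p : ι)

theorem lW_comp_subtype : (lW P p) ∘ₗ (Hc P p).subtype = 0 := by
  ext z; exact z.2

/-- the canonical map `Hc ⊗ M → ker (lW ⊗ M)`. -/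
noncomputable def eps (M : Type u) [AddCommGroup M] [Module A M] :
    (Hc P p) ⊗[A] M →ₗ[A] LinearMap.ker ((lW P p).rTensor M) :=
  ((Hc P p).subtype.rTensor M).codRestrict _ (by
    intro x
    rw [LinearMap.mem_ker, ← LinearMap.comp_apply, ← LinearMap.rTensor_comp, lW_comp_subtype,
      LinearMap.rTensor_zero, LinearMap.zero_apply])

theorem eps_val (M : Type u) [AddCommGroup M] [Module A M] (x : (Hc P p) ⊗[A] M) :
    (eps P p M x).1 = (Hc P p).subtype.rTensor M x := rfl

variable (hB : Module.Flat A (LinearMap.range (lW P p)))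
  (hWn : Module.Flat A (P.X (c.next p) ⧸ LinearMap.range (lW P p)))

include hB in
theorem eps_injective (M : Type u) [AddCommGroup M] [Module A M] :
    Function.Injective (eps P p M) := by
  have h1 : Function.Injective ((Hc P p).subtype.rTensor M) := by
    rw [← LinearMap.lTensor_inj_iff_rTensor_inj]
    exact LinearMap.lTensor_injective_of_exact_of_flat (lW P p).rangeRestrict
      (LinearMap.surjective_rangeRestrict _) (Hc P p).subtype (Submodule.subtype_injective _)
      (exact_ker_rangeRestrict P p) M
  intro x y hxy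
  apply h1
  have := congrArg Subtype.val hxy
  exact this

include hWn in
theorem eps_surjective (M : Type u) [AddCommGroup M] [Module A M] :
    Function.Surjective (eps P p M) := by
  set σ := (lW P p).rangeRestrict with hσ
  set i := (LinearMap.range (lW P p)).subtype with hi
  have hσs : Function.Surjective σ := LinearMap.surjective_rangeRestrict _
  have hcomp : (lW P p).rTensor M = (i.rTensor M) ∘ₗ (σ.rTensor M) := by
    rw [← LinearMap.rTensor_comp]
    rfl
  have hinj : Function.Injective (i.rTensor M) := by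
    rw [← LinearMap.lTensor_inj_iff_rTensor_inj]
    exact LinearMap.lTensor_injective_of_exact_of_flat (LinearMap.range (lW P p)).mkQ
      (Submodule.mkQ_surjective _) i (Submodule.subtype_injective _)
      (LinearMap.exact_subtype_mkQ _) M
  rintro ⟨x, hx⟩
  have h1 : σ.rTensor M x = 0 := by
    apply hinj
    rw [map_zero, ← LinearMap.comp_apply, ← hcomp]
    exact hx
  obtain ⟨y, rfl⟩ := (rTensor_exact M (exact_ker_rangeRestrict P p) hσs x).mp h1
  exact ⟨y, Subtype.ext rfl⟩

/-- `Hc ⊗ M ≃ T_p(M)` when `B` and `P_next/B` are flat. -/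
noncomputable def phi (M : ModuleCat.{u} A) : (Hc P p) ⊗[A] M ≃ₗ[A] T P p M :=
  (LinearEquiv.ofBijective (eps P p M) ⟨eps_injective P p hB M, eps_surjective P p hWn M⟩) ≪≫ₗ
    (TEquivKer P p M).symm

theorem TEquivKer_phi (M : ModuleCat.{u} A) (x : (Hc P p) ⊗[A] M) :
    TEquivKer P p M (phi P p hB hWn M x) = eps P p M x := by
  unfold phi
  simp

theorem phi_natural {M M' : ModuleCat.{u} A} (g : M ⟶ M') (x : (Hc P p) ⊗[A] M) :
    ((TFun P p).map g).hom (phi P p hB hWn M x) =
      phi P p hB hWn M' (g.hom.lTensor (Hc P p) x) := by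
  apply (TEquivKer P p M').injective
  rw [TEquivKer_natural, TEquivKer_phi, TEquivKer_phi]
  apply Subtype.ext
  change g.hom.lTensor (W P p) ((Hc P p).subtype.rTensor M x) =
    (Hc P p).subtype.rTensor M' (g.hom.lTensor (Hc P p) x)
  rw [← LinearMap.comp_apply, ← LinearMap.comp_apply, LinearMap.lTensor_comp_rTensor,
    LinearMap.rTensor_comp_lTensor]

/-- the natural isomorphism `Hc ⊗ - ≅ T_p`. -/
noncomputable def natIso : tensorLeft (ModuleCat.of A (Hc P p)) ≅ TFun P p :=
  NatIso.ofComponents (fun M => (phi P p hB hWn M).toModuleIso) (by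
    intro M M' g
    ext x
    exact (phi_natural P p hB hWn g x).symm)

end Iso

section Main

variable {A : Type u} [CommRing A] {ι : Type} {c : ComplexShape ι}
  (P : HomologicalComplex (ModuleCat.{u} A) c) (hP : ∀ i, Module.Flat A (P.X i)) (p : ι)

include hP in
theorem exists_iso_tensorLeft (hrel : c.Rel p (c.next p))
    (hm : (TFun P p).PreservesMonomorphisms) (he : (TFun P p).PreservesEpimorphisms) :
    ∃ N : ModuleCat.{u} A, Module.Flat A N ∧ Nonempty (TFun P p ≅ tensorLeft N) := by
  have hW : Module.Flat A (W P p) := (preservesMono_iff_flat_W P p (hP _)).1 hm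
  have hWn : Module.Flat A (W P (c.next p)) := (preservesEpi_iff_flat_W_next P p hP hrel).1 he
  have hB : Module.Flat A (LinearMap.range (lW P p)) := flat_range_lW P p hrel (hP _) hWn
  have hQ : Module.Flat A (P.X (c.next p) ⧸ LinearMap.range (lW P p)) :=
    Module.Flat.of_linearEquiv (Submodule.quotEquivOfEq _ _ (range_lW_eq P p hrel))
  exact ⟨ModuleCat.of A (Hc P p), flat_Hc P p hW hB, ⟨(natIso P p hB hQ).symm⟩⟩

theorem preserves_of_iso_tensorLeft (N : ModuleCat.{u} A) (hN : Module.Flat A N)
    (e : TFun P p ≅ tensorLeft N) :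
    (TFun P p).PreservesMonomorphisms ∧ (TFun P p).PreservesEpimorphisms := by
  have h1 : (tensorLeft N).PreservesMonomorphisms := by
    refine ⟨fun {M M'} g hg => ?_⟩
    rw [ModuleCat.mono_iff_injective] at hg ⊢
    exact Module.Flat.lTensor_preserves_injective_linearMap g.hom hg
  have h2 : (tensorLeft N).PreservesEpimorphisms := by
    refine ⟨fun {M M'} g hg => ?_⟩
    rw [ModuleCat.epi_iff_surjective] at hg ⊢
    exact LinearMap.lTensor_surjective N hg
  exact ⟨Functor.PreservesMonomorphisms.of_iso e.symm, Functor.PreservesEpimorphisms.of_iso e.symm⟩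

end Main

end Groth.Agent.H60.TTensor
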