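import Groth.Agent.H60.QCEtale
import Groth.Prelude.Def_EtBase

/-!
# Torsion sheaves as filtered colimits of their `n!`-torsion subsheaves, and torsion cohomology
-/

set_option autoImplicit false

namespace Groth.Agent.H60.TorsColim

open CategoryTheory Limits Opposite AlgebraicGeometry

universe w u

section Abstract

variable {A : Type*} [Category A] [Abelian A]

/-- The `k!`-torsion subobjects of `F`, as a diagram indexed by `ℕ` (lifted to any universe). -/
noncomputable def tdiag (F : A) : ULift.{u} ℕ ⥤ A where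
  obj k := kernel (k.down.factorial • 𝟙 F)
  map {k l} h := kernel.lift _ (kernel.ι _) (by
    have hkl : k ≤ l := leOfHom h
    have hkl' : k.down ≤ l.down := hkl
    obtain ⟨c, hc⟩ := Nat.factorial_dvd_factorial hkl'
    rw [hc, mul_nsmul, Preadditive.comp_nsmul, kernel.condition, smul_zero])
  map_id k := by ext; simp
  map_comp f g := by ext; simp

/-- The inclusions of the torsion subobjects. -/
noncomputable def tcocone (F : A) : Cocone (tdiag.{u} F) where
  pt := F
  ι := { app := fun k => kernel.ι _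
         naturality := fun k l h => by simp [tdiag] }

lemma tdiag_killed (F : A) (k : ULift.{u} ℕ) :
    k.down.factorial • 𝟙 ((tdiag.{u} F).obj k) = 0 := by
  show k.down.factorial • 𝟙 (kernel (k.down.factorial • 𝟙 F)) = 0
  rw [← cancel_mono (kernel.ι (k.down.factorial • 𝟙 F))]
  simp only [Preadditive.nsmul_comp, Category.id_comp, zero_comp]
  have := kernel.condition (k.down.factorial • 𝟙 F)
  rwa [Preadditive.comp_nsmul, Category.comp_id] at this

/-- An additive functor to abelian groups which preserves the colimit of the torsion diagram sends an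
object that is the colimit of its `k!`-torsion subobjects to a torsion group. -/
lemma isAddTorsion_of_isColimit {F : A} (H : A ⥤ AddCommGrpCat.{w}) [H.Additive]
    [PreservesColimitsOfShape (ULift.{u} ℕ) H] (hc : IsColimit (tcocone.{u} F)) :
    IsAddTorsion (H.obj F) := by
  have hc' := isColimitOfPreserves H hc
  let T : AddSubgroup (H.obj F) := AddCommGroup.torsion (H.obj F)
  let π : H.obj F ⟶ AddCommGrpCat.of ((H.obj F) ⧸ T) := AddCommGrpCat.ofHom (QuotientAddGroup.mk' T)
  have hleg : ∀ (k : ULift.{u} ℕ) (f : (tdiag.{u} F).obj k ⟶ F), H.map f ≫ π = 0 := by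
    intro k f
    ext y
    show QuotientAddGroup.mk' T ((H.map f) y) = 0
    rw [QuotientAddGroup.mk'_apply, QuotientAddGroup.eq_zero_iff]
    show IsOfFinAddOrder _
    rw [isOfFinAddOrder_iff_nsmul_eq_zero]
    refine ⟨k.down.factorial, Nat.factorial_pos _, ?_⟩
    have h1 : H.map (k.down.factorial • 𝟙 ((tdiag.{u} F).obj k)) = 0 := by
      rw [tdiag_killed, H.map_zero]
    rw [← map_nsmul]
    have h2 : k.down.factorial • y = (H.map (k.down.factorial • 𝟙 ((tdiag.{u} F).obj k))) y := by
      rw [H.map_nsmul, H.map_id]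
      rfl
    rw [h2, h1]
    simp
  have hπ : π = 0 := hc'.hom_ext (fun k => (hleg k ((tcocone.{u} F).ι.app k)).trans comp_zero.symm)
  intro g
  have : QuotientAddGroup.mk' T g = 0 := by
    have := ConcreteCategory.congr_hom hπ g
    exact this
  rw [QuotientAddGroup.mk'_apply, QuotientAddGroup.eq_zero_iff] at this
  exact this

end Abstract

section Etale

variable {X : Scheme.{u}}

instance hasExact (X : Scheme.{u}) : HasExactColimitsOfShape (ULift.{u} ℕ) (EtCoh.Ab X) :=
  HasExactColimitsOfShape.of_domain_equivalence (EtCoh.Ab X)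
    ((ULift.orderIso.{u+1}.trans ULift.orderIso.{u}.symm).equivalence : ULift.{u+1} ℕ ≌ ULift.{u} ℕ)

/-- Sections of the kernel of `m • 𝟙 F`: every section killed by `m` lifts. -/
lemma exists_section_kernel (F : EtCoh.Ab X) (m : ℕ) (V : X.Etale) (t : F.obj.obj (op V))
    (ht : m • t = 0) :
    ∃ t' : (kernel (m • 𝟙 F)).obj.obj (op V), (kernel.ι (m • 𝟙 F)).hom.app (op V) t' = t := by
  let G : EtCoh.Ab X ⥤ AddCommGrpCat.{u+1} :=
    sheafToPresheaf X.smallEtaleTopology AddCommGrpCat.{u+1} ⋙ (evaluation _ _).obj (op V)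
  have hG : PreservesFiniteLimits G := comp_preservesFiniteLimits _ _
  have hG' : G.Additive := inferInstance
  let f : F ⟶ F := m • 𝟙 F
  have hlim : IsLimit ((KernelFork.ofι (kernel.ι f) (kernel.condition f)).map G) :=
    KernelFork.mapIsLimit _ (kernelIsKernel f) G
  let S : ShortComplex AddCommGrpCat.{u+1} := ShortComplex.mk (G.map (kernel.ι f)) (G.map f)
    (by rw [← G.map_comp, kernel.condition, G.map_zero])
  have hS : S.Exact := ShortComplex.exact_of_f_is_kernel S hlim
  have hft : (G.map f) t = 0 := by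
    have : G.map f = m • 𝟙 (G.obj F) := by
      simp only [f]
      rw [G.map_nsmul, G.map_id]
    rw [this]
    exact ht
  obtain ⟨t', ht'⟩ := (ShortComplex.ab_exact_iff S).1 hS t hft
  exact ⟨t', ht'⟩

/-- The canonical map from the colimit of the torsion subsheaves. -/
noncomputable def cmap (F : EtCoh.Ab X) : colimit (tdiag.{u} F) ⟶ F :=
  colimit.desc (tdiag.{u} F) (tcocone.{u} F)

attribute [local instance] IsFiltered.isConnected in
instance mono_cmap (F : EtCoh.Ab X) : Mono (cmap F) := by
  let φ : tdiag.{u} F ⟶ (Functor.const _).obj F :=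
    { app := fun k => kernel.ι _
      naturality := fun k l h => by simp [tdiag] }
  have : ∀ k, Mono (φ.app k) := fun k => by
    show Mono (kernel.ι (k.down.factorial • 𝟙 F))
    exact equalizer.ι_mono
  have := NatTrans.mono_of_mono_app φ
  refine colim.map_mono' φ (colimit.isColimit _) (isColimitConstCocone (ULift.{u} ℕ) F) (cmap F)
    (fun k => ?_)
  have h1 : colimit.ι (tdiag.{u} F) k ≫ cmap F = kernel.ι (k.down.factorial • 𝟙 F) :=
    colimit.ι_desc _ _
  exact h1.trans (Category.comp_id (kernel.ι (k.down.factorial • 𝟙 F))).symm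

lemma isLocallySurjective_cmap (F : EtCoh.Ab X) (hF : EtCoh.IsTorsion F) :
    Sheaf.IsLocallySurjective (cmap F) := by
  constructor
  intro U s
  rw [QCEtale.mem_top_iff]
  intro x
  obtain ⟨V, g, ⟨v, hv⟩, hfin⟩ := hF U s x
  obtain ⟨n, hn, hns⟩ := isOfFinAddOrder_iff_nsmul_eq_zero.1 hfin
  have hfac : n.factorial • (F.obj.map g.op s) = 0 := by
    obtain ⟨c, hc⟩ := Nat.dvd_factorial hn le_rfl
    rw [hc, mul_nsmul, hns, smul_zero]
  obtain ⟨t', ht'⟩ := exists_section_kernel F n.factorial V _ hfac
  refine ⟨V, g, v, ?_, hv⟩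
  let k : ULift.{u} ℕ := ⟨n⟩
  refine ⟨(colimit.ι (tdiag.{u} F) k).hom.app (op V) t', ?_⟩
  have h1 : colimit.ι (tdiag.{u} F) k ≫ cmap F = kernel.ι (n.factorial • 𝟙 F) :=
    colimit.ι_desc _ _
  have h2 := congrArg (fun φ => φ.hom.app (op V)) h1
  have h3 := ConcreteCategory.congr_hom h2 t'
  exact h3.trans ht'

lemma epi_cmap (F : EtCoh.Ab X) (hF : EtCoh.IsTorsion F) : Epi (cmap F) := by
  have := isLocallySurjective_cmap F hF
  exact Sheaf.epi_of_isLocallySurjective _

lemma isIso_cmap (F : EtCoh.Ab X) (hF : EtCoh.IsTorsion F) : IsIso (cmap F) := by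
  have := epi_cmap F hF
  exact isIso_of_mono_of_epi _

/-- A torsion sheaf is the colimit of its `k!`-torsion subsheaves. -/
noncomputable def isColimitTcocone (F : EtCoh.Ab X) (hF : EtCoh.IsTorsion F) :
    IsColimit (tcocone.{u} F) := by
  haveI : IsIso (cmap F) := isIso_cmap F hF
  exact IsColimit.ofIsoColimit (colimit.isColimit (tdiag.{u} F))
    (Cocone.ext (@asIso _ _ _ _ (cmap F) (isIso_cmap F hF)) (fun k => colimit.ι_desc _ _))

/-- `H^n(X_et, F)` is torsion for torsion `F` as soon as `H^n` commutes with `ℕ`-indexed colimits. -/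
theorem isAddTorsion_H (F : EtCoh.Ab X) (hF : EtCoh.IsTorsion F) (n : ℕ)
    [PreservesColimitsOfShape (ULift.{u} ℕ) (EtCoh.HF X n)] :
    IsAddTorsion (EtCoh.H X F n) := by
  have : (EtCoh.HF X n).Additive := by
    unfold EtCoh.HF
    infer_instance
  exact isAddTorsion_of_isColimit.{u+1, u} (EtCoh.HF X n) (isColimitTcocone F hF)

end Etale

end Groth.Agent.H60.TorsColim
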