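import Mathlib
import Groth.Prelude.Def_SGA4a

set_option autoImplicit false
open CategoryTheory CategoryTheory.Limits Opposite
universe u

namespace Groth.Agent.H60.VK

/-- every colimit cofan in `Type u` is van Kampen (special form) -/
lemma isVanKampen_cofan_types {ι : Type u} (X : ι → Type u) (c : Cofan X) (hc : IsColimit c) :
    IsVanKampenColimit c := by
  intro F' c' α f e hα
  -- put `F'` in the form `Discrete.functor X'`
  let X' : ι → Type u := F'.obj ∘ Discrete.mk
  have hF' : F' = Discrete.functor X' :=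
    Functor.hext (fun i ↦ rfl) (by rintro ⟨i⟩ ⟨j⟩ ⟨⟨rfl : i = j⟩⟩; simp [X'])
  clear_value X'
  subst hF'
  have he : ∀ (j : ι) (z : X' j), f (c'.ι.app ⟨j⟩ z) = c.ι.app ⟨j⟩ (α.app ⟨j⟩ z) := by
    intro j z
    have := ConcreteCategory.congr_hom (NatTrans.congr_app e ⟨j⟩) z
    exact this.symm
  constructor
  · rintro ⟨hc'⟩ ⟨j⟩
    rw [Types.isPullback_iff]
    refine ⟨?_, ?_, ?_⟩
    · exact (NatTrans.congr_app e ⟨j⟩).symm
    · rintro z z' ⟨h1, -⟩
      exact Cofan.inj_injective_of_isColimit (c := c') hc' j h1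
    · intro y x hyx
      obtain ⟨k, z, rfl⟩ := Cofan.inj_jointly_surjective_of_isColimit (c := c') hc' y
      have h1 : c.inj k (α.app ⟨k⟩ z) = c.inj j x := (he k z).symm.trans hyx
      obtain rfl := Cofan.eq_of_inj_apply_eq_of_isColimit hc _ _ h1
      exact ⟨z, rfl, Cofan.inj_injective_of_isColimit hc k h1⟩
  · intro H
    rw [Cofan.nonempty_isColimit_iff_bijective_fromSigma (c := c')]
    have H' := fun j => (Types.isPullback_iff _ _ _ _).1 (H ⟨j⟩)
    constructor
    · rintro ⟨j, z⟩ ⟨k, z'⟩ hzz'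
      have hzz : Cofan.inj c' j z = Cofan.inj c' k z' := hzz'
      have h1 : c.inj j (α.app ⟨j⟩ z) = c.inj k (α.app ⟨k⟩ z') := by
        have := congrArg f hzz
        exact (he j z).symm.trans (this.trans (he k z'))
      obtain rfl := Cofan.eq_of_inj_apply_eq_of_isColimit hc _ _ h1
      have h2 := Cofan.inj_injective_of_isColimit hc j h1
      have := (H' j).2.1 z z' ⟨hzz, h2⟩
      rw [this]
    · intro y
      obtain ⟨j, x, hx⟩ := Cofan.inj_jointly_surjective_of_isColimit hc (f y)
      obtain ⟨z, hz, -⟩ := (H' j).2.2 y x hx.symm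
      exact ⟨⟨j, z⟩, hz⟩

lemma isVanKampen_discrete_types {ι : Type u} (G : Discrete ι ⥤ Type u) (c : Cocone G)
    (hc : IsColimit c) : IsVanKampenColimit c := by
  let X : ι → Type u := G.obj ∘ Discrete.mk
  have hG : G = Discrete.functor X :=
    Functor.hext (fun i ↦ rfl) (by rintro ⟨i⟩ ⟨j⟩ ⟨⟨rfl : i = j⟩⟩; simp [X])
  clear_value X
  subst hG
  exact isVanKampen_cofan_types X c hc

variable {C : Type u} [SmallCategory C] (J : GrothendieckTopology C)

/-- colimit cocones over discrete diagrams of presheaves are van Kampen -/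
lemma isVanKampen_discrete_presheaf {ι : Type u} (G : Discrete ι ⥤ Cᵒᵖ ⥤ Type u) (c : Cocone G)
    (hc : IsColimit c) : IsVanKampenColimit c := by
  apply isVanKampenColimit_of_evaluation
  intro W
  exact isVanKampen_discrete_types _ _ (isColimitOfPreserves ((evaluation Cᵒᵖ (Type u)).obj W) hc)

/-- the van Kampen coproduct cofan in sheaves -/
theorem exists_vanKampen_cofan {ι : Type u} (X : ι → Sheaf J (Type u)) :
    ∃ c : Cofan X, IsVanKampenColimit c := by
  let F : Discrete ι ⥤ Sheaf J (Type u) := Discrete.functor X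
  let c₀ : Cocone (F ⋙ sheafToPresheaf J (Type u)) := colimit.cocone _
  have h₀ : IsVanKampenColimit c₀ := isVanKampen_discrete_presheaf _ c₀ (colimit.isColimit _)
  have h₁ : IsVanKampenColimit ((presheafToSheaf J (Type u)).mapCocone c₀) :=
    h₀.map_reflective (sheafificationAdjunction J (Type u))
  let e : F ≅ (F ⋙ sheafToPresheaf J (Type u)) ⋙ presheafToSheaf J (Type u) :=
    (Functor.rightUnitor F).symm ≪≫
      Functor.isoWhiskerLeft F (asIso (sheafificationAdjunction J (Type u)).counit).symm ≪≫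
      (Functor.associator _ _ _).symm
  exact ⟨(Cocone.precompose e.hom).obj ((presheafToSheaf J (Type u)).mapCocone c₀),
    h₁.precompose_isIso e.hom⟩

theorem hasDisjointUniversalCoproducts :
    SGA4.HasDisjointUniversalCoproducts.{u + 1, u} (Sheaf J (Type u)) := by
  intro ι X
  have : HasFiniteColimits (Sheaf J (Type u)) := inferInstance
  have : HasInitial (Sheaf J (Type u)) :=
    hasColimitsOfShape_of_hasFiniteColimits (Sheaf J (Type u)) (Discrete PEmpty.{1})
  obtain ⟨c, hc⟩ := exists_vanKampen_cofan J X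
  refine ⟨c, hc.isColimit, ?_, hc.isUniversal⟩
  have hm : ∀ i, Mono (c.inj i) := fun i => mono_of_cofan_isVanKampen hc ⟨i⟩
  refine CoproductDisjoint.of_cofan hc.isColimit
    (fun {i j} hij => (isPullback_initial_to_of_cofan_isVanKampen hc ⟨i⟩ ⟨j⟩
      (fun h => hij (congrArg Discrete.as h))).cone)
    (fun {i j} hij => (isPullback_initial_to_of_cofan_isVanKampen hc ⟨i⟩ ⟨j⟩
      (fun h => hij (congrArg Discrete.as h))).isLimit)
    (fun {i j} hij => initialIsInitial)

end Groth.Agent.H60.VK
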